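/-
Groups with a `3`-centralizer of shape `3^(1+8).2^(1+6).L`: definitions and the statements of the steps.
-/
import Cfsg.Agent.Grp.ExtraBasic
import Cfsg.Statements.S2914
import Cfsg.Statements.S3368

set_option autoImplicit false

namespace CL.F3C

open Subgroup
open scoped commutatorElement

universe u

abbrev F := ZMod 3

/-! ### The top group `L` -/

section
variable {L : Type*} [Group L]

/-- a frame: `J = 3³`, a Sylow subgroup `J⟨ρ⟩` with centre `⟨c⟩`, an involution `τ` -/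
structure LF (J : Subgroup L) (c j ρ τ : L) : Prop where
  card : Nat.card J = 27
  comm : ∀ a ∈ J, ∀ b ∈ J, Commute a b
  exp : ∀ a ∈ J, a ^ 3 = 1
  cJ : c ∈ J
  jJ : j ∈ J
  c1 : c ≠ 1
  ρ3 : ρ ^ 3 = 1
  ρJ : ∀ a ∈ J, ρ * a * ρ⁻¹ ∈ J
  ρc : Commute ρ c
  ρj : ρ * j * ρ⁻¹ = j * c
  τ2 : τ * τ = 1
  τJ : ∀ a ∈ J, τ * a * τ⁻¹ ∈ J
  τc : Commute τ c
  τj : τ * j * τ⁻¹ = j⁻¹

/-- enough frames with the extra property `X` -/
structure LT (L : Type*) [Group L] (X : Subgroup L → L → L → L → L → Prop) : Prop where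
  syl : ¬ 3 ^ 5 ∣ Nat.card L
  fr : ∀ (P : Subgroup L) (y : L), IsPGroup 3 P → y ∈ P → y ^ 3 = 1 → (∀ p ∈ P, Commute p y) →
    ∃ J c j ρ τ, LF J c j ρ τ ∧ X J c j ρ τ ∧ P ≤ J ⊔ zpowers ρ ∧ (P ≤ J ∨ y ∈ zpowers c)
  ea : ∀ J : Subgroup L, Nat.card J = 27 → (∀ a ∈ J, ∀ b ∈ J, Commute a b) → (∀ a ∈ J, a ^ 3 = 1) →
    ∃ c j ρ τ, LF J c j ρ τ ∧ X J c j ρ τ

/-- the centralizer of `τ` looks like `3 × SL₂(3)` -/
def CT (τ : L) : Prop := Nat.card (centralizer ({τ} : Set L)) = 72 ∧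
  (∃ D : Subgroup L, Nat.card D = 8 ∧ (∀ d ∈ D, Commute d τ) ∧ ∀ g, Commute g τ → ∀ d ∈ D, g * d * g⁻¹ ∈ D) ∧
  ∀ K : Subgroup L, (∀ x, Commute x τ → x ^ 3 = 1 → x ∈ K) → ∀ g, Commute g τ → g ∈ K

/-- the extra property for the top group `3^(1+2):SL₂(3)` -/
def X23 (J : Subgroup L) (c j _ρ τ : L) : Prop :=
  CT τ ∧ ∀ y ∈ J, y ≠ 1 → IsConj y y⁻¹ → ∃ a b : ℕ, ¬ 3 ∣ a ∧ y = j ^ a * c ^ b

end

/-! ### The group `Γ = M / Q` acting on `V = Q / Z` -/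

section
variable {Γ V L : Type*} [Group Γ] [AddCommGroup V] [Module F V] [Group L]

structure GA (r : Γ →* Module.End F V) (β : LinearMap.BilinForm F V) (R : Subgroup Γ) (s : Γ) (π : Γ →* L) : Prop where
  inj : Function.Injective r
  card : Nat.card V = 3 ^ 8
  alt : ∀ v, β v v = 0
  nd : ∀ u, (∀ v, β u v = 0) → u = 0
  inv : ∀ g u v, β (r g u) (r g v) = β u v
  surj : Function.Surjective π
  ker : ∀ g, π g = 1 ↔ g ∈ R
  cardR : Nat.card R = 128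
  s1 : s ≠ 1
  ss : s * s = 1
  sR : s ∈ R
  sc : ∀ g, Commute g s
  sq : ∀ a ∈ R, a * a = 1 ∨ a * a = s
  cm : ∀ a ∈ R, ∀ b ∈ R, a * b = b * a ∨ a * b = s * (b * a)
  cen : ∀ g, (∀ a ∈ R, g * a = a * g ∨ g * a = s * (a * g)) → g ∈ R
  zen : ∀ g ∈ R, (∀ a ∈ R, g * a = a * g) → g = 1 ∨ g = s

/-- representatives of a quaternion group modulo its centre -/
def qw (i j : Γ) : Fin 4 → Γ := ![1, i, j, i * j]

/-- three commuting quaternion groups, with the elements `g a` acting on the `a`-th one -/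
structure Fr0 (R : Subgroup Γ) (s : Γ) (i j : Fin 3 → Γ) (ρ t : Γ) : Prop where
  iR : ∀ a, i a ∈ R
  jR : ∀ a, j a ∈ R
  ii : ∀ a, i a * i a = s
  jj : ∀ a, j a * j a = s
  ji : ∀ a, j a * i a = s * (i a * j a)
  cii : ∀ a b, a ≠ b → Commute (i a) (i b)
  cij : ∀ a b, a ≠ b → Commute (i a) (j b)
  cjj : ∀ a b, a ≠ b → Commute (j a) (j b)
  nf : ∀ g ∈ R, ∃ (e : ℕ) (w : Fin 3 → Fin 4), g = s ^ e * (qw (i 0) (j 0) (w 0) * qw (i 1) (j 1) (w 1) * qw (i 2) (j 2) (w 2))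
  ρ3 : ρ ^ 3 = 1
  ρi : ∀ a, ρ * i a * ρ⁻¹ = i (a + 1)
  ρj : ∀ a, ρ * j a * ρ⁻¹ = j (a + 1)
  ti0 : Commute t (i 0)
  tj0 : Commute t (j 0)
  ti1 : t * i 1 * t⁻¹ = i 2
  tj1 : t * j 1 * t⁻¹ = j 2
  ti2 : t * i 2 * t⁻¹ = i 1
  tj2 : t * j 2 * t⁻¹ = j 1

/-- the product `c₀^k₀ c₁^k₁ c₂^k₂` -/
def cw (c : Fin 3 → Γ) (k : Fin 3 → ℕ) : Γ := c 0 ^ k 0 * c 1 ^ k 1 * c 2 ^ k 2

/-- the nilpotent operator `c - 1` -/
abbrev xo (r : Γ →* Module.End F V) (c : Γ) : Module.End F V := r c - 1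

/-- a frame: `V` is the tensor product of three planes -/
structure Fr (r : Γ →* Module.End F V) (R : Subgroup Γ) (s : Γ) (i j c : Fin 3 → Γ) (ρ t : Γ) (v0 : V) : Prop
    extends Fr0 R s i j ρ t where
  rs : r s = -1
  rc : ∀ a, r (c a) = 1 + r (i a) + r (j a) + r (i a * j a)
  ρv : r ρ v0 = v0
  tt : t * t = 1
  tv : r t v0 = v0
  rt : r t = r (i 1 * i 2) + r (j 1 * j 2) + r (i 1 * j 1 * (i 2 * j 2)) - 1
  w0 : xo r (c 0) (xo r (c 1) (xo r (c 2) v0)) ≠ 0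
  span : ∀ v, ∃ (a d : F) (l m : Fin 3 → F), v = a • v0 + ∑ k, l k • xo r (c k) v0 +
    ∑ k, m k • xo r (c (k + 1)) (xo r (c (k + 2)) v0) + d • xo r (c 0) (xo r (c 1) (xo r (c 2) v0))

/-- a frame over a frame of `L` that fits the `3`-subgroup `P` -/
structure Fit (π : Γ →* L) (J : Subgroup L) (c₀ j₀ ρ₀ τ₀ : L) (P : Subgroup Γ) (c : Fin 3 → Γ) (ρ t : Γ) : Prop where
  cJ : ∀ a, π (c a) ∈ J
  hc : π (c 0 * c 1 * c 2) = c₀
  hj : π (c 1 ^ 2 * c 2) = j₀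
  hρ : π ρ = ρ₀
  ht : ∃ g ∈ J, π t = g * τ₀ * g⁻¹
  inT : ∀ p ∈ P, ∃ k n, p = cw c k * ρ ^ (n : ℕ)
  inJ : ∀ p ∈ P, π p ∈ J → ∃ k, p = cw c k

/-- `y` is an element of order three in the centre of the `3`-group `P` -/
structure Ce (P : Subgroup Γ) (y : Γ) : Prop where
  pg : IsPGroup 3 P
  mem : y ∈ P
  y3 : y ^ 3 = 1
  y1 : y ≠ 1
  cm : ∀ p ∈ P, Commute p y

def B3 (r : Γ →* Module.End F V) (β : LinearMap.BilinForm F V) : Prop := ∀ P y, Ce P y →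
  ∃ v, r y v ≠ v ∧ (∀ p ∈ P, r p (r y v - v) = r y v - v) ∧ β v (r y v) = 0

def B4 (r : Γ →* Module.End F V) (β : LinearMap.BilinForm F V) : Prop := ∀ P y, Ce P y → IsConj y y⁻¹ →
  ((∀ p ∈ P, ∀ p' ∈ P, Commute p p') ∧ ∃ u v, r y u = u ∧ r y v = v ∧ β u v ≠ 0) ∨
  (81 ≤ {v | r y v = v}.ncard ∧ ∀ D ≤ P, y ∈ D → D = zpowers y ∨ {v | ∀ d ∈ D, r d v = v}.ncard * Nat.card D ≤ 81)

def B5 (r : Γ →* Module.End F V) (β : LinearMap.BilinForm F V) : Prop := ∀ (P H : Subgroup Γ) (y : Γ) (q : V), Ce P y →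
  P ≤ H → (∀ P' ≤ H, IsPGroup 3 P' → Nat.card P' ≤ Nat.card P) →
  (∀ g, Commute g y → (∃ u, r g q - q = r y u - u) → g ∈ H) → r y (r y q) + r y q + q = 0 →
  (∀ p ∈ P, ∀ v, r y v = v → β (r p v) q = β v q) →
  (∀ v, (∀ p ∈ P, r y (r p v - v) = r p v - v ∧ β (r p v - v) q = 0) → r y v = v) → (∃ v, r y v = v ∧ β v q ≠ 0) →
  {v | r y v = v ∧ β v q = 0}.ncard ≤ 9 ∧ (∀ u v, r y u = u → r y v = v → β u v = 0) ∧
  ∀ D ≤ P, (∀ d ∈ D, ∀ d' ∈ D, Commute d d') → (∀ p ∈ P, ∀ d ∈ D, p * d * p⁻¹ ∈ D) →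
    (Nat.card D ≤ 9 ∨ ∀ d ∈ D, ∀ v, r y v = v → β v q = 0 → r d v = v) →
    ∀ S : Subgroup (Γ × Γ), (∀ p ∈ P, ∃ d ∈ D, (p, d * p) ∈ S) → (y, y) ∈ S

def B6 (r : Γ →* Module.End F V) (Good : Γ → Prop) : Prop := ∀ (A : Subgroup Γ) (v : V), Nat.card A = 27 →
  (∀ a ∈ A, ∀ b ∈ A, Commute a b) → (∀ a ∈ A, a ^ 3 = 1) → (∀ a ∈ A, r a v = v) → ∃ t, t * t = 1 ∧ Good t ∧ r t v = v

/-- the facts on `Γ` used in the local analysis -/
structure GF (r : Γ →* Module.End F V) (β : LinearMap.BilinForm F V) (s : Γ) (Good : Γ → Prop) : Prop where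
  rs : r s = -1
  syl : ¬ 3 ^ 5 ∣ Nat.card Γ
  b3 : B3 r β
  b4 : B4 r β
  b5 : B5 r β
  b6 : B6 r Good

/-- the facts on the involution `t` that give the hypotheses of the recognition of `Fi₂₂` -/
structure G23 (r : Γ →* Module.End F V) (β : LinearMap.BilinForm F V) (t : Γ) (W : Fin 3 → Submodule F V)
    (D : Subgroup Γ) : Prop where
  cW : ∀ m, Nat.card (W m) = 9
  fix : ∀ m, ∀ v ∈ W m, r t v = v
  sum : ∀ v, r t v = v → ∃ a ∈ W 0, ∃ b ∈ W 1, ∃ c ∈ W 2, v = a + b + c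
  cF : {v | r t v = v}.ncard = 729
  orth : ∀ m n, m ≠ n → ∀ u ∈ W m, ∀ v ∈ W n, β u v = 0
  nd : ∀ m, ∀ u ∈ W m, (∀ v ∈ W m, β u v = 0) → u = 0
  Dt : ∀ d ∈ D, Commute d t
  Dn : ∀ g, Commute g t → ∀ d ∈ D, g * d * g⁻¹ ∈ D
  tD : t ∈ D
  cD : Nat.card D = 256
  cC : Nat.card (centralizer ({t} : Set Γ)) = 256 * 9
  DW : ∀ d ∈ D, ∀ m, ∀ v ∈ W m, r d v ∈ W m
  four : ∀ d ∈ D, ∀ m, ∀ v ∈ W m, r (d ^ 4) v = v
  two : ∀ d ∈ D, ∀ m, (∀ v ∈ W m, r (d ^ 2) v = v) → (∀ v ∈ W m, r d v = v) ∨ ∀ v ∈ W m, r d v = -v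
  inv : ∀ m, ∃ d ∈ D, (∀ v ∈ W m, r d v = -v) ∧ ∀ n, n ≠ m → ∀ v ∈ W n, r d v = v
  fth : ∀ g, Commute g t → (∀ v, r t v = v → r g v = v) → g = 1 ∨ g = t
  o3 : ∀ X : Subgroup Γ, (∀ x ∈ X, Commute x t) → (∀ g, Commute g t → ∀ x ∈ X, g * x * g⁻¹ ∈ X) →
    (∀ x ∈ X, ∃ n : ℕ, x ^ 3 ^ n ∈ zpowers t) → X ≤ zpowers t
  gen : ∀ K : Subgroup Γ, (∀ x, Commute x t → x ^ 3 = 1 → x ∈ K) → ∀ g, Commute g t → g ∈ K
  cj : ∃ a, a * t * a⁻¹ ≠ t ∧ Commute (a * t * a⁻¹) t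

def Good23 (r : Γ →* Module.End F V) (β : LinearMap.BilinForm F V) (t : Γ) : Prop := ∃ W D, G23 r β t W D

end

/-! ### The group `G` -/

section
variable {G Γ V : Type*} [Group G] [Group Γ] [AddCommGroup V] [Module F V]

/-- `p : C(z) → Γ` with kernel `Q`, `φ : Q → V` with kernel `⟨z⟩` -/
structure St (z : G) (Q : Subgroup G) (p : G → Γ) (φ : G → V) (r : Γ →* Module.End F V)
    (β : LinearMap.BilinForm F V) : Prop where
  ord : orderOf z = 3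
  zQ : z ∈ Q
  le : ∀ a ∈ Q, Commute a z
  nrm : ∀ g, g * z * g⁻¹ ∈ zpowers z → ∀ a ∈ Q, g * a * g⁻¹ ∈ Q
  pmul : ∀ a b, Commute a z → Commute b z → p (a * b) = p a * p b
  psurj : ∀ γ, ∃ m, Commute m z ∧ p m = γ
  pker : ∀ m, Commute m z → (p m = 1 ↔ m ∈ Q)
  mul : ∀ a ∈ Q, ∀ b ∈ Q, φ (a * b) = φ a + φ b
  onto : ∀ v, ∃ a ∈ Q, φ a = v
  zero : ∀ a ∈ Q, (φ a = 0 ↔ a ∈ zpowers z)
  act : ∀ m, Commute m z → ∀ a ∈ Q, φ (m * a * m⁻¹) = r (p m) (φ a)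
  com : ∀ a ∈ Q, ∀ b ∈ Q, ⁅a, b⁆ = z ^ (β (φ a) (φ b)).val
  exp : ∀ a ∈ Q, a ^ 3 = 1

/-- `y` generates a conjugate of `⟨z⟩` -/
def T (z y : G) : Prop := ∃ g, g * z * g⁻¹ = y ∨ g * z * g⁻¹ = y⁻¹

/-- the conjugate of `Q` that belongs to `⟨y⟩` -/
def Qy (z : G) (Q : Subgroup G) (y : G) : Subgroup G where
  carrier := {x | ∀ g, g * z * g⁻¹ ∈ zpowers y → g⁻¹ * x * g ∈ Q}
  one_mem' g _ := by simp
  mul_mem' {a b} ha hb g hg := by simpa [mul_assoc] using Q.mul_mem (ha g hg) (hb g hg)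
  inv_mem' {a} ha g hg := by simpa [mul_assoc] using Q.inv_mem (ha g hg)

/-- two distinct commuting conjugates -/
structure Pair (z a b : G) : Prop where
  ta : T z a
  tb : T z b
  cm : Commute a b
  ne : b ∉ zpowers a

/-- weak closure of `⟨z⟩` in `Q` -/
def WC (z : G) (Q : Subgroup G) : Prop := ∀ y ∈ Q, T z y → y ∈ zpowers z

/-- `P` is a `3`-subgroup of largest order among those that centralize a pair -/
structure Mx (z : G) (P : Subgroup G) : Prop where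
  pg : IsPGroup 3 P
  max : ∀ a b, Pair z a b → ∀ P' : Subgroup G, IsPGroup 3 P' → (∀ x ∈ P', Commute x a ∧ Commute x b) →
    Nat.card P' ≤ Nat.card P

/-- the conjugates centralized by `P` -/
def Om (z : G) (P : Subgroup G) (a : G) : Prop := T z a ∧ ∀ x ∈ P, Commute x a

/-- type II -/
def T2 (z : G) (Q : Subgroup G) (a b : G) : Prop := ∃ e ∈ Qy z Q a, e * b * e⁻¹ = b * a

/-- the output of the local analysis -/
structure Two (z t y e e' : G) : Prop where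
  tt : t * t = 1
  tz : Commute t z
  ty : Commute t y
  zy : Commute z y
  ne : y ∉ zpowers z
  y3 : y ^ 3 = 1
  et : Commute e t
  et' : Commute e' t
  e3 : e ^ 3 = 1
  e3' : e' ^ 3 = 1
  ez : Commute e z
  ey : e * y * e⁻¹ = y * z
  ey' : Commute e' y
  ez' : e' * z * e'⁻¹ = z * y

end

/-! ### The steps -/

/-- all data -/
def All (P : ∀ (G Γ V L : Type u) [Group G] [Group Γ] [AddCommGroup V] [Module F V] [Group L] (_ : G) (_ : Subgroup G)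
    (_ : G → Γ) (_ : G → V) (_ : Γ →* Module.End F V) (_ : LinearMap.BilinForm F V) (_ : Γ), Prop) : Prop :=
  ∀ (G Γ V L : Type u) [Group G] [Finite G] [Group Γ] [Finite Γ] [AddCommGroup V] [Module F V] [Finite V] [Group L]
    (z : G) (Q : Subgroup G) (p : G → Γ) (φ : G → V) (r : Γ →* Module.End F V) (β : LinearMap.BilinForm F V)
    (R : Subgroup Γ) (s : Γ) (π : Γ →* L), St z Q p φ r β → GA r β R s π → P G Γ V L z Q p φ r β s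

/-- all data on the level of `Γ` -/
def AllΓ (P : ∀ (Γ V L : Type u) [Group Γ] [AddCommGroup V] [Module F V] [Group L] (_ : Γ →* Module.End F V)
    (_ : LinearMap.BilinForm F V) (_ : Subgroup Γ) (_ : Γ) (_ : Γ →* L), Prop) : Prop :=
  ∀ (Γ V L : Type u) [Group Γ] [Finite Γ] [AddCommGroup V] [Module F V] [Finite V] [Group L] [Finite L]
    (r : Γ →* Module.End F V) (β : LinearMap.BilinForm F V) (R : Subgroup Γ) (s : Γ) (π : Γ →* L),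
    GA r β R s π → P Γ V L r β R s π

/-- the top group -/
def LThm : Prop := ∀ (L : Type u) [Group L] [Finite L] (K : Type) [Field K] [Fintype K] (x : Cfsg.PSp 2 K),
  Fintype.card K = 3 → orderOf x = 3 → (∃ P : Sylow 3 (Cfsg.PSp 2 K), (P : Subgroup _) ≤ centralizer {x}) →
  Nonempty (L ≃* centralizer ({x} : Set (Cfsg.PSp 2 K))) → LT L X23

/-- the quaternion groups; `ĉ`, `ĵ` are the lifts of `c`, `j` in the lift `Ĵ` of `J` -/
def Fr0Thm : Prop := AllΓ.{u} fun Γ _ L _ _ _ _ _ _ R s π => ∀ (J : Subgroup L) (c₀ j₀ ρ₀ τ₀ : L) (P : Subgroup Γ),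
  LF J c₀ j₀ ρ₀ τ₀ → IsPGroup 3 P → P.map π ≤ J ⊔ zpowers ρ₀ →
  ∃ (i j c : Fin 3 → Γ) (ρ t : Γ), Fr0 R s i j ρ t ∧ Fit π J c₀ j₀ ρ₀ τ₀ P c ρ t ∧
    (∀ a, c a ^ 3 = 1 ∧ c a * i a * (c a)⁻¹ = j a ∧ c a * j a * (c a)⁻¹ = i a * j a ∧
      ∀ b, a ≠ b → Commute (c a) (i b) ∧ Commute (c a) (j b))

/-- frames exist -/
def FrThm : Prop := AllΓ.{u} fun Γ V L _ _ _ _ r _ R s π => ∀ (J : Subgroup L) (c₀ j₀ ρ₀ τ₀ : L) (P : Subgroup Γ),
  LF J c₀ j₀ ρ₀ τ₀ → IsPGroup 3 P → P.map π ≤ J ⊔ zpowers ρ₀ →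
  ∃ (i j c : Fin 3 → Γ) (ρ t : Γ) (v0 : V), Fr r R s i j c ρ t v0 ∧ Fit π J c₀ j₀ ρ₀ τ₀ P c ρ t

def B3Thm : Prop := AllΓ.{u} fun _ _ L _ _ _ _ r β _ s _ => ∀ X, LT L X → r s = -1 ∧ B3 r β

def B4Thm : Prop := AllΓ.{u} fun _ _ L _ _ _ _ r β _ _ _ => LT L X23 → B4 r β

def B5Thm : Prop := AllΓ.{u} fun _ _ L _ _ _ _ r β _ _ _ => ∀ X, LT L X → B5 r β

/-- a vector fixed by `3³` is fixed by the involution of a frame -/
def B6Thm : Prop := AllΓ.{u} fun Γ V L _ _ _ _ r _ R s π => ∀ X, LT L X → B6 r fun t =>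
  ∃ (i j c : Fin 3 → Γ) (ρ : Γ) (v0 : V) (J : Subgroup L) (c₀ j₀ ρ₀ τ₀ : L), Fr r R s i j c ρ t v0 ∧
    LF J c₀ j₀ ρ₀ τ₀ ∧ X J c₀ j₀ ρ₀ τ₀ ∧ Fit π J c₀ j₀ ρ₀ τ₀ ⊥ c ρ t

def GoodThm : Prop := AllΓ.{u} fun Γ V _ _ _ _ _ r β R s π => ∀ (i j c : Fin 3 → Γ) (ρ t : Γ) (v0 : V),
  Fr r R s i j c ρ t v0 → CT (π t) → Good23 r β t

/-- the normalizer of `P` is transitive on the conjugates centralized by `P` -/
def TrThm : Prop := All.{u} fun G _ _ _ _ _ _ _ _ z _ _ _ _ _ _ => ∀ (P : Subgroup G) (a b : G), Mx z P → Pair z a b →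
  Om z P a → Om z P b → ∃ n, (∀ x, x ∈ P ↔ n * x * n⁻¹ ∈ P) ∧ n * a * n⁻¹ ∈ zpowers b

/-- all pairs have type II -/
def T1Thm : Prop := All.{u} fun G Γ _ _ _ _ _ _ _ z Q _ _ r β s => ∀ Good : Γ → Prop, GF r β s Good → WC z Q →
  ∀ (P : Subgroup G) (a b : G), Mx z P → Pair z a b → Om z P a → Om z P b → T2 z Q a b

/-- not all pairs have type II -/
def T2Thm : Prop := All.{u} fun G Γ _ _ _ _ _ _ _ z Q _ _ r β s => ∀ Good : Γ → Prop, GF r β s Good → WC z Q →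
  ∀ (P : Subgroup G) (b : G), Mx z P → Pair z z b → Om z P z → Om z P b →
  ¬ ∀ a b, Pair z a b → Om z P a → Om z P b → T2 z Q a b

def TwoThm : Prop := All.{u} fun G Γ _ _ _ _ _ _ _ z Q p _ r β s => ∀ Good : Γ → Prop, GF r β s Good → ¬ WC z Q →
  ∃ t y e e' : G, Two z t y e e' ∧ Good (p t)

/-- the quotient `C(t) / ⟨t⟩` -/
def KThm : Prop := type_of% @Cfsg.CfsgFrozen.S3368.{u} → All.{u} fun G _ _ _ _ _ _ _ _ z _ p _ r β _ =>
  ∀ t y e e' : G, Two z t y e e' → Good23 r β (p t) →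
  ∀ [((zpowers t).subgroupOf (centralizer {t})).Normal],
    Cfsg.Spor.IsoFi22 (centralizer ({t} : Set G) ⧸ (zpowers t).subgroupOf (centralizer {t})) ∨
    Nonempty ((centralizer ({t} : Set G) ⧸ (zpowers t).subgroupOf (centralizer {t})) ≃* MulAut Cfsg.Spor.Fi22)

def FinThm : Prop := All.{u} fun G _ _ _ _ _ _ _ _ z _ p _ r β _ =>
  ∀ t y e e' : G, Two z t y e e' → Good23 r β (p t) →
  (∀ [((zpowers t).subgroupOf (centralizer {t})).Normal],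
    Cfsg.Spor.IsoFi22 (centralizer ({t} : Set G) ⧸ (zpowers t).subgroupOf (centralizer {t})) ∨
    Nonempty ((centralizer ({t} : Set G) ⧸ (zpowers t).subgroupOf (centralizer {t})) ≃* MulAut Cfsg.Spor.Fi22)) →
  Cfsg.Spor.IsoFi23 G

open Cfsg in
/-- the data from the hypotheses (valid for every top group) -/
def SetThm : Prop := ∀ (G : Type u) [Group G] [Finite G] (Z : Subgroup G), Nat.card Z = 3 →
  IsExtraspecial 3 (generalizedFittingSubgroup (centralizer (Z : Set G))) →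
  Nat.card (generalizedFittingSubgroup (centralizer (Z : Set G))) = 3 ^ 9 →
  ∀ [(generalizedFittingSubgroup (centralizer (Z : Set G))).Normal],
  (∀ x ∈ generalizedFittingSubgroup (centralizer (Z : Set G)), x ^ 3 = 1) →
  generalizedFittingSubgroup (centralizer (Z : Set G) ⧸ generalizedFittingSubgroup (centralizer (Z : Set G))) =
    pCore 2 (centralizer (Z : Set G) ⧸ generalizedFittingSubgroup (centralizer (Z : Set G))) →
  IsExtraspecial 2 (pCore 2 (centralizer (Z : Set G) ⧸ generalizedFittingSubgroup (centralizer (Z : Set G)))) →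
  Nat.card (pCore 2 (centralizer (Z : Set G) ⧸ generalizedFittingSubgroup (centralizer (Z : Set G)))) = 2 ^ 7 →
  ∀ [(pCore 2 (centralizer (Z : Set G) ⧸ generalizedFittingSubgroup (centralizer (Z : Set G)))).Normal],
  ∃ (z : G) (Q : Subgroup G) (V : Type u) (_ : AddCommGroup V) (_ : Module F V) (_ : Finite V)
    (p : G → centralizer (Z : Set G) ⧸ generalizedFittingSubgroup (centralizer (Z : Set G))) (φ : G → V)
    (r : _ →* Module.End F V) (β : LinearMap.BilinForm F V) (s : _), Z = zpowers z ∧ St z Q p φ r β ∧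
    GA r β (pCore 2 _) s (QuotientGroup.mk' (pCore 2 _))

end CL.F3C
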