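/-
Groups with a `3`-centralizer of shape `3^(1+8).2^(1+6).L`: basic lemmas.
-/
import Cfsg.Agent.F3C.Defs

set_option autoImplicit false
set_option linter.unusedSectionVars false

namespace CL.F3C

open Subgroup
open scoped commutatorElement

variable {G Γ V L : Type*} [Group G] [Group Γ] [AddCommGroup V] [Module F V] [Group L]
  {z : G} {Q : Subgroup G} {p : G → Γ} {φ : G → V} {r : Γ →* Module.End F V} {β : LinearMap.BilinForm F V}
  {R : Subgroup Γ} {s : Γ} {π : Γ →* L} {a b g x y t : G} {P : Subgroup G}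

instance : Fact (Nat.Prime 3) := ⟨by norm_num⟩

theorem zp3 (h : z ^ 3 = 1) : x ∈ zpowers z ↔ x = 1 ∨ x = z ∨ x = z⁻¹ := by
  refine ⟨fun ⟨n, hn⟩ => ?_, by rintro (rfl | rfl | rfl) <;> simp⟩
  have h' : z ^ (3 : ℤ) = 1 := by exact_mod_cast h
  have e : z ^ n = z ^ (n % 3) := by conv_lhs => rw [← Int.mul_ediv_add_emod n 3, zpow_add, zpow_mul, h', one_zpow, one_mul]
  have h2 : z ^ (2 : ℤ) = z⁻¹ := eq_inv_of_mul_eq_one_left (by rw [← zpow_add_one]; exact h')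
  have : n % 3 = 0 ∨ n % 3 = 1 ∨ n % 3 = 2 := by omega
  dsimp only at hn
  rcases this with k | k | k <;> simp [← hn, e, k, h2]

theorem T.refl : T z z := ⟨1, .inl (by simp)⟩
theorem T.inv (h : T z y) : T z y⁻¹ := let ⟨g, h⟩ := h; ⟨g, by simpa using h.symm⟩
theorem T.conj (h : T z y) (k : G) : T z (k * y * k⁻¹) :=
  let ⟨g, h⟩ := h; ⟨k * g, h.imp (fun e => by rw [← e]; group) fun e => by
    rw [show k * g * z * (k * g)⁻¹ = k * (g * z * g⁻¹) * k⁻¹ by group, e]; group⟩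

theorem mem_Qy : x ∈ Qy z Q y ↔ ∀ g, g * z * g⁻¹ ∈ zpowers y → g⁻¹ * x * g ∈ Q := Iff.rfl

theorem Qy_inv : Qy z Q y⁻¹ = Qy z Q y := by ext x; simp [mem_Qy]

theorem conj_zp (k : G) (h : x ∈ zpowers y) : k * x * k⁻¹ ∈ zpowers (k * y * k⁻¹) := by
  obtain ⟨n, rfl⟩ := h
  exact ⟨n, by simp [conj_zpow]⟩

theorem conj_zp_iff (k : G) : k * x * k⁻¹ ∈ zpowers (k * y * k⁻¹) ↔ x ∈ zpowers y :=
  ⟨fun h => by simpa [mul_assoc] using conj_zp k⁻¹ h, conj_zp k⟩

theorem Qy_conj (k : G) (h : x ∈ Qy z Q y) : k * x * k⁻¹ ∈ Qy z Q (k * y * k⁻¹) := fun g hg => by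
  have := h (k⁻¹ * g) (by simpa [mul_assoc] using conj_zp k⁻¹ hg)
  simpa [mul_assoc] using this

theorem Qy_conj_iff (k : G) : k * x * k⁻¹ ∈ Qy z Q (k * y * k⁻¹) ↔ x ∈ Qy z Q y :=
  ⟨fun h => by simpa [mul_assoc] using Qy_conj k⁻¹ h, Qy_conj k⟩

theorem Pair.conj (h : Pair z a b) (k : G) : Pair z (k * a * k⁻¹) (k * b * k⁻¹) :=
  ⟨h.ta.conj k, h.tb.conj k, h.cm.map (MulAut.conj k), fun e => h.ne ((conj_zp_iff k).1 e)⟩

theorem Pair.inv_left (h : Pair z a b) : Pair z a⁻¹ b := ⟨h.ta.inv, h.tb, h.cm.inv_left, by simpa using h.ne⟩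
theorem Pair.inv_right (h : Pair z a b) : Pair z a b⁻¹ := ⟨h.ta, h.tb.inv, h.cm.inv_right, by simpa using h.ne⟩
theorem Om.inv (h : Om z P a) : Om z P a⁻¹ := ⟨h.1.inv, fun x hx => (h.2 x hx).inv_right⟩

/-- the conjugate of a subgroup -/
abbrev cjg (k : G) (P : Subgroup G) : Subgroup G := P.map (MulAut.conj k).toMonoidHom

theorem mem_cjg {k : G} : x ∈ cjg k P ↔ k⁻¹ * x * k ∈ P :=
  ⟨by rintro ⟨w, hw, rfl⟩; simpa [mul_assoc] using hw, fun h => ⟨_, h, by simp [mul_assoc]⟩⟩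

theorem card_cjg (k : G) : Nat.card (cjg k P) = Nat.card P := card_map_of_injective (MulAut.conj k).injective

theorem Om.conj (h : Om z P a) (k : G) : Om z (cjg k P) (k * a * k⁻¹) :=
  ⟨h.1.conj k, by rintro _ ⟨w, hw, rfl⟩; exact (h.2 w hw).map (MulAut.conj k)⟩

theorem Mx.conj (h : Mx z P) (k : G) : Mx z (cjg k P) :=
  ⟨h.pg.map _, fun a b hab P' h1 h2 => (card_cjg k).symm ▸ h.max a b hab P' h1 h2⟩

theorem T2.conj (h : T2 z Q a b) (k : G) : T2 z Q (k * a * k⁻¹) (k * b * k⁻¹) :=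
  let ⟨e, h1, h2⟩ := h; ⟨_, Qy_conj k h1, by rw [conj_mul (a := b), ← h2]; group⟩

/-- a `3`-subgroup normalized by `P` that centralizes a pair lies in `P` -/
theorem Mx.le [Finite G] (h : Mx z P) (hab : Pair z a b) (ha : Om z P a) (hb : Om z P b) {A : Subgroup G}
    (hA : IsPGroup 3 A) (hn : ∀ x ∈ P, ∀ w ∈ A, x * w * x⁻¹ ∈ A) (hc : ∀ w ∈ A, Commute w a ∧ Commute w b) : A ≤ P := by
  have h1 : IsPGroup 3 ↥(A ⊔ P) := hA.to_sup_of_normal_left' h.pg fun x hx => mem_normalizer_fintype (hn x hx)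
  have h2 : A ⊔ P ≤ centralizer {a} ⊓ centralizer {b} := sup_le
    (fun w hw => ⟨mem_centralizer_singleton_iff.2 (hc w hw).1, mem_centralizer_singleton_iff.2 (hc w hw).2⟩)
    fun w hw => ⟨mem_centralizer_singleton_iff.2 (ha.2 w hw), mem_centralizer_singleton_iff.2 (hb.2 w hw)⟩
  exact le_sup_left.trans (eq_of_le_of_card_ge le_sup_right (h.max a b hab _ h1 fun x hx =>
    ⟨mem_centralizer_singleton_iff.1 (h2 hx).1, mem_centralizer_singleton_iff.1 (h2 hx).2⟩)).ge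

theorem GA.skew (A : GA r β R s π) (u v : V) : β u v = -β v u := by
  have := A.alt (u + v)
  simp only [map_add, LinearMap.add_apply, A.alt] at this
  linear_combination this

namespace St

variable (h : St z Q p φ r β)
include h

theorem z3 : z ^ 3 = 1 := h.ord ▸ pow_orderOf_eq_one z
theorem z1 : z ≠ 1 := fun e => by have := h.ord; rw [e, orderOf_one] at this; omega
theorem Z_le (hx : x ∈ zpowers z) : x ∈ Q := zpowers_le.2 h.zQ hx
theorem zc (hx : x ∈ zpowers z) (hg : Commute g z) : Commute g x := by obtain ⟨n, rfl⟩ := hx; exact hg.zpow_right n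
theorem conj_mem (hg : Commute g z) (ha : a ∈ Q) : g * a * g⁻¹ ∈ Q :=
  h.nrm g (by rw [hg.eq, mul_inv_cancel_right]; exact mem_zpowers z) a ha
theorem isPGroup : IsPGroup 3 Q := fun a => ⟨1, Subtype.ext (h.exp a a.2)⟩

theorem Tord (hy : T z y) : orderOf y = 3 := by
  obtain ⟨g, e | e⟩ := hy
  · rw [← e, ← h.ord]; exact (MulAut.conj g).orderOf_eq z
  · rw [← orderOf_inv, ← e, ← h.ord]; exact (MulAut.conj g).orderOf_eq z

theorem T3 (hy : T z y) : y ^ 3 = 1 := h.Tord hy ▸ pow_orderOf_eq_one y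
theorem T1 (hy : T z y) : y ≠ 1 := fun e => by have := h.Tord hy; rw [e, orderOf_one] at this; omega

theorem T_of_zp (hy : T z y) (hx : x ∈ zpowers y) (h1 : x ≠ 1) : T z x := by
  rcases (zp3 (h.T3 hy)).1 hx with e | rfl | rfl
  exacts [absurd e h1, hy, hy.inv]

theorem zp_symm (hy : T z y) (hx : x ∈ zpowers y) (h1 : x ≠ 1) : y ∈ zpowers x := by
  rcases (zp3 (h.T3 hy)).1 hx with e | rfl | rfl
  exacts [absurd e h1, mem_zpowers _, by simp]

theorem pair_symm (hab : Pair z a b) : Pair z b a :=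
  ⟨hab.tb, hab.ta, hab.cm.symm, fun e => hab.ne (h.zp_symm hab.tb e (h.T1 hab.ta))⟩

theorem Qy_z : Qy z Q z = Q := by
  ext x
  refine ⟨fun hx => by simpa using hx 1 (by simp), fun hx g hg => ?_⟩
  have h1 : g * z * g⁻¹ ≠ 1 := fun e => h.z1 (by simpa [mul_assoc] using congrArg (g⁻¹ * · * g) e)
  simpa using h.nrm g⁻¹ (by
    have := conj_zp g⁻¹ (h.zp_symm T.refl hg h1)
    rw [show g⁻¹ * (g * z * g⁻¹) * g⁻¹⁻¹ = z by group] at this
    exact this) x hx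

theorem mem_Qy_conj : x ∈ Qy z Q (g * z * g⁻¹) ↔ g⁻¹ * x * g ∈ Q := by
  rw [← Qy_conj_iff g⁻¹, show g⁻¹ * (g * z * g⁻¹) * g⁻¹⁻¹ = z by group, h.Qy_z, inv_inv]

/-- to prove a statement on `y` and `Qy z Q y` it is enough to consider `y = g z g⁻¹` -/
theorem T_cases (hy : T z y) : ∃ g, (y = g * z * g⁻¹ ∨ y = (g * z * g⁻¹)⁻¹) ∧ zpowers y = zpowers (g * z * g⁻¹) ∧
    ∀ x, x ∈ Qy z Q y ↔ g⁻¹ * x * g ∈ Q := by
  obtain ⟨g, e | e⟩ := hy
  · exact ⟨g, .inl e.symm, by rw [e], fun x => by rw [← e, h.mem_Qy_conj]⟩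
  · exact ⟨g, .inr (by rw [e, inv_inv]), by rw [e, zpowers_inv], fun x => by rw [← Qy_inv, ← e, h.mem_Qy_conj]⟩

theorem self_Qy (hy : T z y) : y ∈ Qy z Q y := fun g hg => by
  have h1 : g * z * g⁻¹ ≠ 1 := fun e => h.z1 (by simpa [mul_assoc] using congrArg (g⁻¹ * · * g) e)
  have := conj_zp g⁻¹ (h.zp_symm hy hg h1)
  rw [show g⁻¹ * (g * z * g⁻¹) * g⁻¹⁻¹ = z by group, inv_inv] at this
  exact h.Z_le this

theorem Qy_exp (hy : T z y) (hx : x ∈ Qy z Q y) : x ^ 3 = 1 := by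
  obtain ⟨g, -, -, k⟩ := h.T_cases hy
  have := h.exp _ ((k x).1 hx)
  rw [show g⁻¹ * x * g = g⁻¹ * x * g⁻¹⁻¹ by simp, conj_pow] at this
  simpa [mul_assoc] using congrArg (g * · * g⁻¹) this

theorem Qy_comm (hy : T z y) (hx : x ∈ Qy z Q y) : Commute x y := by
  obtain ⟨g, e, -, k⟩ := h.T_cases hy
  have : Commute x (g * z * g⁻¹) := by simpa [mul_assoc] using (h.le _ ((k x).1 hx)).map (MulAut.conj g)
  rcases e with rfl | rfl
  exacts [this, this.inv_right]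

theorem com_mem (ha : a ∈ Q) (hb : b ∈ Q) : ⁅a, b⁆ ∈ zpowers z := h.com a ha b hb ▸ pow_mem (mem_zpowers z) _

theorem Qy_com (hy : T z y) (ha : a ∈ Qy z Q y) (hb : b ∈ Qy z Q y) : ⁅a, b⁆ ∈ zpowers y := by
  obtain ⟨g, -, e, k⟩ := h.T_cases hy
  rw [e]
  simpa [commutatorElement_def, mul_assoc] using conj_zp g (h.com_mem ((k a).1 ha) ((k b).1 hb))

/-- elements that normalize `⟨y⟩` normalize `Qy` -/
theorem Qy_nrm (hy : T z y) (hg : g * y * g⁻¹ ∈ zpowers y) (hx : x ∈ Qy z Q y) : g * x * g⁻¹ ∈ Qy z Q y := by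
  have := Qy_conj g hx
  rcases (zp3 (h.T3 hy)).1 hg with e | e | e
  · exact absurd e (h.T1 (hy.conj g))
  · rwa [e] at this
  · rwa [e, Qy_inv] at this

theorem wc (w : WC z Q) (ha : T z a) (hb : T z b) (hab : b ∈ Qy z Q a) : b ∈ zpowers a := by
  obtain ⟨g, -, e, k⟩ := h.T_cases ha
  rw [e]
  simpa [mul_assoc] using conj_zp g (w _ ((k b).1 hab) (by simpa using hb.conj g⁻¹))

theorem om_mem [Finite G] (hP : Mx z P) (hab : Pair z a b) (ha : Om z P a) (hb : Om z P b) (hy : Om z P y)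
    (ya : Commute y a) (yb : Commute y b) : y ∈ P :=
  hP.le hab ha hb (A := zpowers y) (IsPGroup.of_card (n := 1) (by rw [Nat.card_zpowers, h.Tord hy.1]; rfl))
    (fun x hx w hw => by
      obtain ⟨n, rfl⟩ := hw
      rw [((hy.2 x hx).zpow_right n).eq, mul_inv_cancel_right]; exact ⟨n, rfl⟩)
    (by rintro _ ⟨n, rfl⟩; exact ⟨ya.zpow_left n, yb.zpow_left n⟩) (mem_zpowers y)

/-- the members of a pair in `Ω` lie in `P`; so every element of `Ω` does -/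
theorem om_mem' [Finite G] (hP : Mx z P) (hab : Pair z a b) (ha : Om z P a) (hb : Om z P b) (hy : Om z P y) : y ∈ P :=
  h.om_mem hP hab ha hb hy (hy.2 a (h.om_mem hP hab ha hb ha (.refl a) hab.cm)).symm
    (hy.2 b (h.om_mem hP hab ha hb hb hab.cm.symm (.refl b))).symm

/-- `p` as a homomorphism -/
def ph : centralizer ({z} : Set G) →* Γ := MonoidHom.mk' (fun m => p m) fun a b =>
  h.pmul _ _ (mem_centralizer_singleton_iff.1 a.2) (mem_centralizer_singleton_iff.1 b.2)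

theorem p_one : p 1 = 1 := h.ph.map_one
theorem p_inv (ha : Commute a z) : p a⁻¹ = (p a)⁻¹ := h.ph.map_inv ⟨a, mem_centralizer_singleton_iff.2 ha⟩
theorem p_pow (ha : Commute a z) (n : ℕ) : p (a ^ n) = p a ^ n := h.ph.map_pow ⟨a, mem_centralizer_singleton_iff.2 ha⟩ n
theorem p_conj (hg : Commute g z) (ha : Commute a z) : p (g * a * g⁻¹) = p g * p a * (p g)⁻¹ := by
  rw [h.pmul _ _ (hg.mul_left ha) hg.inv_left, h.pmul _ _ hg ha, h.p_inv hg]
theorem p_Q (ha : a ∈ Q) : p a = 1 := (h.pker a (h.le a ha)).2 ha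
theorem p_eq (ha : Commute a z) (hb : Commute b z) : p a = p b ↔ a * b⁻¹ ∈ Q := by
  rw [← h.pker _ (ha.mul_left hb.inv_left), h.pmul _ _ ha hb.inv_left, h.p_inv hb, mul_inv_eq_one]
theorem p_comm (ha : Commute a z) (hb : Commute b z) (hab : Commute a b) : Commute (p a) (p b) := by
  rw [Commute, SemiconjBy, ← h.pmul _ _ ha hb, hab.eq, h.pmul _ _ hb ha]

theorem φ_one : φ 1 = 0 := (h.zero 1 (one_mem _)).2 (one_mem _)
theorem φ_Z (hx : x ∈ zpowers z) : φ x = 0 := (h.zero x (h.Z_le hx)).2 hx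
theorem φ_inv (ha : a ∈ Q) : φ a⁻¹ = -φ a :=
  eq_neg_of_add_eq_zero_left (by rw [← h.mul _ (inv_mem ha) _ ha, inv_mul_cancel, h.φ_one])
theorem φ_pow (ha : a ∈ Q) (n : ℕ) : φ (a ^ n) = n • φ a := by
  induction n with
  | zero => simp [h.φ_one]
  | succ n ih => rw [pow_succ, h.mul _ (pow_mem ha n) _ ha, ih, succ_nsmul]
theorem φ_eq (ha : a ∈ Q) (hb : b ∈ Q) : φ a = φ b ↔ a * b⁻¹ ∈ zpowers z := by
  rw [← h.zero _ (mul_mem ha (inv_mem hb)), h.mul _ ha _ (inv_mem hb), h.φ_inv hb, add_neg_eq_zero]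

theorem comm_iff (ha : a ∈ Q) (hb : b ∈ Q) : Commute a b ↔ β (φ a) (φ b) = 0 := by
  rw [← commutatorElement_eq_one_iff_commute, h.com a ha b hb, ← orderOf_dvd_iff_pow_eq_one, h.ord,
    ← ZMod.natCast_eq_zero_iff, ZMod.natCast_zmod_val]

/-- `C(Q) = ⟨z⟩` -/
theorem cent (A : GA r β R s π) (hg : ∀ a ∈ Q, Commute g a) : g ∈ zpowers z := by
  have h1 := hg z h.zQ
  have h2 : g ∈ Q := (h.pker g h1).1 (A.inj (by
    rw [map_one]
    ext v
    obtain ⟨a, ha, rfl⟩ := h.onto v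
    rw [← h.act g h1 a ha, (hg a ha).eq, mul_inv_cancel_right]; rfl))
  refine (h.zero g h2).1 (A.nd _ fun v => ?_)
  obtain ⟨a, ha, rfl⟩ := h.onto v
  exact (h.comm_iff h2 ha).1 (hg a ha)

/-- the image of a subgroup of `C(z)` -/
def im (P : Subgroup G) : Subgroup Γ := (P.subgroupOf (centralizer {z})).map h.ph

theorem mem_im (hP : ∀ x ∈ P, Commute x z) {γ : Γ} : γ ∈ h.im P ↔ ∃ x ∈ P, p x = γ :=
  ⟨fun ⟨x, h1, h2⟩ => ⟨x, h1, h2⟩, fun ⟨x, h1, h2⟩ => ⟨⟨x, mem_centralizer_singleton_iff.2 (hP x h1)⟩, h1, h2⟩⟩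

theorem im_pg (hP : IsPGroup 3 P) : IsPGroup 3 (h.im P) := (hP.comap_subtype).map _

theorem card_im (hP : ∀ x ∈ P, Commute x z) : Nat.card P = Nat.card (h.im P) * Nat.card ↥(P ⊓ Q) := by
  have hle : P ≤ centralizer {z} := fun x hx => mem_centralizer_singleton_iff.2 (hP x hx)
  let f : P →* Γ := h.ph.comp (inclusion hle)
  have h1 : f.range = h.im P := by
    ext γ
    rw [h.mem_im hP]
    exact ⟨fun ⟨x, e⟩ => ⟨x, x.2, e⟩, fun ⟨x, hx, e⟩ => ⟨⟨x, hx⟩, e⟩⟩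
  have h2 : f.ker = (P ⊓ Q).subgroupOf P := by
    ext x
    rw [MonoidHom.mem_ker, mem_subgroupOf, mem_inf]
    exact (h.pker x (hP x x.2)).trans ⟨fun e => ⟨x.2, e⟩, And.right⟩
  rw [← h1, ← Nat.card_congr (subgroupOfEquivOfLe (inf_le_left : P ⊓ Q ≤ P)).toEquiv, ← h2,
    ← Nat.card_congr (QuotientGroup.quotientKerEquivRange f).toEquiv, card_eq_card_quotient_mul_card_subgroup]

/-- a subgroup of `Q` that contains `z` has three times as many elements as its image in `V` -/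
theorem card_φ {A : Subgroup G} (hA : A ≤ Q) : Nat.card A = (φ '' A).ncard * Nat.card ↥(A ⊓ zpowers z) := by
  let f : A →* Multiplicative V := MonoidHom.mk' (fun a => Multiplicative.ofAdd (φ a)) fun a b =>
    congrArg Multiplicative.ofAdd (h.mul _ (hA a.2) _ (hA b.2))
  have h1 : Nat.card f.range = (φ '' A).ncard := Nat.card_congr (Equiv.subtypeEquiv Multiplicative.toAdd fun v =>
    ⟨fun ⟨x, e⟩ => ⟨x, x.2, e⟩, fun ⟨x, hx, e⟩ => ⟨⟨x, hx⟩, e⟩⟩)
  have h2 : f.ker = (A ⊓ zpowers z).subgroupOf A := by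
    ext x
    rw [MonoidHom.mem_ker, mem_subgroupOf, mem_inf]
    exact (h.zero x (hA x.2)).trans ⟨fun e => ⟨x.2, e⟩, And.right⟩
  rw [← h1, ← Nat.card_congr (subgroupOfEquivOfLe (inf_le_left : A ⊓ zpowers z ≤ A)).toEquiv, ← h2,
    ← Nat.card_congr (QuotientGroup.quotientKerEquivRange f).toEquiv, card_eq_card_quotient_mul_card_subgroup]

theorem card_Z : Nat.card (zpowers z) = 3 := by rw [Nat.card_zpowers, h.ord]

theorem card_Q (A : GA r β R s π) : Nat.card Q = 3 ^ 9 := by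
  rw [h.card_φ le_rfl, inf_eq_right.2 (zpowers_le.2 h.zQ), h.card_Z,
    Set.eq_univ_of_forall (s := φ '' Q) h.onto, Set.ncard_univ, A.card]; rfl

/-- involutions lift -/
theorem lift2 {γ : Γ} (hγ : γ * γ = 1) : ∃ t, t * t = 1 ∧ Commute t z ∧ p t = γ := by
  obtain ⟨m, hm, rfl⟩ := h.psurj γ
  refine ⟨m ^ 3, ?_, hm.pow_left 3, by rw [h.p_pow hm, pow_succ', sq, hγ, mul_one]⟩
  rw [← h.exp (m * m) ((h.pker _ (hm.mul_left hm)).1 (by rw [h.pmul _ _ hm hm, hγ])), (Commute.refl m).mul_pow]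

/-- two involutions over the same element are conjugate under `Q` -/
theorem conj2 {t' : G} (tt : t * t = 1) (tz : Commute t z) (tt' : t' * t' = 1) (tz' : Commute t' z) (e : p t' = p t) :
    ∃ w ∈ Q, w * t * w⁻¹ = t' := by
  have i1 : t⁻¹ = t := inv_eq_of_mul_eq_one_right tt
  have i2 : t'⁻¹ = t' := inv_eq_of_mul_eq_one_right tt'
  have hw : t' * t ∈ Q := i1 ▸ (h.p_eq tz' tz).1 e
  refine ⟨(t' * t) ^ 2, pow_mem hw 2, ?_⟩
  calc (t' * t) ^ 2 * t * ((t' * t) ^ 2)⁻¹ = t' * t * t' * (t * t) * (t * t') * (t * t') := by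
        rw [← inv_pow, mul_inv_rev, i1, i2, sq, sq]; group
    _ = (t' * t) ^ 3 * t' := by rw [tt, pow_succ, sq]; group
    _ = t' := by rw [h.exp _ hw, one_mul]

/-- centralizers of involutions cover -/
theorem cover (tt : t * t = 1) (tz : Commute t z) {γ : Γ} (hγ : Commute γ (p t)) :
    ∃ m, Commute m z ∧ Commute m t ∧ p m = γ := by
  obtain ⟨m, hm, rfl⟩ := h.psurj γ
  obtain ⟨w, hw, e⟩ := h.conj2 tt tz (t' := m * t * m⁻¹) (by rw [conj_mul, tt]; group) ((hm.mul_left tz).mul_left hm.inv_left)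
    (by rw [h.p_conj hm tz, hγ.eq, mul_inv_cancel_right])
  refine ⟨w⁻¹ * m, (h.le w hw).inv_left.mul_left hm, mul_inv_eq_iff_eq_mul.1 ?_, by
    rw [h.pmul _ _ (h.le w hw).inv_left hm, h.p_Q (inv_mem hw), one_mul]⟩
  calc w⁻¹ * m * t * (w⁻¹ * m)⁻¹ = w⁻¹ * (m * t * m⁻¹) * w := by group
    _ = t := by rw [← e]; group

/-- an involution that fixes `φ a` centralizes `a` -/
theorem comm_of_fix (tt : t * t = 1) (tz : Commute t z) (ha : a ∈ Q) (e : r (p t) (φ a) = φ a) : Commute t a := by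
  have h1 := (h.φ_eq (h.conj_mem tz ha) ha).1 ((h.act t tz a ha).trans e)
  have h2 := h.zc h1 tz
  have h3 := h.zc h1 (h.le a ha)
  generalize hw : t * a * t⁻¹ * a⁻¹ = w at h1 h2 h3
  have e1 : t * a * t⁻¹ = w * a := by rw [← hw]; group
  have e2 : w * w = 1 := by
    have : a = w * w * a := calc
      a = (t * t) * a * (t * t)⁻¹ := by rw [tt]; group
      _ = t * (t * a * t⁻¹) * t⁻¹ := by group
      _ = (t * w * t⁻¹) * (t * a * t⁻¹) := by rw [conj_mul, ← e1]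
      _ = w * w * a := by rw [h2.eq, mul_inv_cancel_right, e1, mul_assoc]
    simpa using this.symm
  have e3 : w = 1 := by
    have := h.exp w (h.Z_le h1)
    rwa [pow_succ, sq, e2, one_mul] at this
  rw [e3, one_mul] at e1
  exact mul_inv_eq_iff_eq_mul.1 e1

/-- lifts that are inverted by an involution acting as `-1` -/
theorem inv_lift (tt : t * t = 1) (tz : Commute t z) {v : V} (e : r (p t) v = -v) :
    ∃ a ∈ Q, φ a = v ∧ t * a * t⁻¹ = a⁻¹ := by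
  obtain ⟨a, ha, ea⟩ := h.onto (-v)
  have h1 := h.conj_mem tz ha
  refine ⟨a * (t * a * t⁻¹)⁻¹, mul_mem ha (inv_mem h1), ?_, ?_⟩
  · rw [h.mul _ ha _ (inv_mem h1), h.φ_inv h1, h.act t tz a ha, ea, map_neg, e, neg_neg]
    have : (3 : F) • v = 0 := by rw [show (3 : F) = 0 from rfl, zero_smul]
    rw [show (3 : F) = 1 + 1 + 1 by norm_num, add_smul, add_smul, one_smul] at this
    exact neg_add_eq_iff_eq_add.2 (neg_eq_of_add_eq_zero_left this)
  · calc t * (a * (t * a * t⁻¹)⁻¹) * t⁻¹ = t * a * t⁻¹ * ((t * t) * a⁻¹ * (t * t)⁻¹) := by group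
      _ = (a * (t * a * t⁻¹)⁻¹)⁻¹ := by rw [tt]; group

/-- an element of `Q` that commutes with an involution acting as `-1` lies in `⟨z⟩` -/
theorem mem_Z_of_comm (tz : Commute t z) (e : r (p t) = -1) (ha : a ∈ Q) (hc : Commute t a) : a ∈ zpowers z := by
  have h1 := h.act t tz a ha
  rw [hc.eq, mul_inv_cancel_right, e] at h1
  refine (h.zero a ha).1 ?_
  have h2 : (2 : F) • φ a = 0 := by rw [two_smul]; exact eq_neg_iff_add_eq_zero.1 h1
  exact (smul_eq_zero.1 h2).resolve_left (by decide)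

end St

end CL.F3C
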