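/-
Groups with a `3`-centralizer of shape `3^(1+8).2^(1+6).L`: calculus in a frame.
-/
import Cfsg.Agent.F3C.Bas

set_option autoImplicit false
set_option linter.unusedSectionVars false

namespace CL.F3C

open Subgroup

attribute [-simp] LinearMap.sub_apply

theorem three_End {V : Type*} [AddCommGroup V] [Module F V] : (3 : Module.End F V) = 0 := by
  ext v
  rw [show (3 : Module.End F V) = ((3 : ℕ) : Module.End F V) by norm_num, Module.End.natCast_apply, ← Nat.cast_smul_eq_nsmul F]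
  exact zero_smul F v

section Quat
variable {A : Type*} [Ring A] {I J : A} (h3 : (3 : A) = 0) (hI : I * I = -1) (hJ : J * J = -1) (hJI : J * I = -(I * J))
include hI hJ hJI

theorem q_II (x : A) : I * (I * x) = -x := by rw [← mul_assoc, hI, neg_one_mul]
theorem q_JJ (x : A) : J * (J * x) = -x := by rw [← mul_assoc, hJ, neg_one_mul]
theorem q_JI (x : A) : J * (I * x) = -(I * (J * x)) := by rw [← mul_assoc, hJI, neg_mul, mul_assoc]

theorem q_ci : (1 + I + J + I * J) * I = J * (1 + I + J + I * J) := by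
  simp only [mul_add, add_mul, mul_assoc, hI, hJ, hJI, q_II hI hJ hJI, q_JI hI hJ hJI, mul_neg, mul_one, one_mul,
    neg_neg]
  abel

theorem q_cj : (1 + I + J + I * J) * J = I * J * (1 + I + J + I * J) := by
  simp only [mul_add, add_mul, mul_assoc, hI, hJ, hJI, q_II hI hJ hJI, q_JI hI hJ hJI, mul_neg, mul_one, one_mul,
    neg_neg]
  abel

include h3 in
theorem q_xx : (I + J + I * J) * (I + J + I * J) = 0 := by
  simp only [mul_add, add_mul, mul_assoc, hI, hJ, hJI, q_II hI hJ hJI, q_JI hI hJ hJI, mul_neg, mul_one,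
    neg_neg]
  rw [← neg_eq_zero, ← h3, show (3 : A) = 1 + 1 + 1 by norm_num]
  abel

end Quat

variable {Γ V L : Type*} [Group Γ] [AddCommGroup V] [Module F V] [Group L] {r : Γ →* Module.End F V}
  {β : LinearMap.BilinForm F V} {R : Subgroup Γ} {s : Γ} {π : Γ →* L} {i j c : Fin 3 → Γ} {ρ t : Γ} {v0 : V}

theorem r_mul (g k : Γ) (v : V) : r (g * k) v = r g (r k v) := by rw [map_mul]; rfl
theorem r_inv (g : Γ) (v : V) : r g⁻¹ (r g v) = v := by rw [← r_mul, inv_mul_cancel, map_one]; rfl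
theorem r_inv' (g : Γ) (v : V) : r g (r g⁻¹ v) = v := by rw [← r_mul, mul_inv_cancel, map_one]; rfl
theorem r_comm {g k : Γ} (h : Commute g k) (v : V) : r g (r k v) = r k (r g v) := by rw [← r_mul, h.eq, r_mul]
theorem xo_apply (g : Γ) (v : V) : xo r g v = r g v - v := rfl
theorem xo_conj {g a b : Γ} (h : g * a * g⁻¹ = b) (v : V) : r g (xo r a v) = xo r b (r g v) := by
  rw [xo_apply, xo_apply, map_sub, ← h, r_mul, r_mul, r_inv]

theorem GA.adj (A : GA r β R s π) (g : Γ) (u v : V) : β (r g u) v = β u (r g⁻¹ v) := by rw [← A.inv g u, r_inv']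

theorem GA.ext (A : GA r β R s π) {g k : Γ} (h : ∀ v, r g v = r k v) : g = k := A.inj (LinearMap.ext h)

theorem GA.exp4 (A : GA r β R s π) {g : Γ} (hg : g ∈ R) : g ^ 4 = 1 := by
  rw [show g ^ 4 = (g * g) * (g * g) by simp only [pow_succ, pow_zero, one_mul, mul_assoc]]
  rcases A.sq g hg with e | e <;> rw [e]
  exacts [mul_one 1, A.ss]

/-- `π` is injective on `3`-elements -/
theorem GA.eq_one (A : GA r β R s π) {g : Γ} {n : ℕ} (h3 : g ^ 3 ^ n = 1) (h : π g = 1) : g = 1 :=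
  (pow_gcd_eq_one.2 ⟨h3, A.exp4 ((A.ker g).1 h)⟩ : g ^ Nat.gcd (3 ^ n) 4 = 1) |> fun e => by
    rwa [Nat.Coprime.gcd_eq_one (Nat.Coprime.pow_left n (by norm_num)), pow_one] at e

/-- the vector fixed by all `c a` -/
abbrev ww (r : Γ →* Module.End F V) (c : Fin 3 → Γ) (v0 : V) : V := xo r (c 0) (xo r (c 1) (xo r (c 2) v0))

namespace Fr

variable (A : GA r β R s π) (f : Fr r R s i j c ρ t v0)
include f

theorem rI (a : Fin 3) : r (i a) * r (i a) = -1 := by rw [← map_mul, f.ii, f.rs]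
theorem rJ (a : Fin 3) : r (j a) * r (j a) = -1 := by rw [← map_mul, f.jj, f.rs]
theorem rJI (a : Fin 3) : r (j a) * r (i a) = -(r (i a) * r (j a)) := by
  rw [← map_mul, f.ji, map_mul, f.rs, map_mul, neg_one_mul]
theorem rc' (a : Fin 3) : r (c a) = 1 + r (i a) + r (j a) + r (i a) * r (j a) := by rw [f.rc, map_mul]
theorem X_eq (a : Fin 3) : xo r (c a) = r (i a) + r (j a) + r (i a) * r (j a) := by rw [xo, f.rc']; abel
theorem rs_apply (v : V) : r s v = -v := by rw [f.rs]; rfl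

theorem XX (a : Fin 3) (v : V) : xo r (c a) (xo r (c a) v) = 0 := by
  rw [← Module.End.mul_apply, f.X_eq, q_xx three_End (f.rI a) (f.rJ a) (f.rJI a)]; rfl

theorem c_pow (a : Fin 3) (k : ℕ) (v : V) : r (c a ^ k) v = v + (k : F) • xo r (c a) v := by
  induction k with
  | zero => simp
  | succ k ih =>
    have e : ∀ u, r (c a) u = u + xo r (c a) u := fun u => by rw [xo_apply]; abel
    rw [pow_succ', r_mul, ih, e, map_add, map_smul, f.XX, smul_zero, Nat.cast_succ, add_smul, one_smul]; abel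

include A

theorem c3 (a : Fin 3) : c a ^ 3 = 1 := A.ext fun v => by
  rw [f.c_pow, map_one, show ((3 : ℕ) : F) = 0 from rfl, zero_smul, add_zero]; rfl

theorem ci (a : Fin 3) : c a * i a * (c a)⁻¹ = j a := mul_inv_eq_iff_eq_mul.2 (A.inj (by
  rw [map_mul, map_mul, f.rc', q_ci (f.rI a) (f.rJ a) (f.rJI a)]))

theorem cj (a : Fin 3) : c a * j a * (c a)⁻¹ = i a * j a := mul_inv_eq_iff_eq_mul.2 (A.inj (by
  rw [map_mul, map_mul, map_mul, f.rc', q_cj (f.rI a) (f.rJ a) (f.rJI a)]))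

/-- an element that commutes with `i a` and `j a` commutes with `c a` -/
theorem comm_c {g : Γ} {a : Fin 3} (h1 : Commute g (i a)) (h2 : Commute g (j a)) : Commute g (c a) := A.inj (by
  rw [map_mul, map_mul, f.rc']
  exact (((Commute.one_right _).add_right (h1.map r)).add_right (h2.map r)).add_right ((h1.map r).mul_right (h2.map r)))

theorem cci {a b : Fin 3} (h : a ≠ b) : Commute (c a) (i b) := (f.comm_c A (f.cii b a h.symm) (f.cij b a h.symm)).symm
theorem ccj {a b : Fin 3} (h : a ≠ b) : Commute (c a) (j b) := (f.comm_c A (f.cij a b h).symm (f.cjj b a h.symm)).symm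
theorem cc (a b : Fin 3) : Commute (c a) (c b) := by
  by_cases h : a = b
  · rw [h]
  · exact f.comm_c A (f.cci A h) (f.ccj A h)

theorem conj_c {g : Γ} {a b : Fin 3} (h1 : g * i a * g⁻¹ = i b) (h2 : g * j a * g⁻¹ = j b) : g * c a * g⁻¹ = c b :=
  A.inj (by
    rw [f.rc b, ← h1, ← h2, conj_mul, map_mul, map_mul, f.rc a]
    simp only [mul_add, add_mul, ← map_mul, mul_one, mul_inv_cancel, map_one])

theorem ρc (a : Fin 3) : ρ * c a * ρ⁻¹ = c (a + 1) := f.conj_c A (f.ρi a) (f.ρj a)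
theorem tc0 : t * c 0 * t⁻¹ = c 0 :=
  f.conj_c A (by rw [f.ti0.eq, mul_inv_cancel_right]) (by rw [f.tj0.eq, mul_inv_cancel_right])
theorem tc1 : t * c 1 * t⁻¹ = c 2 := f.conj_c A f.ti1 f.tj1
theorem tc2 : t * c 2 * t⁻¹ = c 1 := f.conj_c A f.ti2 f.tj2

theorem Xc (a b : Fin 3) (v : V) : xo r (c a) (xo r (c b) v) = xo r (c b) (xo r (c a) v) := by
  simp only [xo_apply, map_sub, r_comm (f.cc A a b)]; abel

theorem Xadj (a : Fin 3) (u v : V) : β (xo r (c a) u) v = -β u (xo r (c a) v) := by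
  have e : (c a)⁻¹ = c a ^ 2 := (eq_inv_of_mul_eq_one_left (by rw [← pow_succ, f.c3 A])).symm
  rw [xo_apply, map_sub, LinearMap.sub_apply, A.adj, e, f.c_pow, map_add, map_smul,
    show ((2 : ℕ) : F) = -1 from rfl, neg_smul, one_smul]
  abel

theorem X10 (v : V) : xo r (c 1) (xo r (c 0) v) = xo r (c 0) (xo r (c 1) v) := f.Xc A 1 0 v
theorem X20 (v : V) : xo r (c 2) (xo r (c 0) v) = xo r (c 0) (xo r (c 2) v) := f.Xc A 2 0 v
theorem X21 (v : V) : xo r (c 2) (xo r (c 1) v) = xo r (c 1) (xo r (c 2) v) := f.Xc A 2 1 v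

theorem Xw (a : Fin 3) : xo r (c a) (ww r c v0) = 0 := by
  fin_cases a <;> simp [ww, f.XX, f.X10 A, f.X20 A, f.X21 A]

theorem Xm (a : Fin 3) : xo r (c a) (xo r (c (a + 1)) (xo r (c (a + 2)) v0)) = ww r c v0 := by
  fin_cases a <;> simp [ww, f.X10 A, f.X20 A, f.X21 A]

theorem r_cw (k : Fin 3 → ℕ) (v : V) : r (cw c k) v = v + (k 0 : F) • xo r (c 0) v + (k 1 : F) • xo r (c 1) v +
    (k 2 : F) • xo r (c 2) v + ((k 0 : F) * k 1) • xo r (c 0) (xo r (c 1) v) + ((k 0 : F) * k 2) • xo r (c 0) (xo r (c 2) v) +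
    ((k 1 : F) * k 2) • xo r (c 1) (xo r (c 2) v) + ((k 0 : F) * k 1 * k 2) • xo r (c 0) (xo r (c 1) (xo r (c 2) v)) := by
  simp only [cw, r_mul, f.c_pow, map_add, map_smul]
  module

theorem cw_mul (k l : Fin 3 → ℕ) : cw c k * cw c l = cw c (k + l) := by
  simp only [cw, Pi.add_apply, pow_add]
  have h01 := (f.cc A 1 0).pow_pow (k 1) (l 0)
  have h02 := (f.cc A 2 0).pow_pow (k 2) (l 0)
  have h12 := (f.cc A 2 1).pow_pow (k 2) (l 1)
  simp only [mul_assoc]
  rw [← mul_assoc (c 2 ^ k 2), h02.eq, mul_assoc, ← mul_assoc (c 1 ^ k 1), h01.eq, mul_assoc, ← mul_assoc (c 2 ^ k 2),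
    h12.eq, mul_assoc]

theorem cw_comm (k l : Fin 3 → ℕ) : Commute (cw c k) (cw c l) := by
  rw [Commute, SemiconjBy, f.cw_mul A, f.cw_mul A, add_comm]

theorem cw_w (k : Fin 3 → ℕ) : r (cw c k) (ww r c v0) = ww r c v0 := by simp [f.r_cw A, f.Xw A]

theorem ρw : r ρ (ww r c v0) = ww r c v0 := by
  rw [xo_conj (f.ρc A 0), xo_conj (f.ρc A 1), xo_conj (f.ρc A 2), f.ρv]; exact f.Xm A 1

theorem tw : r t (ww r c v0) = ww r c v0 := by
  rw [xo_conj (f.tc0 A), xo_conj (f.tc1 A), xo_conj (f.tc2 A), f.tv, f.X21 A]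

/-- coordinates, written out -/
theorem span' (v : V) : ∃ a l0 l1 l2 m0 m1 m2 d : F, v = a • v0 + l0 • xo r (c 0) v0 + l1 • xo r (c 1) v0 +
    l2 • xo r (c 2) v0 + m0 • xo r (c 1) (xo r (c 2) v0) + m1 • xo r (c 0) (xo r (c 2) v0) +
    m2 • xo r (c 0) (xo r (c 1) v0) + d • ww r c v0 := by
  obtain ⟨a, d, l, m, rfl⟩ := f.span v
  refine ⟨a, l 0, l 1, l 2, m 0, m 1, m 2, d, ?_⟩
  simp only [Fin.sum_univ_three, Fin.isValue, zero_add, Fin.reduceAdd, f.X20 A]
  abel

theorem smul_w {a : F} (h : a • ww r c v0 = 0) : a = 0 := (smul_eq_zero.1 h).resolve_right f.w0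

theorem β_w (a : Fin 3) (u : V) : β (xo r (c a) u) (ww r c v0) = 0 := by rw [f.Xadj A, f.Xw A, map_zero, neg_zero]

theorem β0 : β v0 (ww r c v0) ≠ 0 := fun h => f.w0 (A.nd _ fun v => by
  obtain ⟨a, l0, l1, l2, m0, m1, m2, d, rfl⟩ := f.span' A v
  rw [A.skew]
  simp only [map_add, map_smul, LinearMap.add_apply, LinearMap.smul_apply, h, f.β_w A, smul_zero, add_zero, neg_zero])

/-- the exponents are determined modulo three -/
theorem cw_eq_one {k : Fin 3 → ℕ} (h : cw c k = 1) (a : Fin 3) : (k a : F) = 0 := by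
  have := f.r_cw A k (xo r (c (a + 1)) (xo r (c (a + 2)) v0))
  rw [h, map_one] at this
  apply f.smul_w A
  fin_cases a <;> simpa [f.XX, f.X10 A, f.X20 A, f.X21 A] using this

theorem cw_congr {k l : Fin 3 → ℕ} (h : ∀ a, (k a : F) = l a) : cw c k = cw c l := A.ext fun v => by
  simp only [f.r_cw A, h]

theorem cw3 (k : Fin 3 → ℕ) : cw c k ^ 3 = 1 := by
  rw [pow_succ, sq, f.cw_mul A, f.cw_mul A, f.cw_congr A (l := 0) fun a => by
    simp only [Pi.add_apply, Nat.cast_add, Pi.zero_apply, Nat.cast_zero]; generalize (k a : F) = x; revert x; decide]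
  simp [cw]

theorem ρcw (k : Fin 3 → ℕ) : ρ * cw c k * ρ⁻¹ = cw c ![k 2, k 0, k 1] := by
  rw [cw, ← conj_mul, ← conj_mul, ← conj_pow, ← conj_pow, ← conj_pow, f.ρc A, f.ρc A, f.ρc A, cw]
  simp only [Fin.isValue, zero_add, Fin.reduceAdd, Matrix.cons_val_zero, Matrix.cons_val_one, Matrix.cons_val]
  rw [((f.cc A 0 1).pow_pow _ _).mul_right ((f.cc A 0 2).pow_pow _ _) |>.symm.eq, mul_assoc]

end Fr

end CL.F3C
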