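/-
Groups with a `3`-centralizer of shape `3^(1+8).2^(1+6).L`: the swap involution of a frame (helper99).
-/
import Cfsg.Agent.F3C.FrB

set_option autoImplicit false
set_option linter.unusedSectionVars false

namespace CL.F3C

open Subgroup

universe u

namespace Good

variable {Γ V L : Type*} [Group Γ] [AddCommGroup V] [Module F V] [Group L] {r : Γ →* Module.End F V}
  {β : LinearMap.BilinForm F V} {R : Subgroup Γ} {s : Γ} {π : Γ →* L} {i j c : Fin 3 → Γ} {ρ t : Γ} {v0 : V}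

abbrev q (i j : Fin 3 → Γ) (a : Fin 3) (w : Fin 4) : Γ := qw (i a) (j a) w
/-- the four-group of diagonal elements -/
def fw (i j : Fin 3 → Γ) (w : Fin 4) : Γ := q i j 1 w * q i j 2 w
def wd (s : Γ) (i j : Fin 3 → Γ) (e : ℕ) (w : Fin 3 → Fin 4) : Γ :=
  s ^ e * (q i j 0 (w 0) * q i j 1 (w 1) * q i j 2 (w 2))
def χ (w k : Fin 4) : F := if w = 0 ∨ k = 0 ∨ w = k then 1 else -1
/-- the common eigenspaces of the four-group -/
def U (r : Γ →* Module.End F V) (i j : Fin 3 → Γ) (k : Fin 4) : Submodule F V :=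
  ⨅ w, LinearMap.ker (r (fw i j w) - χ w k • 1)

theorem mem_U {k : Fin 4} {v : V} : v ∈ U r i j k ↔ ∀ w, r (fw i j w) v = χ w k • v := by
  simp [U, LinearMap.sub_apply, sub_eq_zero]

theorem fw0 : fw i j 0 = 1 := mul_one 1

theorem three (v : V) : v + v + v = 0 := by
  have := congrArg (fun x : Module.End F V => x v) three_End
  simpa [show (3 : Module.End F V) = 1 + 1 + 1 by norm_num] using this

theorem eq_zero_of_neg {v : V} (h : -v = v) : v = 0 := by linear_combination (norm := abel) three v + h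

/-- one step of a linear map of a plane in coordinates -/
def stp (a b d e : F) (x : F × F) : F × F := (x.1 * a + x.2 * d, x.1 * b + x.2 * e)

theorem stp12 : ∀ a b d e : F, a * e - b * d = 1 → ∀ x, (stp a b d e)^[12] x = x := by decide +kernel
theorem stp2 : ∀ a b d e : F, a * e - b * d = 1 → (∀ x, (stp a b d e)^[2] x = x) →
    (∀ x, stp a b d e x = x) ∨ ∀ x, stp a b d e x = -x := by decide +kernel
theorem perm3 : ∀ x : Fin 3 → Fin 3, x^[256] = id → (x ∘ (· + 1) ∘ x ∘ (· + 1) ∘ (· + 1))^[256] = id → x = id := by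
  decide +kernel

/-- `g` permutes the three involutions as `x` does -/
def Pm (i j : Fin 3 → Γ) (g : Γ) (x : Fin 3 → Fin 3) : Prop := ∀ m, g * fw i j m.succ * g⁻¹ = fw i j (x m).succ

theorem Pm.mul {g k : Γ} {x y : Fin 3 → Fin 3} (h : Pm i j g x) (h' : Pm i j k y) : Pm i j (g * k) (x ∘ y) :=
  fun m => by rw [Function.comp_apply, ← h, ← h']; group

theorem Pm.pow {g : Γ} {x : Fin 3 → Fin 3} (h : Pm i j g x) (n : ℕ) : Pm i j (g ^ n) x^[n] := by
  induction n with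
  | zero => intro m; simp
  | succ n ih => rw [pow_succ, Function.iterate_succ]; exact ih.mul h

variable (A : GA r β R s π) (f : Fr r R s i j c ρ t v0)
include A f

/-! ### Words -/

theorem qR (a : Fin 3) (w : Fin 4) : q i j a w ∈ R := by
  fin_cases w
  exacts [one_mem _, f.iR a, f.jR a, mul_mem (f.iR a) (f.jR a)]

theorem q_comm {a b : Fin 3} (h : a ≠ b) (w w' : Fin 4) : Commute (q i j a w) (q i j b w') := by
  have h1 : ∀ x, Commute x (i b) → Commute x (j b) → Commute x (q i j b w') := fun x h1 h2 => by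
    fin_cases w'
    exacts [Commute.one_right _, h1, h2, h1.mul_right h2]
  fin_cases w
  exacts [Commute.one_left _, h1 _ (f.cii a b h) (f.cij a b h), h1 _ (f.cij b a h.symm).symm (f.cjj a b h),
    (h1 _ (f.cii a b h) (f.cij a b h)).mul_left (h1 _ (f.cij b a h.symm).symm (f.cjj a b h))]

theorem q_mul (a : Fin 3) (w w' : Fin 4) : (w ≠ 0 → q i j a w * q i j a w = s) ∧
    q i j a w * q i j a w' = (if χ w w' = 1 then 1 else s) * (q i j a w' * q i j a w) := by
  have h1 : ∀ x, i a * (i a * x) = s * x := fun x => by rw [← mul_assoc, f.ii]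
  have h2 : ∀ x, j a * (i a * x) = s * (i a * (j a * x)) := fun x => by rw [← mul_assoc, f.ji, mul_assoc, mul_assoc]
  have h3 : ∀ x y, x * (s * y) = s * (x * y) := fun x y => by rw [← mul_assoc, (A.sc x).eq, mul_assoc]
  have h4 : ∀ x, s * (s * x) = x := fun x => by rw [← mul_assoc, A.ss, one_mul]
  have h5 : ¬ (-1 : F) = 1 := by decide
  constructor
  · fin_cases w <;> simp [q, qw, f.ii, f.jj, mul_assoc, h1, h2, h3 (i a), h4, A.ss]
  · fin_cases w <;> fin_cases w' <;>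
      simp [q, qw, χ, h5, f.ii, f.jj, f.ji, mul_assoc, h1, h2, h3 (i a), h3 (j a), h4, A.ss, (A.sc (i a)).eq]

theorem q_iff (a : Fin 3) (w w' : Fin 4) : Commute (q i j a w) (q i j a w') ↔ χ w w' = 1 := by
  rw [Commute, SemiconjBy, (q_mul A f a w w').2]
  split_ifs with h <;> simp [h, A.s1]

theorem wd_iff (e : ℕ) (w : Fin 3 → Fin 4) (a : Fin 3) (k : Fin 4) :
    Commute (wd s i j e w) (q i j a k) ↔ χ (w a) k = 1 := by
  have key : ∀ {x y z : Γ}, Commute x z → (Commute (x * y) z ↔ Commute y z) ∧ (Commute (y * x) z ↔ Commute y z) :=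
    fun h => ⟨⟨fun e => by simpa using h.inv_left.mul_left e, fun e => h.mul_left e⟩,
      ⟨fun e => by simpa using e.mul_left h.inv_left, fun e => e.mul_left h⟩⟩
  rw [wd, (key ((A.sc _).symm.pow_left e)).1, ← q_iff A f a]
  fin_cases a
  · exact (key (q_comm A f (by decide) _ _)).2.trans (key (q_comm A f (by decide) _ _)).2
  · exact (key (q_comm A f (by decide) _ _)).2.trans (key (q_comm A f (by decide) _ _)).1
  · exact (key ((q_comm A f (by decide) _ _).mul_left (q_comm A f (by decide) _ _))).1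

theorem wd_inj {e e' : ℕ} {w w' : Fin 3 → Fin 4} (h : wd s i j e w = wd s i j e' w') : w = w' := funext fun a =>
  (by decide : ∀ x y : Fin 4, (∀ k, χ x k = 1 ↔ χ y k = 1) → x = y) _ _ fun k => by
    rw [← wd_iff A f e, h, wd_iff A f]

theorem tq (w : Fin 4) : t * q i j 0 w * t⁻¹ = q i j 0 w ∧ t * q i j 1 w * t⁻¹ = q i j 2 w ∧
    t * q i j 2 w * t⁻¹ = q i j 1 w := by
  fin_cases w <;> simp [q, qw, ← conj_mul, f.ti0.eq, f.tj0.eq, f.ti1, f.tj1, f.ti2, f.tj2]

theorem t_fw (w : Fin 4) : Commute t (fw i j w) := mul_inv_eq_iff_eq_mul.1 (by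
  rw [fw, ← conj_mul, (tq A f w).2.1, (tq A f w).2.2, (q_comm A f (by decide) w w).eq])

theorem t_q0 (w : Fin 4) : Commute t (q i j 0 w) := mul_inv_eq_iff_eq_mul.1 (tq A f w).1

theorem fwR (w : Fin 4) : fw i j w ∈ R := mul_mem (qR A f _ _) (qR A f _ _)

theorem fw_sq (w : Fin 4) : fw i j w * fw i j w = 1 := by
  rw [fw, ← sq, (q_comm A f (by decide) w w).mul_pow, sq, sq]
  by_cases h : w = 0
  · subst h; simp [q, qw]
  · rw [(q_mul A f 1 w w).1 h, (q_mul A f 2 w w).1 h, A.ss]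

theorem fw12 : fw i j 1 * fw i j 2 = fw i j 3 := by
  change i 1 * i 2 * (j 1 * j 2) = i 1 * j 1 * (i 2 * j 2)
  rw [mul_assoc, ← mul_assoc (i 2), (f.cij 2 1 (by decide)).eq]; group

theorem q_fw (a : Fin 3) (k w : Fin 4) :
    fw i j w * q i j a k = (if a = 0 ∨ χ w k = 1 then 1 else s) * (q i j a k * fw i j w) := by
  have h3 : ∀ x y, x * ((if χ w k = 1 then 1 else s) * y) = (if χ w k = 1 then 1 else s) * (x * y) := fun x y => by
    split_ifs
    exacts [by simp, by rw [← mul_assoc, (A.sc x).eq, mul_assoc]]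
  fin_cases a
  · simpa [fw] using ((q_comm A f (a := 1) (b := 0) (by decide) w k).mul_left (q_comm A f (a := 2) (by decide) w k)).eq
  · simp only [Fin.mk_one, one_ne_zero, false_or, fw]
    rw [mul_assoc, (q_comm A f (a := 2) (b := 1) (by decide) w k).eq, ← mul_assoc, (q_mul A f 1 w k).2]; group
  · simp only [Fin.reduceFinMk, Fin.reduceEq, false_or, fw]
    rw [mul_assoc, (q_mul A f 2 w k).2, h3, ← mul_assoc (q i j 1 w), (q_comm A f (a := 1) (b := 2) (by decide) w k).eq]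
    group

theorem s_pow (e : ℕ) : s ^ e = 1 ∨ s ^ e = s := by
  have h2 : s ^ 2 = 1 := by rw [sq, A.ss]
  rcases Nat.even_or_odd' e with ⟨k, rfl | rfl⟩ <;> simp [pow_add, pow_mul, h2]

/-- the elements of `R` normalized by `t` modulo `s` -/
theorem form {g : Γ} (hg : g ∈ R) (h : t * g * t⁻¹ = g ∨ t * g * t⁻¹ = g⁻¹) :
    ∃ (e : ℕ) (w0 w : Fin 4), g = s ^ e * (q i j 0 w0 * fw i j w) := by
  obtain ⟨e, w, hw⟩ := f.nf g hg
  change g = wd s i j e w at hw
  have h1 : t * g * t⁻¹ = wd s i j e ![w 0, w 2, w 1] := by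
    rw [hw, wd, wd, ← conj_mul, ← conj_mul, ← conj_mul, (tq A f _).1, (tq A f _).2.1, (tq A f _).2.2,
      ((A.sc t).pow_right e).eq, mul_inv_cancel_right, mul_assoc, (q_comm A f (a := 2) (b := 1) (by decide) _ _).eq]
    simp [mul_assoc]
  have h2 : ∃ k, t * g * t⁻¹ = wd s i j (k + e) w := by
    have h3 : ∀ k, wd s i j (k + e) w = s ^ k * g := fun k => by rw [hw, wd, wd, pow_add, mul_assoc]
    simp only [h3]
    rcases h with h | h
    · exact ⟨0, by simpa using h⟩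
    · rcases A.sq g hg with h4 | h4
      · exact ⟨0, by rw [h, pow_zero, one_mul, inv_eq_of_mul_eq_one_right h4]⟩
      · exact ⟨1, by rw [h, pow_one, inv_eq_iff_mul_eq_one, ← mul_assoc, (A.sc g).eq, mul_assoc, h4, A.ss]⟩
  obtain ⟨k, hk⟩ := h2
  have h3 : w 2 = w 1 := congrFun (wd_inj A f (h1.symm.trans hk)) 1
  exact ⟨e, w 0, w 1, by rw [hw, wd, fw, h3, mul_assoc]⟩

theorem form_t (e : ℕ) (w0 w : Fin 4) : Commute t (s ^ e * (q i j 0 w0 * fw i j w)) :=
  ((A.sc t).pow_right e).mul_right ((t_q0 A f w0).mul_right (t_fw A f w))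

theorem form_inv {g : Γ} (hg : g ∈ R) (h : t * g * t⁻¹ = g⁻¹) : ∃ w, g = fw i j w ∨ g = s * fw i j w := by
  obtain ⟨e, w0, w, rfl⟩ := form A f hg (Or.inr h)
  rw [(form_t A f e w0 w).eq, mul_inv_cancel_right, eq_inv_iff_mul_eq_one, ← sq, ((A.sc _).symm.pow_left e).mul_pow,
    ← pow_mul, mul_comm, pow_mul, sq s, A.ss, one_pow, one_mul,
    (show Commute (q i j 0 w0) (fw i j w) from by simpa [Commute, SemiconjBy] using (q_fw A f 0 w0 w).symm).mul_pow, sq, sq, fw_sq A f,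
    mul_one] at h
  obtain rfl : w0 = 0 := by_contra fun h0 => A.s1 (((q_mul A f 0 w0 w0).1 h0).symm.trans h)
  exact ⟨w, (s_pow A f e).imp (fun h => by simp [h, q, qw]) fun h => by simp [h, q, qw]⟩

theorem card_B : Nat.card ↥(R ⊓ centralizer {t}) = 32 := by
  let g : Fin 2 × Fin 4 × Fin 4 → ↥(R ⊓ centralizer {t}) := fun x =>
    ⟨s ^ (x.1 : ℕ) * (q i j 0 x.2.1 * fw i j x.2.2), mul_mem (pow_mem A.sR _) (mul_mem (qR A f _ _) (fwR A f _)),
      mem_centralizer_singleton_iff.2 (form_t A f _ _ _).symm⟩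
  rw [← Nat.card_eq_of_bijective g ⟨?_, ?_⟩]
  · simp
  · rintro ⟨e, a, b⟩ ⟨e', a', b'⟩ h
    replace h : s ^ (e : ℕ) * (q i j 0 a * fw i j b) = s ^ (e' : ℕ) * (q i j 0 a' * fw i j b') :=
      congrArg Subtype.val h
    have h1 := wd_inj A f (e := e) (e' := e') (w := ![a, b, b]) (w' := ![a', b', b']) (by simpa [wd, fw, mul_assoc] using h)
    obtain rfl : a = a' := congrFun h1 0
    obtain rfl : b = b' := congrFun h1 1
    rw [mul_left_inj] at h
    fin_cases e <;> fin_cases e' <;> simp_all [A.s1, A.s1.symm]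
  · rintro ⟨x, hx, hx'⟩
    obtain ⟨e, w0, w, rfl⟩ := form A f hx (Or.inl (by
      rw [← mem_centralizer_singleton_iff.1 hx', mul_inv_cancel_right]))
    rcases s_pow A f e with h | h
    exacts [⟨(0, w0, w), Subtype.ext (by simp [g, h])⟩, ⟨(1, w0, w), Subtype.ext (by simp [g, h])⟩]

theorem conj_t (w : Fin 4) : q i j 1 w * t * (q i j 1 w)⁻¹ = (if w = 0 then 1 else s) * fw i j w * t := by
  have h1 : t * (q i j 1 w)⁻¹ = (q i j 2 w)⁻¹ * t := by rw [← (tq A f w).2.1]; group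
  rw [mul_assoc, h1, ← mul_assoc]
  split_ifs with h
  · subst h; simp [q, qw, fw]
  · rw [fw, ← mul_assoc, ← (A.sc _).eq, mul_assoc _ s, inv_eq_of_mul_eq_one_right (b := s * q i j 2 w)
      (by rw [← mul_assoc, (A.sc _).eq, mul_assoc, (q_mul A f 2 w w).1 h, A.ss])]

theorem t_not : t ∉ R := fun h => by
  have h1 : ¬ Commute (i 1) (j 1) := (q_iff A f 1 1 2).not.2 (by decide)
  have h2 : Commute (t * i 1 * t⁻¹) (j 1) := f.ti1.symm ▸ f.cij 2 1 (by decide)
  rcases A.cm t h _ (f.iR 1) with e | e <;> rw [e] at h2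
  · exact h1 (by simpa using h2)
  · exact h1 (by simpa [mul_assoc, ← mul_assoc s s, A.ss] using (A.sc (j 1)).symm.mul_left h2)

theorem cj : ∃ a, a * t * a⁻¹ ≠ t ∧ Commute (a * t * a⁻¹) t := by
  refine ⟨q i j 1 1, ?_, ?_⟩ <;> rw [conj_t A f, if_neg (by decide)]
  · intro h
    have := wd_inj A f (e := 1) (e' := 0) (w := ![0, 1, 1]) (w' := 0) (by simpa [wd, fw, q, qw] using h)
    exact absurd (congrFun this 1) (by decide)
  · exact ((A.sc t).symm.mul_left (t_fw A f 1).symm).mul_left (Commute.refl t)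

/-! ### The four planes -/

theorem mem_U' {k : Fin 4} {v : V} : v ∈ U r i j k ↔ r (fw i j 1) v = χ 1 k • v ∧ r (fw i j 2) v = χ 2 k • v := by
  refine mem_U.trans ⟨fun h => ⟨h 1, h 2⟩, fun h w => ?_⟩
  fin_cases w
  · simp [fw0, χ]
  · exact h.1
  · exact h.2
  · simp only [Fin.reduceFinMk]
    rw [← fw12 A f, r_mul, h.2, map_smul, h.1, smul_smul, (by decide : ∀ k, χ 2 k * χ 1 k = χ 3 k)]

theorem U_map {g : Γ} (h1 : Commute g (fw i j 1)) (h2 : Commute g (fw i j 2)) {k : Fin 4} {v : V}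
    (hv : v ∈ U r i j k) : r g v ∈ U r i j k :=
  (mem_U' A f).2 ⟨by rw [← r_comm h1, mem_U.1 hv, map_smul], by rw [← r_comm h2, mem_U.1 hv, map_smul]⟩

theorem q0_fw (k w : Fin 4) : Commute (q i j 0 k) (fw i j w) := by
  simpa [Commute, SemiconjBy] using (q_fw A f 0 k w).symm

theorem r_q1 (k w : Fin 4) (v : V) : r (fw i j w) (r (q i j 1 k) v) = χ w k • r (q i j 1 k) (r (fw i j w) v) := by
  rw [← r_mul, q_fw A f, r_mul, r_mul]
  rcases (by decide : ∀ w k, χ w k = 1 ∨ χ w k = -1) w k with h | h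
  · simp [h]
  · simp [h, f.rs_apply, show ¬ (-1 : F) = 1 by decide]

theorem dec (v : V) : ∃ u : Fin 4 → V, (∀ k, u k ∈ U r i j k) ∧ v = u 0 + u 1 + u 2 + u 3 := by
  have h1 : ∀ w x, r (fw i j w) (r (fw i j w) x) = x := fun w x => by rw [← r_mul, fw_sq A f, map_one]; rfl
  have h2 : Commute (fw i j 2) (fw i j 1) := by
    have := fw_sq A f 3
    rw [← fw12 A f, mul_eq_one_iff_eq_inv, mul_inv_rev, inv_eq_of_mul_eq_one_right (fw_sq A f 1),
      inv_eq_of_mul_eq_one_right (fw_sq A f 2)] at this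
    exact this.symm
  refine ⟨fun k => v + χ 1 k • r (fw i j 1) v + χ 2 k • r (fw i j 2) v +
    (χ 1 k * χ 2 k) • r (fw i j 1) (r (fw i j 2) v), fun k => (mem_U' A f).2 ⟨?_, ?_⟩, ?_⟩
  · simp only [map_add, map_smul, h1]
    match_scalars <;> revert k <;> decide
  · simp only [map_add, map_smul, h1, r_comm h2]
    match_scalars <;> revert k <;> decide
  · match_scalars <;> decide

theorem uniq {u : Fin 4 → V} (hu : ∀ k, u k ∈ U r i j k) (h : u 0 + u 1 + u 2 + u 3 = 0) (k : Fin 4) : u k = 0 := by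
  have h1 : ∀ w, χ w 0 • u 0 + χ w 1 • u 1 + χ w 2 • u 2 + χ w 3 • u 3 = 0 := fun w => by
    simpa [mem_U.1 (hu _)] using congrArg (r (fw i j w)) h
  have h2 : u k = χ 0 k • (χ 0 0 • u 0 + χ 0 1 • u 1 + χ 0 2 • u 2 + χ 0 3 • u 3) +
      χ 1 k • (χ 1 0 • u 0 + χ 1 1 • u 1 + χ 1 2 • u 2 + χ 1 3 • u 3) +
      χ 2 k • (χ 2 0 • u 0 + χ 2 1 • u 1 + χ 2 2 • u 2 + χ 2 3 • u 3) +
      χ 3 k • (χ 3 0 • u 0 + χ 3 1 • u 1 + χ 3 2 • u 2 + χ 3 3 • u 3) := by
    fin_cases k <;> simp only [Fin.reduceFinMk, Fin.zero_eta, Fin.mk_one] <;> match_scalars <;> decide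
  simpa [h1] using h2

theorem card_U [Finite V] (k : Fin 4) : Nat.card (U r i j k) = 9 := by
  have hq : ∀ k l : Fin 4, (l = 0 ∨ k = 0) → ∀ v ∈ U r i j k, r (q i j 1 (k + l)) v ∈ U r i j l := fun k l h v hv =>
    mem_U.2 fun w => by
      rw [r_q1 A f, mem_U.1 hv, map_smul, smul_smul,
        (by decide : ∀ k l w : Fin 4, (l = 0 ∨ k = 0) → χ w (k + l) * χ w k = χ w l) k l w h]
  have hle : ∀ k l : Fin 4, (l = 0 ∨ k = 0) → Nat.card (U r i j k) ≤ Nat.card (U r i j l) := fun k l h =>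
    Nat.card_le_card_of_injective (fun v => (⟨_, hq k l h v v.2⟩ : U r i j l)) fun x y e => Subtype.ext (by
      simpa [r_inv] using congrArg (r (q i j 1 (k + l))⁻¹) (congrArg Subtype.val e))
  have h1 : ∀ k, Nat.card (U r i j k) = Nat.card (U r i j 0) := fun k =>
    le_antisymm (hle _ _ (Or.inl rfl)) (hle _ _ (Or.inr rfl))
  have h2 := Nat.card_eq_of_bijective (fun u : ∀ k, U r i j k => (u 0 + u 1 + u 2 + u 3 : V)) ⟨fun x y e =>
    funext fun k => Subtype.ext (sub_eq_zero.1 (uniq A f (u := fun k => x k - y k)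
      (fun k => sub_mem (x k).2 (y k).2) (by beta_reduce at e ⊢; linear_combination (norm := abel) e) k)), fun v => by
    obtain ⟨u, hu, rfl⟩ := dec A f v
    exact ⟨fun k => ⟨u k, hu k⟩, rfl⟩⟩
  rw [Nat.card_pi, Finset.prod_congr rfl fun k _ => h1 k, A.card, Finset.prod_const] at h2
  rw [h1]
  exact Nat.pow_left_injective (n := 4) (by norm_num) (by simpa using h2)

theorem rt_U {k : Fin 4} {v : V} (hv : v ∈ U r i j k) : r t v = if k = 0 then -v else v := by
  have : r t v = r (fw i j 1) v + r (fw i j 2) v + r (fw i j 3) v - v := by rw [f.rt]; rfl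
  rw [this, mem_U.1 hv, mem_U.1 hv, mem_U.1 hv]
  fin_cases k <;> simp only [Fin.reduceFinMk, Fin.zero_eta, Fin.mk_one, Fin.reduceEq, one_ne_zero, if_true, if_false] <;>
    match_scalars <;> decide

theorem rt_sum {u : Fin 4 → V} (hu : ∀ k, u k ∈ U r i j k) :
    r t (u 0 + u 1 + u 2 + u 3) = -u 0 + u 1 + u 2 + u 3 := by simp [rt_U A f (hu _)]

theorem sum_fix {v : V} (h : r t v = v) : ∃ a ∈ U r i j 1, ∃ b ∈ U r i j 2, ∃ d ∈ U r i j 3, v = a + b + d := by
  obtain ⟨u, hu, rfl⟩ := dec A f v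
  rw [rt_sum A f hu, add_left_inj, add_left_inj, add_left_inj] at h
  exact ⟨_, hu 1, _, hu 2, _, hu 3, by rw [eq_zero_of_neg h, zero_add]⟩

theorem neg_iff {v : V} : r t v = -v ↔ v ∈ U r i j 0 := by
  refine ⟨fun h => ?_, fun h => by simpa using rt_U A f h⟩
  obtain ⟨u, hu, rfl⟩ := dec A f v
  rw [rt_sum A f hu] at h
  rw [show u 0 + u 1 + u 2 + u 3 = u 0 from by
    linear_combination (norm := abel) eq_zero_of_neg (v := u 1 + u 2 + u 3) (by linear_combination (norm := abel) -h)]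
  exact hu 0

theorem card_fix [Finite V] : {v | r t v = v}.ncard = 729 := by
  rw [← Nat.card_coe_set_eq, ← Nat.card_eq_of_bijective (fun u : U r i j 1 × U r i j 2 × U r i j 3 =>
    (⟨u.1 + u.2.1 + u.2.2, by simp [rt_U A f u.1.2, rt_U A f u.2.1.2, rt_U A f u.2.2.2]⟩ : {v | r t v = v}))
    ⟨fun x y e => ?_, fun v => ?_⟩]
  · simp [card_U A f]
  · have h := uniq A f (u := ![0, x.1 - y.1, x.2.1 - y.2.1, x.2.2 - y.2.2]) (fun k => by
      fin_cases k
      exacts [zero_mem _, sub_mem x.1.2 y.1.2, sub_mem x.2.1.2 y.2.1.2, sub_mem x.2.2.2 y.2.2.2])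
      (by have := congrArg Subtype.val e; simp at this ⊢; linear_combination (norm := abel) this)
    exact Prod.ext (Subtype.ext (sub_eq_zero.1 (h 1)))
      (Prod.ext (Subtype.ext (sub_eq_zero.1 (h 2))) (Subtype.ext (sub_eq_zero.1 (h 3))))
  · obtain ⟨a, ha, b, hb, d, hd, e⟩ := sum_fix A f v.2
    exact ⟨(⟨a, ha⟩, ⟨b, hb⟩, ⟨d, hd⟩), Subtype.ext e.symm⟩

theorem orth {k l : Fin 4} (h : k ≠ l) {u v : V} (hu : u ∈ U r i j k) (hv : v ∈ U r i j l) : β u v = 0 := by
  obtain ⟨w, hw⟩ := (by decide : ∀ k l : Fin 4, k ≠ l → ∃ w, ∀ x : F, χ w l * (χ w k * x) = x → x = 0) k l h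
  exact hw _ (by simpa [mem_U.1 hu, mem_U.1 hv] using A.inv (fw i j w) u v)

theorem nd (k : Fin 4) {u : V} (hu : u ∈ U r i j k) (h : ∀ v ∈ U r i j k, β u v = 0) : u = 0 := A.nd u fun v => by
  obtain ⟨x, hx, rfl⟩ := dec A f v
  have : ∀ l, β u (x l) = 0 := fun l => by
    by_cases e : k = l
    exacts [h _ (e ▸ hx l), orth A f e hu (hx l)]
  simp [this]

theorem basis [Finite V] (k : Fin 4) : ∃ u ∈ U r i j k, u ≠ 0 ∧ r (i 0) u ∈ U r i j k ∧
    (∀ x y : F × F, x.1 • u + x.2 • r (i 0) u = y.1 • u + y.2 • r (i 0) u → x = y) ∧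
    ∀ v ∈ U r i j k, ∃ x : F × F, v = x.1 • u + x.2 • r (i 0) u := by
  have hc := card_U A f k
  have := Finite.one_lt_card_iff_nontrivial.1 (by omega : 1 < Nat.card (U r i j k))
  obtain ⟨⟨u, hu⟩, h0⟩ := exists_ne (0 : U r i j k)
  have h1 : r (i 0) u ∈ U r i j k := U_map A f (q0_fw A f 1 1) (q0_fw A f 1 2) hu
  have h0' : u ≠ 0 := fun e => h0 (Subtype.ext e)
  have h2 : ∀ x y : F × F, x.1 • u + x.2 • r (i 0) u = y.1 • u + y.2 • r (i 0) u → x = y := fun x y e => by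
    have h3 : r (i 0) (r (i 0) u) = -u := by rw [← r_mul, f.ii, f.rs_apply]
    have h4 := congrArg (r (i 0)) e
    simp only [map_add, map_smul, h3] at h4
    have h5 : ((x.1 - y.1) * (x.1 - y.1) + (x.2 - y.2) * (x.2 - y.2)) • u = 0 := by
      linear_combination (norm := module) (x.1 - y.1) • e - (x.2 - y.2) • h4
    have h6 := (by decide : ∀ a b : F, a * a + b * b = 0 → a = 0 ∧ b = 0) _ _ ((smul_eq_zero.1 h5).resolve_right h0')
    exact Prod.ext (sub_eq_zero.1 h6.1) (sub_eq_zero.1 h6.2)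
  refine ⟨u, hu, h0', h1, h2, fun v hv => ?_⟩
  obtain ⟨x, hx⟩ := ((Nat.bijective_iff_injective_and_card (fun x : F × F => (⟨x.1 • u + x.2 • r (i 0) u,
    add_mem (Submodule.smul_mem _ _ hu) (Submodule.smul_mem _ _ h1)⟩ : U r i j k))).2
    ⟨fun x y e => h2 x y (congrArg Subtype.val e), by simp [hc]⟩).2 ⟨v, hv⟩
  exact ⟨x, (congrArg Subtype.val hx).symm⟩

/-- Schur's lemma on a plane -/
theorem schur [Finite V] (k : Fin 4) {g : Γ} (h : ∀ v ∈ U r i j k, r g v ∈ U r i j k) (h1 : Commute g (i 0))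
    (h2 : Commute g (j 0)) : (∀ v ∈ U r i j k, r g v = v) ∨ ∀ v ∈ U r i j k, r g v = -v := by
  obtain ⟨u, hu, h0, hi, hinj, hsp⟩ := basis A f k
  obtain ⟨⟨a, b⟩, e⟩ := hsp _ (h u hu)
  have h3 : ∀ v, r (i 0) (r (i 0) v) = -v := fun v => by rw [← r_mul, f.ii, f.rs_apply]
  have h4 : ∀ v ∈ U r i j k, r g v = a • v + b • r (i 0) v := fun v hv => by
    obtain ⟨x, rfl⟩ := hsp v hv
    simp only [map_add, map_smul, r_comm h1, e, h3]
    module
  have h5 := h4 _ (U_map A f (q0_fw A f 2 1) (q0_fw A f 2 2) hu)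
  change r g (r (j 0) u) = a • r (j 0) u + b • r (i 0) (r (j 0) u) at h5
  rw [r_comm h2, e, map_add, map_smul, map_smul, ← r_mul (j 0), f.ji, r_mul, f.rs_apply, r_mul, add_right_inj,
    smul_neg] at h5
  have h6 : b = 0 := (smul_eq_zero.1 (eq_zero_of_neg h5)).resolve_right fun e' => h0 (by
    simpa [r_inv] using congrArg (fun x => r (j 0)⁻¹ (r (i 0)⁻¹ x)) e')
  rcases (by decide : ∀ a : F, a = 0 ∨ a = 1 ∨ a = -1) a with rfl | rfl | rfl
  · exact absurd (by simpa [h6, r_inv] using congrArg (r g⁻¹) e) h0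
  · exact Or.inl fun v hv => by simp [h4 v hv, h6]
  · exact Or.inr fun v hv => by simp [h4 v hv, h6]

theorem ext_U {g k : Γ} (h : ∀ l, ∀ v ∈ U r i j l, r g v = r k v) : g = k := A.ext fun v => by
  obtain ⟨u, hu, rfl⟩ := dec A f v
  simp [h _ _ (hu _)]

theorem sq_eq_one [Finite V] {g : Γ} (h1 : Commute g (i 0)) (h2 : Commute g (j 0)) (h3 : Commute g (fw i j 1))
    (h4 : Commute g (fw i j 2)) : g * g = 1 := ext_U A f fun l v hv => by
  rcases schur A f l (fun _ => U_map A f h3 h4) h1 h2 with e | e <;> simp [r_mul, e v hv]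

theorem plane [Finite V] (k : Fin 4) {d : Γ} (h : ∀ v ∈ U r i j k, r d v ∈ U r i j k) :
    (d ^ 256 = 1 → ∀ v ∈ U r i j k, r (d ^ 4) v = v) ∧ ((∀ v ∈ U r i j k, r (d ^ 2) v = v) →
      (∀ v ∈ U r i j k, r d v = v) ∨ ∀ v ∈ U r i j k, r d v = -v) := by
  obtain ⟨u, hu, h0, hi, hinj, hsp⟩ := basis A f k
  obtain ⟨⟨a, b⟩, e⟩ := hsp _ (h u hu)
  obtain ⟨⟨a', b'⟩, e'⟩ := hsp _ (h _ hi)
  have h1 : β u (r (i 0) u) ≠ 0 := fun h1 => h0 (nd A f k hu fun v hv => by
    obtain ⟨x, rfl⟩ := hsp v hv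
    simp [h1, A.alt])
  have h2 : a * b' - b * a' = 1 := by
    have := A.inv d u (r (i 0) u)
    rw [e, e'] at this
    simp only [map_add, map_smul, LinearMap.add_apply, LinearMap.smul_apply, A.alt, A.skew (r (i 0) u) u,
      smul_eq_mul] at this
    exact mul_right_cancel₀ h1 (by linear_combination this)
  have h3 : ∀ (n : ℕ) (x : F × F), r (d ^ n) (x.1 • u + x.2 • r (i 0) u) =
      ((stp a b a' b')^[n] x).1 • u + ((stp a b a' b')^[n] x).2 • r (i 0) u := fun n => by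
    induction n with
    | zero => simp
    | succ n ih =>
      intro x
      rw [pow_succ, r_mul, Function.iterate_succ_apply, ← ih]
      simp only [map_add, map_smul, e, e', stp]
      module
  refine ⟨fun h4 v hv => ?_, fun h4 => ?_⟩
  · obtain ⟨x, rfl⟩ := hsp v hv
    have h5 := h3 (4 + 12 * 21) x
    rw [h4, Function.iterate_add_apply, Function.iterate_mul, Function.iterate_fixed (stp12 _ _ _ _ h2 x)] at h5
    rw [h3, ← h5, map_one]; rfl
  · refine (stp2 _ _ _ _ h2 fun x => hinj _ _ ((h3 2 x).symm.trans (h4 _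
      (add_mem (Submodule.smul_mem _ _ hu) (Submodule.smul_mem _ _ hi))))).imp (fun h5 v hv => ?_) fun h5 v hv => ?_
    all_goals
      obtain ⟨x, rfl⟩ := hsp v hv
      have := h3 1 x
      rw [pow_one, Function.iterate_one, h5] at this
      rw [this]
    simp [add_comm]

/-! ### The centralizer of `t` -/

theorem nR {g x : Γ} (hx : x ∈ R) : g * x * g⁻¹ ∈ R := by
  rw [← A.ker] at hx ⊢; simp [hx]

theorem cover [Finite V] {x : L} (hx : Commute x (π t)) : ∃ n, Commute n t ∧ π n = x := by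
  obtain ⟨n, rfl⟩ := A.surj x
  have ht : t⁻¹ = t := inv_eq_of_mul_eq_one_right f.tt
  have h1 : n * t * n⁻¹ * t⁻¹ ∈ R := by rw [← A.ker]; simp [hx.eq]
  obtain ⟨w, hw⟩ := form_inv A f h1 (by simp [ht, mul_assoc, ← mul_assoc t t, f.tt])
  have h2 : (q i j 1 w)⁻¹ * n * t * ((q i j 1 w)⁻¹ * n)⁻¹ = t ∨
      (q i j 1 w)⁻¹ * n * t * ((q i j 1 w)⁻¹ * n)⁻¹ = s * t := by
    have h3 : ∀ y, n * t * n⁻¹ = q i j 1 w * y * (q i j 1 w)⁻¹ →
        (q i j 1 w)⁻¹ * n * t * ((q i j 1 w)⁻¹ * n)⁻¹ = y := fun y hy => by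
      rw [show y = (q i j 1 w)⁻¹ * (n * t * n⁻¹) * q i j 1 w by rw [hy]; group]; group
    have h4 : q i j 1 w * (s * t) * (q i j 1 w)⁻¹ = s * (q i j 1 w * t * (q i j 1 w)⁻¹) := by
      rw [← mul_assoc, (A.sc _).eq]; group
    have h5 := conj_t A f w
    simp only [mul_inv_eq_iff_eq_mul (b := t)] at hw
    split_ifs at h5 <;> rcases hw with hw | hw
    · exact Or.inl (h3 _ (by rw [h5, hw, one_mul]))
    · exact Or.inr (h3 _ (by rw [h4, h5, hw, one_mul, mul_assoc]))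
    · exact Or.inr (h3 _ (by rw [h4, h5, hw, ← mul_assoc, ← mul_assoc, A.ss, one_mul]))
    · exact Or.inl (h3 _ (by rw [h5, hw]))
  refine ⟨(q i j 1 w)⁻¹ * n, mul_inv_eq_iff_eq_mul.1 (h2.resolve_right fun h => ?_),
    by rw [map_mul, (A.ker _).2 (inv_mem (qR A f _ _)), one_mul]⟩
  have h3 := Set.ncard_le_ncard_of_injOn (s := {v | r t v = v}) (t := (U r i j 0 : Set V))
    (r ((q i j 1 w)⁻¹ * n)) (fun v hv => (neg_iff A f).1 (by
      rw [← neg_eq_iff_eq_neg, ← f.rs_apply, ← r_mul, ← h, r_mul, r_inv, r_mul, hv]))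
    fun x _ y _ e => by simpa only [r_inv] using congrArg (r ((q i j 1 w)⁻¹ * n)⁻¹) e
  rw [card_fix A f, ← Nat.card_coe_set_eq, show Nat.card (U r i j 0 : Set V) = 9 from card_U A f 0] at h3
  omega

theorem U0_map {g : Γ} (hg : Commute g t) {v : V} (hv : v ∈ U r i j 0) : r g v ∈ U r i j 0 :=
  (neg_iff A f).1 (by rw [← r_comm hg, (neg_iff A f).2 hv, map_neg])

theorem fw_inj {w w' : Fin 4} (h : fw i j w = fw i j w') : w = w' :=
  congrFun (wd_inj A f (e := 0) (e' := 0) (w := ![0, w, w]) (w' := ![0, w', w']) (by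
    simpa [wd, fw, show q i j 0 0 = 1 from rfl] using h)) 1

theorem exists_pm [Finite V] {g : Γ} (hg : Commute g t) : ∃ x, Pm i j g x := by
  have key : ∀ m : Fin 3, ∃ n : Fin 3, g * fw i j m.succ * g⁻¹ = fw i j n.succ := fun m => by
    have h1 : Commute t (g * fw i j m.succ * g⁻¹) := (hg.symm.mul_right (t_fw A f _)).mul_right hg.symm.inv_right
    obtain ⟨w, h | h⟩ := form_inv A f (nR A f (g := g) (fwR A f m.succ)) (by
      rw [h1.eq, mul_inv_cancel_right, eq_inv_iff_mul_eq_one, conj_mul, fw_sq A f, mul_one, mul_inv_cancel])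
    · refine (Fin.eq_zero_or_eq_succ w).elim (fun e => ?_) fun ⟨n, e⟩ => ⟨n, e ▸ h⟩
      rw [e, fw0, conj_eq_one_iff] at h
      exact absurd (fw_inj A f (h.trans fw0.symm)) (Fin.succ_ne_zero m)
    · obtain ⟨u, hu, h0, -⟩ := basis A f 0
      have h2 : r (g * fw i j m.succ * g⁻¹) u = u := by
        rw [r_mul, r_mul, mem_U.1 (U0_map A f hg.inv_left hu)]; simp [χ, r_inv']
      rw [h, r_mul, mem_U.1 hu, f.rs_apply] at h2
      exact absurd (eq_zero_of_neg (by simpa [χ] using h2)) h0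
  exact ⟨_, fun m => (key m).choose_spec⟩

theorem pm_one {x : Fin 3 → Fin 3} (h : Pm i j 1 x) : x = id := funext fun m =>
  Fin.succ_injective _ (fw_inj A f (by simpa using (h m).symm))

theorem κt : Commute (c 1 * c 2) t := (mul_inv_eq_iff_eq_mul.1 (by
  rw [← conj_mul, f.tc1 A, f.tc2 A, (f.cc A 2 1).eq]) : Commute t _).symm

theorem κ3 : (c 1 * c 2) ^ 3 = 1 := by rw [(f.cc A 1 2).mul_pow, f.c3 A, f.c3 A, one_mul]

theorem pm_κ : Pm i j (c 1 * c 2) (· + 1) := by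
  have h1 : ∀ x y, Commute (c 2) x → c 1 * x * (c 1)⁻¹ = y → c 1 * c 2 * x * (c 1 * c 2)⁻¹ = y := fun x y h e => by
    rw [← e, mul_assoc (c 1), h.eq]; group
  have h2 : ∀ x y, Commute (c 1) x → c 2 * x * (c 2)⁻¹ = y → c 1 * c 2 * x * (c 1 * c 2)⁻¹ = y := fun x y h e => by
    rw [← e, (f.cc A 1 2).eq, mul_assoc (c 2), h.eq]; group
  have a1 := h1 _ _ (f.cci A (by decide)) (f.ci A 1)
  have a2 := h1 _ _ (f.ccj A (by decide)) (f.cj A 1)
  have a3 := h2 _ _ (f.cci A (by decide)) (f.ci A 2)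
  have a4 := h2 _ _ (f.ccj A (by decide)) (f.cj A 2)
  have h3 : ∀ a, j a * (i a * j a) = i a := fun a => by
    rw [← mul_assoc, f.ji, mul_assoc, mul_assoc, f.jj, (A.sc _).eq, ← mul_assoc, A.ss, one_mul]
  intro m
  fin_cases m
  · change _ * (i 1 * i 2) * _ = j 1 * j 2
    rw [← conj_mul, a1, a3]
  · change _ * (j 1 * j 2) * _ = i 1 * j 1 * (i 2 * j 2)
    rw [← conj_mul, a2, a4]
  · change _ * (i 1 * j 1 * (i 2 * j 2)) * _ = i 1 * i 2
    rw [← conj_mul, ← conj_mul, ← conj_mul, a1, a2, a3, a4, h3, h3]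

theorem fth [Finite V] {g : Γ} (hg : Commute g t) (h : ∀ v, r t v = v → r g v = v) : g = 1 ∨ g = t := by
  have key : ∀ k, Commute g (q i j 0 k) := fun k => by
    have ha := t_q0 A f k
    have h1 : Commute t (g * q i j 0 k * g⁻¹ * (q i j 0 k)⁻¹) :=
      ((hg.symm.mul_right ha).mul_right hg.symm.inv_right).mul_right ha.inv_right
    have h2 : ∀ l ≠ 0, ∀ v ∈ U r i j l, r (g * q i j 0 k * g⁻¹ * (q i j 0 k)⁻¹) v = v := fun l hl v hv => by
      have h3 : r t v = v := by simpa [hl] using rt_U A f hv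
      have h4 : r t (r (q i j 0 k)⁻¹ v) = r (q i j 0 k)⁻¹ v := by rw [r_comm ha.inv_right, h3]
      have h5 := congrArg (r g⁻¹) (h _ h4)
      rw [r_inv] at h5
      rw [r_mul, r_mul, r_mul, ← h5, r_inv', h _ h3]
    obtain ⟨e, w0, w, hw⟩ := form A f (mul_mem (nR A f (g := g) (qR A f 0 k)) (inv_mem (qR A f 0 k)))
      (Or.inl (by rw [h1.eq, mul_inv_cancel_right]))
    rw [hw] at h2
    have h3 : ∀ l ≠ 0, ∃ u ≠ 0, χ w l • r (s ^ e) (r (q i j 0 w0) u) = u ∧
        χ w l • r (s ^ e) (r (q i j 0 w0) (χ w l • r (s ^ e) (r (q i j 0 w0) u))) = u := fun l hl => by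
      obtain ⟨u, hu, h0, -⟩ := basis A f l
      have := h2 l hl u hu
      rw [r_mul, r_mul, mem_U.1 hu, map_smul, map_smul] at this
      exact ⟨u, h0, this, by rw [this, this]⟩
    obtain rfl : w0 = 0 := by_contra fun h0 => by
      obtain ⟨u, hu, -, h4⟩ := h3 1 (by decide)
      rw [map_smul, map_smul, smul_smul, (by decide : ∀ w l, χ w l * χ w l = 1), one_smul,
        r_comm ((A.sc _).pow_right e), ← r_mul (q _ _ _ _), (q_mul A f 0 w0 w0).1 h0, ← r_mul, ← pow_add, ← two_mul,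
        pow_mul, sq, A.ss, one_pow, map_one, f.rs_apply] at h4
      exact hu (eq_zero_of_neg h4)
    have h4 : ∀ a : F, (∀ u, r (s ^ e) u = a • u) → ∀ l ≠ 0, χ w l * a = 1 := fun a ha l hl => by
      obtain ⟨u, hu, h4, -⟩ := h3 l hl
      rw [ha, smul_smul, show q i j 0 0 = 1 from rfl, map_one, Module.End.one_apply, ← sub_eq_zero] at h4
      exact sub_eq_zero.1 ((smul_eq_zero.1 (by rw [sub_smul, one_smul, h4])).resolve_right hu)
    rcases s_pow A f e with e' | e'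
    · obtain rfl := (by decide : ∀ w, (∀ l ≠ 0, χ w l * 1 = 1) → w = 0) w (h4 1 fun u => by simp [e'])
      rw [e', fw0, show q i j 0 0 = 1 from rfl, one_mul, one_mul, mul_inv_eq_one, mul_inv_eq_iff_eq_mul] at hw
      exact hw
    · exact absurd (h4 (-1) fun u => by simp [e', f.rs_apply]) ((by decide : ∀ w, ¬ ∀ l ≠ 0, χ w l * -1 = 1) w)
  refine (schur A f 0 (fun _ => U0_map A f hg) (key 1) (key 2)).imp (fun e => ext_U A f fun l v hv => ?_)
    fun e => ext_U A f fun l v hv => ?_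
  · by_cases hl : l = 0
    · subst hl; simp [e v hv]
    · simp [h v (by simpa [hl] using rt_U A f hv)]
  · by_cases hl : l = 0
    · subst hl; rw [e v hv, (neg_iff A f).2 hv]
    · have : r t v = v := by simpa [hl] using rt_U A f hv
      rw [h v this, this]

theorem o3 [Finite V] (X : Subgroup Γ) (h1 : ∀ x ∈ X, Commute x t) (h2 : ∀ g, Commute g t → ∀ x ∈ X, g * x * g⁻¹ ∈ X)
    (h3 : ∀ x ∈ X, ∃ n : ℕ, x ^ 3 ^ n ∈ zpowers t) : X ≤ zpowers t := fun x hx => by
  have key : ∀ b ∈ R, Commute t b → Commute x b := fun b hb hb' => by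
    have h4 : x * b * x⁻¹ * b⁻¹ ∈ R := mul_mem (nR A f hb) (inv_mem hb)
    obtain ⟨n, k, hk⟩ := h3 (x * b * x⁻¹ * b⁻¹) (by
      simpa [mul_assoc] using mul_mem hx (h2 b hb'.symm _ (inv_mem hx)))
    have h5 : t ^ (2 : ℤ) = 1 := by rw [zpow_two, f.tt]
    have h6 : (x * b * x⁻¹ * b⁻¹) ^ 3 ^ n = 1 := by
      rcases Int.even_or_odd' k with ⟨l, rfl | rfl⟩
      · simpa [zpow_mul, h5] using hk.symm
      · exact absurd (by simpa [← hk, zpow_add, zpow_mul, h5] using pow_mem h4 (3 ^ n)) (t_not A f)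
    exact mul_inv_eq_iff_eq_mul.1 (mul_inv_eq_one.1 (A.eq_one h6 ((A.ker _).2 h4)))
  have h4 := sq_eq_one A f (key _ (f.iR 0) f.ti0) (key _ (f.jR 0) f.tj0) (key _ (fwR A f 1) (t_fw A f 1))
    (key _ (fwR A f 2) (t_fw A f 2))
  obtain ⟨n, hn⟩ := h3 x hx
  obtain ⟨k, hk⟩ : Odd (3 ^ n) := Odd.pow (by decide)
  rwa [hk, pow_succ, pow_mul, sq, h4, one_pow, one_mul] at hn

theorem B_le {K : Subgroup Γ} (hK : ∀ x, Commute x t → x ^ 3 = 1 → x ∈ K) {g : Γ} (hg : g ∈ R) (h : Commute g t) :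
    g ∈ K := by
  have key : ∀ x b, Commute x t → x ^ 3 = 1 → Commute t b → x * b * x⁻¹ * b⁻¹ ∈ K := fun x b h1 h2 h3 => by
    simpa [mul_assoc] using mul_mem (hK x h1 h2) (inv_mem (hK (b * x * b⁻¹)
      ((h3.symm.mul_left h1).mul_left h3.symm.inv_left) (by rw [conj_pow, h2]; simp)))
  have c0 : Commute (c 0) t := (mul_inv_eq_iff_eq_mul.1 (f.tc0 A) : Commute t _).symm
  have h1 : i 0 ∈ K := by simpa [f.cj A] using key _ _ c0 (f.c3 A 0) f.tj0
  have h2 : j 0 ∈ K := by simpa [f.ci A] using mul_mem (key _ _ c0 (f.c3 A 0) f.ti0) h1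
  have h3 : fw i j 1 ∈ K := by
    have := key _ _ (κt A f) (κ3 A f) (t_fw A f 2)
    rwa [show c 1 * c 2 * fw i j 2 * _ = fw i j 3 from pm_κ A f 1, ← fw12 A f, mul_inv_cancel_right] at this
  have h4 : fw i j 2 ∈ K := by
    have := mul_mem (key _ _ (κt A f) (κ3 A f) (t_fw A f 1)) h3
    rwa [show c 1 * c 2 * fw i j 1 * _ = fw i j 2 from pm_κ A f 0, inv_mul_cancel_right] at this
  obtain ⟨e, w0, w, rfl⟩ := form A f hg (Or.inl (by rw [← h.eq, mul_inv_cancel_right]))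
  refine mul_mem (pow_mem (f.ii 0 ▸ mul_mem h1 h1) e) (mul_mem ?_ ?_)
  · fin_cases w0
    exacts [one_mem _, h1, h2, mul_mem h1 h2]
  · fin_cases w
    exacts [fw0 (i := i) (j := j) ▸ one_mem _, h3, h4, fw12 A f ▸ mul_mem h3 h4]

end Good

open Good in
theorem goodThm : GoodThm.{u} := by
  intro Γ V L _ _ _ _ _ _ _ r β R s π A i j c ρ t v0 f ⟨h72, ⟨D₀, h8, hD, hDn⟩, hgen⟩
  let π' : centralizer ({t} : Set Γ) →* centralizer ({π t} : Set L) := (π.comp (Subgroup.subtype _)).codRestrict _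
    fun n => mem_centralizer_singleton_iff.2 ((show Commute (n : Γ) t from mem_centralizer_singleton_iff.1 n.2).map π)
  have hs : Function.Surjective π' := fun x => by
    obtain ⟨n, h1, h2⟩ := cover A f (mem_centralizer_singleton_iff.1 x.2)
    exact ⟨⟨n, mem_centralizer_singleton_iff.2 h1⟩, Subtype.ext h2⟩
  have hC : Nat.card (centralizer ({t} : Set Γ)) = 256 * 9 := by
    have h1 : π'.ker = (R ⊓ centralizer {t}).subgroupOf _ := Subgroup.ext fun n => by
      rw [inf_subgroupOf_right]; exact Subtype.ext_iff.trans (A.ker n)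
    rw [← card_mul_index π'.ker, index_ker, MonoidHom.range_eq_top.2 hs, card_top, h72, h1,
      Nat.card_congr (subgroupOfEquivOfLe inf_le_right).toEquiv, card_B A f]
  have hD' : D₀ ≤ centralizer {π t} := fun d hd => mem_centralizer_singleton_iff.2 (hD d hd)
  have h9 : (D₀.subgroupOf (centralizer {π t})).index = 9 := by
    have := card_mul_index (D₀.subgroupOf (centralizer {π t}))
    rw [Nat.card_congr (subgroupOfEquivOfLe hD').toEquiv, h8, h72] at this
    omega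
  have hc : Nat.card ↥(D₀.comap π ⊓ centralizer {t}) = 256 := by
    have := card_mul_index ((D₀.comap π ⊓ centralizer {t}).subgroupOf (centralizer {t}))
    rw [Nat.card_congr (subgroupOfEquivOfLe inf_le_right).toEquiv, inf_subgroupOf_right, hC,
      show (D₀.comap π).subgroupOf (centralizer {t}) = (D₀.subgroupOf _).comap π' from rfl,
      index_comap_of_surjective _ hs, h9] at this
    omega
  have Dt : ∀ d ∈ D₀.comap π ⊓ centralizer {t}, Commute d t := fun d hd => mem_centralizer_singleton_iff.1 hd.2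
  have Dn : ∀ g, Commute g t → ∀ d ∈ D₀.comap π ⊓ centralizer {t}, g * d * g⁻¹ ∈ D₀.comap π ⊓ centralizer {t} :=
    fun g hg d hd => ⟨by simpa using hDn _ (hg.map π) _ hd.1,
      mem_centralizer_singleton_iff.2 ((hg.mul_left (Dt d hd)).mul_left hg.inv_left)⟩
  have D256 : ∀ d ∈ D₀.comap π ⊓ centralizer {t}, d ^ 256 = 1 := fun d hd =>
    congrArg Subtype.val (hc ▸ pow_card_eq_one' (x := (⟨d, hd⟩ : ↥(D₀.comap π ⊓ centralizer {t}))))
  have DW : ∀ d ∈ D₀.comap π ⊓ centralizer {t}, ∀ k, ∀ v ∈ U r i j k, r d v ∈ U r i j k := fun d hd k v hv => by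
    obtain ⟨x, hx⟩ := exists_pm A f (Dt d hd)
    have h1 : (c 1 * c 2)⁻¹ = c 1 * c 2 * (c 1 * c 2) :=
      inv_eq_of_mul_eq_one_right (by rw [← κ3 A f, pow_succ', sq])
    have h2 := D256 _ (mul_mem hd (Dn _ (κt A f) d hd))
    rw [h1, mul_assoc (c 1 * c 2)] at h2
    obtain rfl := perm3 x (pm_one A f (D256 d hd ▸ hx.pow 256))
      (pm_one A f (h2 ▸ (hx.mul ((pm_κ A f).mul (hx.mul ((pm_κ A f).mul (pm_κ A f))))).pow 256))
    exact U_map A f (mul_inv_eq_iff_eq_mul.1 (hx 0)) (mul_inv_eq_iff_eq_mul.1 (hx 1)) hv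
  refine ⟨fun m => U r i j m.succ, D₀.comap π ⊓ centralizer {t}, fun m => card_U A f _,
    fun m v hv => by simpa using rt_U A f hv, fun v hv => sum_fix A f hv, card_fix A f,
    fun m n h u hu v hv => orth A f (fun e => h (Fin.succ_injective _ e)) hu hv, fun m u hu => nd A f _ hu, Dt, Dn,
    ⟨?_, mem_centralizer_singleton_iff.2 rfl⟩, hc, hC, fun d hd m => DW d hd _,
    fun d hd m => (plane A f _ (DW d hd _)).1 (D256 d hd), fun d hd m => (plane A f _ (DW d hd _)).2, fun m => ?_,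
    fun g => fth A f, o3 A f, fun K hK g hg => ?_, cj A f⟩
  · have : (D₀.subgroupOf (centralizer {π t})).Normal :=
      ⟨fun d hd g => hDn _ (mem_centralizer_singleton_iff.1 g.2) _ hd⟩
    have h1 := (D₀.subgroupOf (centralizer {π t})).pow_index_mem ⟨π t, mem_centralizer_singleton_iff.2 rfl⟩
    rw [h9, mem_subgroupOf, coe_pow, ← map_pow, show t ^ 9 = (t * t) ^ 4 * t by rw [← sq, ← pow_mul, ← pow_succ],
      f.tt, one_pow, one_mul] at h1
    exact h1
  · refine ⟨s * fw i j m.succ, ⟨by simp [(A.ker _).2 A.sR, (A.ker _).2 (fwR A f _)], mem_centralizer_singleton_iff.2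
      ((A.sc t).symm.mul_left (t_fw A f _).symm)⟩, fun v hv => ?_, fun n hn v hv => ?_⟩
    · rw [r_mul, mem_U.1 hv, f.rs_apply]; simp [χ]
    · rw [r_mul, mem_U.1 hv, f.rs_apply]; simp [χ, hn.symm]
  · obtain ⟨k, hk, e⟩ := hgen ((K ⊓ centralizer {t}).map π) (fun x hx h3 => by
      obtain ⟨n, h1, rfl⟩ := cover A f hx
      refine ⟨n ^ 4, ⟨hK _ (h1.pow_left 4) ?_, mem_centralizer_singleton_iff.2 (h1.pow_left 4)⟩, ?_⟩
      · rw [← pow_mul, mul_comm, pow_mul, A.exp4 ((A.ker _).1 (by rw [map_pow, h3]))]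
      · rw [map_pow, pow_succ, h3, one_mul]) (π g) (hg.map π)
    simpa using mul_mem (B_le A f hK (g := g * k⁻¹) ((A.ker _).1 (by simp [e]))
      (hg.mul_left (Commute.inv_left (mem_centralizer_singleton_iff.1 hk.2)))) hk.1

end CL.F3C
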