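/-
Groups with a `3`-centralizer of shape `3^(1+8).2^(1+6).L`: frames of the top group `3^(1+2):SL₂(3)`.
-/
import Cfsg.Agent.F3C.Bas
import Cfsg.Agent.Hay.Main

set_option autoImplicit false

namespace CL.F3C

open Subgroup
open scoped commutatorElement

universe u

namespace LT

instance (priority := high) decF : DecidableEq F := instDecidableEqFin 3

/-- coordinates -/
@[ext] structure M where
  a : F
  b : F
  c : F
  p : F
  q : F
  r : F
  s : F
  det : p * s - q * r = 1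
  deriving DecidableEq

set_option synthInstance.maxSize 1024 in
deriving instance Fintype for M

instance : Mul M := ⟨fun x y => ⟨x.a + y.a + (x.b * (x.r * y.b + x.s * y.c) - x.c * (x.p * y.b + x.q * y.c)),
  x.b + (x.p * y.b + x.q * y.c), x.c + (x.r * y.b + x.s * y.c), x.p * y.p + x.q * y.r, x.p * y.q + x.q * y.s,
  x.r * y.p + x.s * y.r, x.r * y.q + x.s * y.s, by linear_combination (y.p * y.s - y.q * y.r) * x.det + y.det⟩⟩
instance : One M := ⟨⟨0, 0, 0, 1, 0, 0, 1, by decide⟩⟩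
instance : Inv M := ⟨fun x => ⟨-x.a, x.q * x.c - x.s * x.b, x.r * x.b - x.p * x.c, x.s, -x.q, -x.r, x.p,
  by linear_combination x.det⟩⟩

theorem mul_def (x y : M) : x * y = ⟨x.a + y.a + (x.b * (x.r * y.b + x.s * y.c) - x.c * (x.p * y.b + x.q * y.c)),
  x.b + (x.p * y.b + x.q * y.c), x.c + (x.r * y.b + x.s * y.c), x.p * y.p + x.q * y.r, x.p * y.q + x.q * y.s,
  x.r * y.p + x.s * y.r, x.r * y.q + x.s * y.s, by linear_combination (y.p * y.s - y.q * y.r) * x.det + y.det⟩ := rfl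

theorem all3 (P : F → Prop) : P 0 ∧ P 1 ∧ P 2 ↔ ∀ x, P x :=
  ⟨fun h x => by fin_cases x; exacts [h.1, h.2.1, h.2.2], fun h => ⟨h _, h _, h _⟩⟩

instance (priority := high) decAll3 (P : F → Prop) [DecidablePred P] : Decidable (∀ x, P x) :=
  decidable_of_iff _ (all3 P)

instance (priority := high) decEx3 (P : F → Prop) [DecidablePred P] : Decidable (∃ x, P x) :=
  decidable_of_iff (P 0 ∨ P 1 ∨ P 2) (by rw [← not_iff_not, not_exists, ← all3, not_or, not_or])

instance (priority := high) decAll (P : M → Prop) [DecidablePred P] : Decidable (∀ x, P x) :=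
  decidable_of_iff (∀ p q r s (h : p * s - q * r = 1) a b c, P ⟨a, b, c, p, q, r, s, h⟩)
    ⟨fun H _ => H .., fun H _ _ _ _ _ _ _ _ => H _⟩

instance : Group M := Group.ofLeftAxioms (fun x y z => by
    ext <;> simp only [mul_def]
    · linear_combination (y.b * (y.r * z.b + y.s * z.c) - y.c * (y.p * z.b + y.q * z.c)) * x.det
    all_goals ring) (by decide +kernel) (by decide +kernel)

instance (x y : M) : Decidable (Commute x y) := inferInstanceAs (Decidable (x * y = y * x))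

/-- a subgroup given by a predicate -/
def sub (P : M → Prop) (h : P 1 ∧ ∀ x, P x → P x⁻¹ ∧ ∀ y, P y → P (x * y)) : Subgroup M where
  carrier := {x | P x}
  one_mem' := h.1
  mul_mem' h1 h2 := (h.2 _ h1).2 _ h2
  inv_mem' h1 := (h.2 _ h1).1

theorem card_sub {H : Subgroup M} (P : M → Prop) [DecidablePred P] (h : ∀ x, x ∈ H ↔ P x) :
    Nat.card H = (Finset.univ.filter P).card :=
  Nat.subtype_card _ (by simpa using fun x => (h x).symm)

abbrev PT (x : M) : Prop := x.p = 1 ∧ x.r = 0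
abbrev PJ (x : M) : Prop := x.p = 1 ∧ x.r = 0 ∧ x.c = 0
abbrev PD (x : M) : Prop := x.a = 0 ∧ x.b = 0 ∧ x.c = 0 ∧ (x.p + x.s = 0 ∨ x.q = 0 ∧ x.r = 0)

instance (priority := high + 1) decT (P : M → Prop) [DecidablePred P] : Decidable (∀ x, PT x → P x) :=
  decidable_of_iff (∀ a b c q, P ⟨a, b, c, 1, q, 0, 1, by simp⟩) ⟨fun H ⟨a, b, c, p, q, r, s, h⟩ ⟨h1, h2⟩ => by
    obtain rfl : p = 1 := h1
    obtain rfl : r = 0 := h2
    obtain rfl : s = 1 := by simpa using h
    exact H .., fun H _ _ _ _ => H _ ⟨rfl, rfl⟩⟩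

instance (priority := high + 1) decJ (P : M → Prop) [DecidablePred P] : Decidable (∀ x, PJ x → P x) :=
  decidable_of_iff (∀ a b q, P ⟨a, b, 0, 1, q, 0, 1, by simp⟩) ⟨fun H ⟨a, b, c, p, q, r, s, h⟩ ⟨h1, h2, h3⟩ => by
    obtain rfl : p = 1 := h1
    obtain rfl : r = 0 := h2
    obtain rfl : c = 0 := h3
    obtain rfl : s = 1 := by simpa using h
    exact H .., fun H _ _ _ => H _ ⟨rfl, rfl, rfl⟩⟩

def T0 : Subgroup M := sub PT (by decide +kernel)
def J0 : Subgroup M := sub PJ (by decide +kernel)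
def D0 : Subgroup M := sub PD (by decide +kernel)
def zz (a : F) : M := ⟨a, 0, 0, 1, 0, 0, 1, by decide⟩
def uu (a : F) : M := ⟨0, 0, 0, 1, a, 0, 1, by simp⟩
def ww (a : F) : M := ⟨0, 0, 0, 1, 0, a, 1, by simp⟩
def j0 : M := ⟨0, 1, 0, 1, 0, 0, 1, by decide⟩
def ρ0 : M := ⟨0, 0, 1, 1, 0, 0, 1, by decide⟩
def τ0 : M := ⟨0, 0, 0, -1, 0, 0, -1, by decide⟩

theorem card_M : Nat.card M = 648 := Nat.card_eq_fintype_card.trans (by decide +kernel)
theorem card_T : Nat.card T0 = 3 ^ 4 := (card_sub PT fun _ => Iff.rfl).trans (by decide +kernel)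
theorem card_J : Nat.card J0 = 27 := (card_sub PJ fun _ => Iff.rfl).trans (by decide +kernel)

theorem lf0 : LF J0 (zz 1) j0 ρ0 τ0 where
  card := card_J
  comm a ha b hb := (by decide +kernel : ∀ a, PJ a → ∀ b, PJ b → Commute a b) a ha b hb
  exp a ha := (by decide +kernel : ∀ a, PJ a → a ^ 3 = 1) a ha
  cJ := (by decide +kernel : PJ _)
  jJ := (by decide +kernel : PJ _)
  c1 := by decide +kernel
  ρ3 := by decide +kernel
  ρJ a ha := (by decide +kernel : ∀ a, PJ a → PJ (ρ0 * a * ρ0⁻¹)) a ha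
  ρc := by decide +kernel
  ρj := by decide +kernel
  τ2 := by decide +kernel
  τJ a ha := (by decide +kernel : ∀ a, PJ a → PJ (τ0 * a * τ0⁻¹)) a ha
  τc := by decide +kernel
  τj := by decide +kernel

theorem real : ∀ y, PJ y → y ≠ 1 → (∃ a b : F, ¬ 3 ∣ a.val ∧ y = j0 ^ a.val * zz 1 ^ b.val) ∨
    ∀ g, (g * y).q = (y⁻¹ * g).q → (g * y).p = (y⁻¹ * g).p → g * y ≠ y⁻¹ * g := by decide +kernel

theorem x0 : X23 J0 (zz 1) j0 ρ0 τ0 := by
  refine ⟨⟨(card_sub (fun x => x * τ0 = τ0 * x) fun _ => mem_centralizer_singleton_iff).trans (by decide +kernel),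
    ⟨D0, (card_sub PD fun _ => Iff.rfl).trans (by decide +kernel),
      (by decide +kernel : ∀ d, PD d → Commute d τ0),
      (by decide +kernel : ∀ g, Commute g τ0 → ∀ d, PD d → PD (g * d * g⁻¹))⟩, fun K hK g hg => ?_⟩,
    fun y hy y1 hc => ?_⟩
  · obtain ⟨i, j, k, l, e⟩ := (by decide +kernel : ∀ g, Commute g τ0 → ∃ i j k l : F,
      g = zz g.a * uu i * ww j * uu k * ww l) g hg
    have h := (by decide +kernel : ∀ a, (Commute (zz a) τ0 ∧ zz a ^ 3 = 1) ∧ (Commute (uu a) τ0 ∧ uu a ^ 3 = 1) ∧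
      Commute (ww a) τ0 ∧ ww a ^ 3 = 1)
    have h1 := fun a => hK _ (h a).2.1.1 (h a).2.1.2
    have h2 := fun a => hK _ (h a).2.2.1 (h a).2.2.2
    exact e ▸ mul_mem (mul_mem (mul_mem (mul_mem (hK _ (h _).1.1 (h _).1.2) (h1 _)) (h2 _)) (h1 _)) (h2 _)
  · obtain ⟨g, e⟩ := isConj_iff.1 hc
    obtain ⟨a, b, h⟩ := (real y hy y1).resolve_right fun h =>
      have e' := mul_inv_eq_iff_eq_mul.1 e
      h g (congrArg _ e') (congrArg _ e') e'
    exact ⟨_, _, h⟩

theorem T_le : T0 ≤ J0 ⊔ zpowers ρ0 := fun x hx => by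
  obtain ⟨n, -, h⟩ := (by decide +kernel : ∀ x, PT x → ∃ n < 3, PJ (x * ρ0 ^ n)) x hx
  exact (mul_mem_cancel_right (mem_sup_right (npow_mem_zpowers ρ0 n))).1 (mem_sup_left h)

theorem into {P : Subgroup M} (h : IsPGroup 3 P) : ∃ g, ∀ x ∈ P, g * x * g⁻¹ ∈ T0 := by
  obtain ⟨g, -, k⟩ := (Grp.isSylowIn_top ((IsPGroup.of_card card_T).toSylow fun k => by
    have := T0.card_mul_index
    rw [card_T, card_M] at this
    omega)).exists_conj_le h le_top
  exact ⟨g, fun x hx => k (smul_mem_pointwise_smul x _ _ hx)⟩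

theorem fr0 : ∀ y, PT y → y ^ 3 = 1 → (∃ n < 3, y = zz 1 ^ n) ∨
    ∃ g ∈ [1, ww 1, ww 2, ww 2 * uu 1], ∀ x, PT x → Commute x y → PJ (g * x * g⁻¹) := by decide +kernel

theorem ea0 : ∀ w, PT w → PJ w ∨ ∀ x, PT x → Commute x w → ∃ a i : F, zz a * w ^ i.val = x := by decide +kernel

variable {L L' : Type*} [Group L] [Group L'] {J : Subgroup L} {c j ρ τ : L}

theorem lf_map (h : LF J c j ρ τ) (e : L ≃* L') : LF (J.map e.toMonoidHom) (e c) (e j) (e ρ) (e τ) where
  card := (card_map_of_injective e.injective).trans h.card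
  comm := by rintro _ ⟨a, ha, rfl⟩ _ ⟨b, hb, rfl⟩; exact (h.comm a ha b hb).map _
  exp := by rintro _ ⟨a, ha, rfl⟩; rw [← map_pow, h.exp a ha, map_one]
  cJ := ⟨c, h.cJ, rfl⟩
  jJ := ⟨j, h.jJ, rfl⟩
  c1 := e.map_ne_one_iff.2 h.c1
  ρ3 := by rw [← map_pow, h.ρ3, map_one]
  ρJ := by rintro _ ⟨a, ha, rfl⟩; exact ⟨_, h.ρJ a ha, by simp⟩
  ρc := h.ρc.map e
  ρj := by simpa using congrArg e h.ρj
  τ2 := by rw [← map_mul, h.τ2, map_one]
  τJ := by rintro _ ⟨a, ha, rfl⟩; exact ⟨_, h.τJ a ha, by simp⟩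
  τc := h.τc.map e
  τj := by simpa using congrArg e h.τj

theorem x_map (h : X23 J c j ρ τ) (e : L ≃* L') : X23 (J.map e.toMonoidHom) (e c) (e j) (e ρ) (e τ) := by
  obtain ⟨⟨h1, ⟨D, h2, h3, h4⟩, h5⟩, h6⟩ := h
  have cm : ∀ {x}, Commute (e x) (e τ) → Commute x τ := fun k => e.injective (by simpa using k.eq)
  refine ⟨⟨h1 ▸ (Nat.card_congr (e.toEquiv.subtypeEquiv fun x => ?_)).symm, ⟨D.map e.toMonoidHom,
    (card_map_of_injective e.injective).trans h2, ?_, fun g hg => ?_⟩, fun K hK g hg => ?_⟩, ?_⟩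
  · simp only [mem_centralizer_singleton_iff]
    exact ⟨fun k => Commute.map k e, cm⟩
  · rintro _ ⟨d, hd, rfl⟩; exact (h3 d hd).map e
  · obtain ⟨g, rfl⟩ := e.surjective g
    rintro _ ⟨d, hd, rfl⟩
    exact ⟨_, h4 g (cm hg) d hd, by simp⟩
  · obtain ⟨g, rfl⟩ := e.surjective g
    exact h5 (K.comap e.toMonoidHom) (fun x k1 k2 => hK _ (k1.map e) (by
      rw [← map_pow, k2, map_one])) g (cm hg)
  · rintro _ ⟨y, hy, rfl⟩ y1 k
    obtain ⟨a, b, k1, k2⟩ := h6 y hy (fun k => y1 (by rw [k, map_one])) (by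
      simpa using e.symm.toMonoidHom.map_isConj k)
    exact ⟨a, b, k1, by simp [k2]⟩

theorem lt_of (e : M ≃* L) : LT L X23 := by
  have pg : ∀ {P : Subgroup L}, IsPGroup 3 P → ∃ f : M ≃* L, ∀ x ∈ P, f.symm x ∈ T0 := fun h =>
    let ⟨g, k⟩ := into (h.map e.symm.toMonoidHom)
    ⟨(MulAut.conj g).symm.trans e, fun x hx => k _ ⟨x, hx, rfl⟩⟩
  have mp : ∀ (f : M ≃* L) (H : Subgroup M) {x}, f.symm x ∈ H → x ∈ H.map f.toMonoidHom := fun f H x h =>
    ⟨_, h, f.apply_symm_apply x⟩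
  refine ⟨by rw [← Nat.card_congr e.toEquiv, card_M]; decide, fun P y hP hy y3 hc => ?_, fun J h1 h2 h3 => ?_⟩
  · obtain ⟨f, k⟩ := pg hP
    rcases fr0 _ (k y hy) (by rw [← map_pow, y3, map_one]) with ⟨n, -, h⟩ | ⟨g, -, h⟩
    · refine ⟨_, _, _, _, _, lf_map lf0 f, x_map x0 f, fun x hx => ?_, .inr ⟨n, ?_⟩⟩
      · have := mp f _ (T_le (k x hx))
        rwa [Subgroup.map_sup, MonoidHom.map_zpowers] at this
      · simp only [zpow_natCast]
        rw [← map_pow, ← h, f.apply_symm_apply]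
    · have : P ≤ J0.map ((MulAut.conj g).symm.trans f).toMonoidHom := fun x hx =>
        mp _ _ (h _ (k x hx) ((hc x hx).map f.symm))
      exact ⟨_, _, _, _, _, lf_map lf0 _, x_map x0 _, this.trans le_sup_left, .inl this⟩
  · obtain ⟨f, k⟩ := pg (IsPGroup.of_card (n := 3) h1)
    have : Finite L := Finite.of_equiv _ e.toEquiv
    have l : J ≤ J0.map f.toMonoidHom := fun w hw => mp _ _ ((ea0 _ (k w hw)).resolve_right fun h => by
      have := (Nat.card_mono (Set.toFinite _) (fun x hx => by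
        obtain ⟨a, i, e⟩ := h _ (k x hx) ((h2 x hx w hw).map f.symm)
        exact ⟨(a, i), f.eq_symm_apply.1 e⟩ : (J : Set L) ⊆ Set.range fun p : F × F =>
          f (zz p.1 * f.symm w ^ p.2.val))).trans (Finite.card_range_le _)
      rw [show Nat.card (J : Set L) = 27 from h1] at this
      simp at this)
    rw [eq_of_le_of_card_ge l (by rw [(lf_map lf0 f).card, h1])]
    exact ⟨_, _, _, _, lf_map lf0 f, x_map x0 f⟩

open Matrix in
theorem exists_equiv {K : Type*} [Field K] (f : F ≃+* K) (X : Hay.Loc L K) (hC : X.C = ⊤) : Nonempty (M ≃* L) := by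
  let g : M → SpecialLinearGroup (Fin 2) K := fun x => ⟨!![f x.p, f x.q; f x.r, f x.s], by
    simpa [det_fin_two] using congrArg f x.det⟩
  refine ⟨MulEquiv.ofBijective (MonoidHom.mk' (fun x : M => X.zz (f x.a) * X.qq ![f x.b, f x.c] * X.ll (g x))
    fun x y => ?_) ⟨fun x y e => ?_, fun w => ?_⟩⟩
  · rw [X.mul_coord]
    congr 3
    · simp [mul_def, g, mulVec, dotProduct]
    · ext i; fin_cases i <;> simp [mul_def, g, mul_comm]
    · refine Subtype.ext (Eq.trans ?_ (Hay.val_mul _ _).symm)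
      simp [mul_def, g]
  · obtain ⟨h1, h2, h3⟩ := X.coord_inj e
    have h4 := fun i j => congrArg (fun x : SpecialLinearGroup (Fin 2) K => x.1 i j) h3
    exact M.ext (f.injective h1) (f.injective (congrFun h2 0)) (f.injective (congrFun h2 1)) (f.injective (h4 0 0))
      (f.injective (h4 0 1)) (f.injective (h4 1 0)) (f.injective (h4 1 1))
  · obtain ⟨a, v, s, rfl⟩ := X.mem_C.1 (hC.ge (mem_top w))
    refine ⟨⟨f.symm a, f.symm (v 0), f.symm (v 1), f.symm (s.1 0 0), f.symm (s.1 0 1), f.symm (s.1 1 0), f.symm (s.1 1 1),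
      f.injective (by simp [← det_fin_two])⟩, ?_⟩
    simp only [MonoidHom.mk'_apply]
    congr 3
    · simp
    · ext i; fin_cases i <;> simp
    · ext i j; fin_cases i <;> fin_cases j <;> simp [g]

end LT

theorem lThm : LThm.{u} := fun L _ _ K _ _ x hK hx ⟨P, hP⟩ ⟨e⟩ => by
  have f := ZMod.ringEquivOfPrime K Nat.prime_three hK
  have : CharP K 3 := charP_of_card_eq_prime hK
  have ct : ∀ z : L, (∀ c, c * z = z * c) → centralizer {z} = ⊤ := fun z h =>
    eq_top_iff.2 fun c _ => mem_centralizer_singleton_iff.2 (h c)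
  have hα := ct (e.symm ⟨x, mem_centralizer_singleton_iff.2 rfl⟩) fun c => e.injective (by
    simpa using Subtype.ext (mem_centralizer_singleton_iff.1 (e c).2))
  obtain ⟨h, hC⟩ := Hay.exists_full (p := 3) (fun k => absurd (f.injective (a₁ := 2) (a₂ := 0)
      ((map_ofNat f 2).trans (k.trans f.map_zero.symm))) (by decide))
    (fun k => by simp [k] at hx) P (fun y hy => mem_centralizer_singleton_iff.1 (hP hy))
    (((MulEquiv.subgroupCongr hα).trans topEquiv).trans e) fun z _ _ k => by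
      rw [hα] at k ⊢
      exact ct z fun c => k c (mem_top c)
  exact LT.lt_of (LT.exists_equiv f h.loc (h.loc_C.trans (hC.trans hα))).some

end CL.F3C
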