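/-
Groups with a `3`-centralizer of shape `3^(1+8).2^(1+6).L`: from `C(t) / ⟨t⟩` to `Fi₂₃`.
-/
import Cfsg.Agent.F3C.Bas
import Cfsg.Agent.S1714
import Cfsg.Agent.S2079
import Cfsg.Agent.Spor.Fi22Model
import Cfsg.Agent.Grp.SylowIn

set_option autoImplicit false

namespace CL.F3C

open Subgroup
open scoped commutatorElement

universe u

namespace Fin

variable {G Γ V : Type*} [Group G] [Group Γ] [AddCommGroup V] [Module F V]
  {z : G} {Q : Subgroup G} {p : G → Γ} {φ : G → V} {r : Γ →* Module.End F V} {β : LinearMap.BilinForm F V}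
  {t y e e' : G} {W : Fin 3 → Submodule F V} {D : Subgroup Γ}

theorem exists_sq {x : G} {n : ℕ} (h : x ^ 3 ^ n = 1) : ∃ k : ℕ, x ^ k * x ^ k = x := by
  obtain ⟨k, hk⟩ : Odd (3 ^ n) := Odd.pow (by decide)
  exact ⟨k + 1, by rw [← pow_add, show k + 1 + (k + 1) = 3 ^ n + 1 by omega, pow_succ, h, one_mul]⟩

omit [Group G] in
theorem pt_ne (g : G23 r β (p t) W D) : p t ≠ 1 := fun e => by
  obtain ⟨a, ha, -⟩ := g.cj
  exact ha (by rw [e]; group)

theorem pt2 (h : St z Q p φ r β) (H : Two z t y e e') : p t * p t = 1 := by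
  rw [← h.pmul _ _ H.tz H.tz, H.tt, h.p_one]

theorem mem_Z (h : St z Q p φ r β) (H : Two z t y e e') (g : G23 r β (p t) W D) {w : G}
    (wt : Commute w t) (w3 : w ^ 3 = 1) (hw : ∀ a ∈ Q, Commute t a → Commute w a) :
    w ∈ zpowers z := by
  have wz := hw z h.zQ H.tz
  have h1 : p w = 1 := by
    refine (g.fth _ (h.p_comm wz H.tz wt) fun v hv => ?_).resolve_right fun e1 => pt_ne g ?_
    · obtain ⟨a, ha, rfl⟩ := h.onto v
      rw [← h.act w wz a ha, (hw a ha (h.comm_of_fix H.tt H.tz ha hv)).eq, mul_inv_cancel_right]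
    · have := h.p_pow wz 3
      rwa [w3, h.p_one, e1, pow_succ, sq, pt2 h H, one_mul, eq_comm] at this
  have wQ := (h.pker w wz).1 h1
  have h2 : ∀ m, ∀ v ∈ W m, β (φ w) v = 0 := fun m v hv => by
    obtain ⟨a, ha, rfl⟩ := h.onto v
    exact (h.comm_iff wQ ha).1 (hw a ha (h.comm_of_fix H.tt H.tz ha (g.fix m _ hv)))
  obtain ⟨a, ha, b, hb, c, hc, e1⟩ := g.sum (φ w) (by
    rw [← h.act t H.tz w wQ, ← wt.eq, mul_inv_cancel_right])
  have h3 := fun m v hv => (e1 ▸ h2 m v hv : β (a + b + c) v = 0)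
  simp only [map_add, LinearMap.add_apply] at h3
  refine (h.zero w wQ).1 ?_
  rw [e1, g.nd 0 a ha fun v hv => by
      simpa [g.orth 1 0 (by decide) b hb v hv, g.orth 2 0 (by decide) c hc v hv] using h3 0 v hv,
    g.nd 1 b hb fun v hv => by
      simpa [g.orth 0 1 (by decide) a ha v hv, g.orth 2 1 (by decide) c hc v hv] using h3 1 v hv,
    g.nd 2 c hc fun v hv => by
      simpa [g.orth 0 2 (by decide) a ha v hv, g.orth 1 2 (by decide) b hb v hv] using h3 2 v hv]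
  simp

theorem inverts (h : St z Q p φ r β) (H : Two z t y e e') :
    e * e' * (e * e') * z * (e * e' * (e * e'))⁻¹ = z⁻¹ := by
  have h1 : e * z * e⁻¹ = z := by rw [H.ez.eq, mul_inv_cancel_right]
  have h2 : e' * y * e'⁻¹ = y := by rw [H.ey'.eq, mul_inv_cancel_right]
  have a1 : e * e' * z * (e * e')⁻¹ = z * (y * z) := by
    rw [show e * e' * z * (e * e')⁻¹ = e * (e' * z * e'⁻¹) * e⁻¹ by group, H.ez', ← conj_mul, h1, H.ey]
  have a2 : e * e' * y * (e * e')⁻¹ = y * z := by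
    rw [show e * e' * y * (e * e')⁻¹ = e * (e' * y * e'⁻¹) * e⁻¹ by group, h2, H.ey]
  generalize e * e' = x at a1 a2
  rw [show x * x * z * (x * x)⁻¹ = x * (x * z * x⁻¹) * x⁻¹ by group, a1, ← conj_mul, ← conj_mul,
    a1, a2]
  have c := H.zy.eq
  calc z * (y * z) * (y * z * (z * (y * z))) = y ^ 3 * (z ^ 3 * z ^ 3) * z⁻¹ := by
        simp only [pow_succ, pow_zero, one_mul, ← mul_assoc, c, mul_inv_cancel_right]
        simp only [mul_assoc, c]
        simp only [← mul_assoc, c]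
        rw [mul_assoc _ z y, c, ← mul_assoc]
    _ = z⁻¹ := by rw [H.y3, h.z3]; simp

theorem le_of_sq [Finite G] (h : St z Q p φ r β) (H : Two z t y e e') (g : G23 r β (p t) W D)
    {K : Subgroup G} (hK : ∀ x, Commute x t → x * x ∈ K) : ∀ x, Commute x t → x ∈ K := by
  have h3 : ∀ x (n : ℕ), Commute x t → x ^ 3 ^ n = 1 → x ∈ K := fun x n hx e1 => by
    obtain ⟨k, hk⟩ := exists_sq e1
    exact hk ▸ hK _ (hx.pow_left k)
  set C := centralizer ({t} : Set G)
  set N := C ⊓ centralizer ({z} : Set G)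
  have mC : ∀ {x}, x ∈ C ↔ Commute x t := mem_centralizer_singleton_iff
  have mN : ∀ {x}, x ∈ N ↔ Commute x t ∧ Commute x z :=
    and_congr mem_centralizer_singleton_iff mem_centralizer_singleton_iff
  have hA : ∀ n, Commute n t → Commute n z → n ∈ K := fun n nt nz => by
    have hP : ∀ x ∈ K ⊓ N, Commute x z := fun x hx => (mN.1 hx.2).2
    obtain ⟨k, hk, e1⟩ := (h.mem_im hP).1 (g.gen (h.im (K ⊓ N)) (fun x xt x3 => by
      obtain ⟨m, mz, mt, rfl⟩ := h.cover H.tt H.tz xt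
      refine (h.mem_im hP).2 ⟨m, ⟨h3 m 2 mt ?_, mN.2 ⟨mt, mz⟩⟩, rfl⟩
      rw [sq, pow_mul]
      exact h.exp _ ((h.pker _ (mz.pow_left 3)).1 (by rw [h.p_pow mz, x3]))) (p n)
      (h.p_comm nz H.tz nt))
    have := h3 (n * k⁻¹) 1 (nt.mul_left (mN.1 hk.2).1.inv_left)
      (h.exp _ ((h.p_eq nz (hP k hk)).1 e1.symm))
    simpa using mul_mem this hk.1
  obtain ⟨S, hS, hQS⟩ := CL.Grp.exists_isSylowIn_ge (p := 3) (U := Q ⊓ C) (H := N)
    (h.isPGroup.to_le inf_le_left) fun a ha => mN.2 ⟨mC.1 ha.2, h.le a ha.1⟩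
  have hn : ∀ x, Commute x t → x ∈ normalizer (S : Set G) →
      x * z * x⁻¹ = z ∨ x * z * x⁻¹ = z⁻¹ := fun x xt hx => by
    refine ((zp3 h.z3).1 (mem_Z h H g ((xt.mul_left H.tz.symm).mul_left xt.inv_left)
      (by rw [conj_pow, h.z3]; group) fun a ha at' => ?_)).resolve_left (h.T1 (T.refl.conj x))
    have h1 : x⁻¹ * a * x⁻¹⁻¹ ∈ S :=
      (mem_normalizer_iff.1 (inv_mem hx) a).1 (hQS ⟨ha, mC.2 at'.symm⟩)
    simpa [mul_assoc] using ((mN.1 (hS.le h1)).2.symm.map (MulAut.conj x))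
  have hSC : CL.Grp.IsSylowIn 3 S C := by
    refine CL.Grp.isSylowIn_of_maximal (hS.le.trans inf_le_left) hS.isPGroup fun U hU h1 h2 => ?_
    by_contra hne
    refine (CL.Grp.lt_inf_normalizer_of_isPGroup hU (lt_of_le_of_ne h1 (Ne.symm hne))).ne'
      (hS.eq_of_le (hU.to_le inf_le_left) (le_inf h1 le_normalizer) fun x hx => ?_)
    obtain ⟨n, hn'⟩ := hU ⟨x, hx.1⟩
    obtain ⟨k, hk⟩ := exists_sq (x := x) (congrArg Subtype.val hn')
    refine mN.2 ⟨mC.1 (h2 hx.1), mul_inv_eq_iff_eq_mul.1 ?_⟩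
    rw [← hk, show x ^ k * x ^ k * z * (x ^ k * x ^ k)⁻¹ =
      x ^ k * (x ^ k * z * (x ^ k)⁻¹) * (x ^ k)⁻¹ by group]
    rcases hn _ ((mC.1 (h2 hx.1)).pow_left k) (pow_mem hx.2 k) with e1 | e1
    · rw [e1, e1]
    · rw [e1, ← conj_inv, e1, inv_inv]
  have hSK : S ≤ K ⊓ C := fun a ha => by
    obtain ⟨n, hn'⟩ := hS.isPGroup ⟨a, ha⟩
    exact ⟨h3 a n (mC.1 (hSC.le ha)) (congrArg Subtype.val hn'), hSC.le ha⟩
  intro x xt
  obtain ⟨k, hk, h1⟩ := (hSC.of_le hSK inf_le_right).frattini (H := C) (fun c hc =>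
    mem_normalizer_fintype fun a ha => ⟨by
      have := K.mul_mem (K.mul_mem (hK _ ((mC.1 hc).mul_left (mC.1 ha.2))) (K.inv_mem ha.1))
        (hK _ (mC.1 hc).inv_left)
      simpa [mul_assoc] using this, C.mul_mem (C.mul_mem hc ha.2) (C.inv_mem hc)⟩) (mC.2 xt)
  have h2 := (mC.1 hk.2).mul_left xt
  refine (K.mul_mem_cancel_left hk.1).1 ?_
  have h4 := H.et.mul_left H.et'
  rcases hn _ h2 h1 with e1 | e1
  · exact hA _ h2 (mul_inv_eq_iff_eq_mul.1 e1)
  · refine (K.mul_mem_cancel_left (hK _ h4)).1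
      (hA _ ((h4.mul_left h4).mul_left h2) (mul_inv_eq_iff_eq_mul.1 ?_))
    have := inverts h H
    generalize e * e' * (e * e') = c at this
    rw [show c * (k * x) * z * (c * (k * x))⁻¹ = c * (k * x * z * (k * x)⁻¹) * c⁻¹ by group, e1,
      ← conj_inv, this, inv_inv]

theorem eq_top [Finite G] (h : St z Q p φ r β) (H : Two z t y e e') (g : G23 r β (p t) W D)
    {K : Subgroup (centralizer ({t} : Set G))} (hK : ∀ x, x * x ∈ K) : K = ⊤ :=
  eq_top_iff.2 fun x _ => by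
    obtain ⟨k, hk, e1⟩ := le_of_sq h H g (K := K.map (centralizer {t}).subtype)
      (fun x hx => ⟨_, hK ⟨x, mem_centralizer_singleton_iff.2 hx⟩, rfl⟩) x
      (mem_centralizer_singleton_iff.1 x.2)
    exact Subtype.ext e1 ▸ hk

theorem exists_conj (h : St z Q p φ r β) (H : Two z t y e e') (g : G23 r β (p t) W D) :
    ∃ a : G, a * t * a⁻¹ ∈ centralizer ({t} : Set G) ∧ a * t * a⁻¹ ≠ t := by
  obtain ⟨a, h1, h2⟩ := g.cj
  obtain ⟨a, az, rfl⟩ := h.psurj a
  obtain ⟨m, mz, mt, hm⟩ := h.cover H.tt H.tz h2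
  have h3 : p m * p m = 1 := by rw [hm, conj_mul, pt2 h H]; group
  have h4 : p (m ^ 3) = p m := by rw [h.p_pow mz, pow_succ', sq, h3, mul_one]
  obtain ⟨w, -, hw⟩ := h.conj2 (t := a * t * a⁻¹) (t' := m ^ 3) (by rw [conj_mul, H.tt]; group)
    ((az.mul_left H.tz).mul_left az.inv_left) (by
      rw [← h.exp (m * m) ((h.pker _ (mz.mul_left mz)).1 (by rw [h.pmul _ _ mz mz, h3])),
        (Commute.refl m).mul_pow]) (mz.pow_left 3) (by rw [h4, hm, h.p_conj az H.tz])
  have h5 : w * a * t * (w * a)⁻¹ = m ^ 3 := by rw [← hw]; group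
  exact ⟨w * a, h5 ▸ mem_centralizer_singleton_iff.2 (mt.pow_left 3), fun e1 =>
    h1 (by rw [← hm, ← h4, ← h5, e1])⟩

end Fin

theorem finThm : FinThm.{u} := by
  intro G Γ V L _ _ _ _ _ _ _ _ z Q p φ r β R s π h _ t y e e' H ⟨W, D, g⟩ hC
  have t1 : t ≠ 1 := fun e1 => Fin.pt_ne g (by rw [e1, h.p_one])
  have hc : (zpowers t).subgroupOf (centralizer {t}) ≤ center (centralizer ({t} : Set G)) := by
    rintro ⟨x, hx⟩ ⟨n, hn⟩
    refine mem_center_iff.2 fun c => Subtype.ext ?_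
    simp only [coe_subtype] at hn
    subst hn
    exact (Commute.zpow_right (mem_centralizer_singleton_iff.1 c.2) n).eq
  haveI : ((zpowers t).subgroupOf (centralizer {t})).Normal := ⟨fun x hx c => by
    rwa [mem_center_iff.1 (hc hx) c, mul_inv_cancel_right]⟩
  rcases hC with ⟨⟨f⟩⟩ | ⟨⟨f⟩⟩
  · haveI := CL.Fi22P.simple
    have hZ : center Cfsg.Spor.Fi22 = ⊥ :=
      CL.PP.center_eq_bot_of_card (by rw [CL.Fi22P.card]; norm_num)
    have hP : commutator Cfsg.Spor.Fi22 = ⊤ :=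
      (IsSimpleGroup.eq_bot_or_eq_top_of_normal _ inferInstance).resolve_left fun e1 =>
        bot_ne_top (hZ.symm.trans ((commutator_eq_bot_iff_center_eq_top _).1 e1))
    let F := f.toMonoidHom.comp (QuotientGroup.mk' _)
    have hF : Function.Surjective F := f.surjective.comp (QuotientGroup.mk'_surjective _)
    have hk : ∀ x, F x = 1 → x ∈ (zpowers t).subgroupOf (centralizer {t}) := fun x hx =>
      (QuotientGroup.eq_one_iff x).1 (f.map_eq_one_iff.1 hx)
    have h1 : center (centralizer ({t} : Set G)) = (zpowers t).subgroupOf (centralizer {t}) :=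
      le_antisymm (fun x hx => hk x (mem_bot.1 (hZ ▸ mem_center_iff.2 fun c => by
        obtain ⟨c, rfl⟩ := hF c
        rw [← map_mul, ← map_mul, mem_center_iff.1 hx c]))) hc
    refine Cfsg.Agent.S1714.result t (orderOf_eq_prime (by rw [sq, H.tt]) t1)
      ⟨⟨Fin.eq_top h H g fun x => ?_⟩, ((QuotientGroup.quotientMulEquivOfEq h1).trans f).isSimpleGroup⟩
      ⟨f⟩ (Fin.exists_conj h H g)
    obtain ⟨k, hk1, hk2⟩ : F x ∈ (commutator _).map F := by
      rw [map_commutator_eq, MonoidHom.range_eq_top.2 hF, ← commutator_def, hP]; trivial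
    have h2 := hk (k⁻¹ * x) (by rw [map_mul, map_inv, hk2, inv_mul_cancel])
    have h3 : k⁻¹ * x * (k⁻¹ * x) = 1 := by
      obtain ⟨n, hn⟩ := h2
      refine Subtype.ext ?_
      simp only [coe_subtype] at hn
      rw [coe_mul, ← hn, ← (Commute.refl t).mul_zpow, H.tt, one_zpow]; rfl
    have h4 : x * x = k * k := by
      calc x * x = k * (k⁻¹ * x * k) * (k⁻¹ * x) := by group
        _ = k * k * (k⁻¹ * x * (k⁻¹ * x)) := by rw [← mem_center_iff.1 (hc h2) k]; group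
        _ = k * k := by rw [h3, mul_one]
    exact h4 ▸ mul_mem hk1 hk1
  · have h1 : (Cfsg.Inn Cfsg.Spor.Fi22).index = 2 := Cfsg.Agent.S2079.result
    have h2 := Fin.eq_top h H g
      (K := (Cfsg.Inn Cfsg.Spor.Fi22).comap (f.toMonoidHom.comp (QuotientGroup.mk' _))) fun x => by
        rw [mem_comap, map_mul]; exact mul_self_mem_of_index_two h1 _
    rw [← index_comap_of_surjective _ (f := f.toMonoidHom.comp (QuotientGroup.mk' _))
      (f.surjective.comp (QuotientGroup.mk'_surjective _)), h2, index_top] at h1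
    omega

end CL.F3C
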