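/-
Groups with a `3`-centralizer of shape `3^(1+8).2^(1+6).L`: the quotient `C(t) / ⟨t⟩` (helper99).
-/
import Cfsg.Agent.F3C.Bas
import Cfsg.Agent.Loc.FStar

set_option autoImplicit false
set_option linter.unusedSectionVars false

namespace CL.F3C

open Subgroup Cfsg CL.Grp CL.Loc
open scoped commutatorElement

universe u

namespace KK

variable {G Γ V H : Type*} [Group G] [Group Γ] [AddCommGroup V] [Module F V] [Group H]
  {z : G} {Q : Subgroup G} {p : G → Γ} {φ : G → V} {r : Γ →* Module.End F V} {β : LinearMap.BilinForm F V}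
  {t a : G} {W : Fin 3 → Submodule F V} {D : Subgroup Γ} {U U' : Submodule F V}

/-- the preimage in `Q` of a subspace -/
def QU (h : St z Q p φ r β) (U : Submodule F V) : Subgroup G where
  carrier := {a | a ∈ Q ∧ φ a ∈ U}
  one_mem' := ⟨Q.one_mem, by rw [h.φ_one]; exact U.zero_mem⟩
  mul_mem' ha hb := ⟨Q.mul_mem ha.1 hb.1, by rw [h.mul _ ha.1 _ hb.1]; exact U.add_mem ha.2 hb.2⟩
  inv_mem' ha := ⟨Q.inv_mem ha.1, by rw [h.φ_inv ha.1]; exact U.neg_mem ha.2⟩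

theorem Z_le_QU (h : St z Q p φ r β) (U : Submodule F V) : zpowers z ≤ QU h U := fun _ hx =>
  ⟨h.Z_le hx, by rw [h.φ_Z hx]; exact U.zero_mem⟩

theorem card_QU (h : St z Q p φ r β) (U : Submodule F V) : Nat.card (QU h U) = Nat.card U * 3 := by
  have h1 : φ '' (QU h U) = U := Set.ext fun v => ⟨fun ⟨_, ha, e⟩ => e ▸ ha.2, fun hv =>
    let ⟨a, ha, e⟩ := h.onto v; ⟨a, ⟨ha, e ▸ hv⟩, e⟩⟩
  rw [h.card_φ (A := QU h U) fun _ ha => ha.1, h1, inf_eq_right.mpr (Z_le_QU h U), h.card_Z]; rfl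

theorem cen_QU (h : St z Q p φ r β) (nd : ∀ u ∈ U, (∀ v ∈ U, β u v = 0) → u = 0) (ha : a ∈ QU h U)
    (hc : ∀ b ∈ QU h U, Commute a b) : a ∈ zpowers z :=
  (h.zero a ha.1).1 (nd _ ha.2 fun v hv => by
    obtain ⟨b, hb, rfl⟩ := h.onto v
    exact (h.comm_iff ha.1 hb).1 (hc b ⟨hb, hv⟩))

theorem center_QU (h : St z Q p φ r β) (nd : ∀ u ∈ U, (∀ v ∈ U, β u v = 0) → u = 0) :
    center (QU h U) = (zpowers z).subgroupOf _ := by
  ext x
  rw [mem_center_iff, mem_subgroupOf]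
  exact ⟨fun e => cen_QU h nd x.2 fun b hb => (congrArg Subtype.val (e ⟨b, hb⟩)).symm,
    fun e b => Subtype.ext (h.zc e (h.le _ b.2.1)).eq⟩

theorem extra_QU [Finite G] (h : St z Q p φ r β) (nd : ∀ u ∈ U, (∀ v ∈ U, β u v = 0) → u = 0)
    (hU : 1 < Nat.card U) : IsExtraspecial 3 (QU h U) := by
  have hc : Nat.card (center (QU h U)) = 3 := by
    rw [center_QU h nd, Nat.card_congr (subgroupOfEquivOfLe (Z_le_QU h U)).toEquiv, h.card_Z]
  refine isExtraspecial_of_center hc ?_ (fun e => ?_) (h.isPGroup.to_le fun _ ha => ha.1)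
  · rw [center_QU h nd, _root_.commutator_def, commutator_le]
    exact fun a _ b _ => h.com_mem a.2.1 b.2.1
  · rw [center_eq_top_iff.mpr e, card_top, card_QU] at hc
    omega

/-- the fixed vectors -/
def Fx (r : Γ →* Module.End F V) (γ : Γ) : Submodule F V := LinearMap.ker (r γ - 1)

theorem mem_Fx {γ : Γ} {v : V} : v ∈ Fx r γ ↔ r γ v = v := by simp [Fx, sub_eq_zero]

abbrev NN (t z : G) : Subgroup G := centralizer {t} ⊓ centralizer {z}

theorem nt (n : NN t z) : Commute (n : G) t := mem_centralizer_singleton_iff.1 n.2.1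
theorem nz (n : NN t z) : Commute (n : G) z := mem_centralizer_singleton_iff.1 n.2.2
theorem memN (h1 : Commute a t) (h2 : Commute a z) : a ∈ NN t z :=
  ⟨mem_centralizer_singleton_iff.2 h1, mem_centralizer_singleton_iff.2 h2⟩

/-- the image of a subgroup -/
def bar (ψ : NN t z →* H) (A : Subgroup G) : Subgroup H := (A.subgroupOf _).map ψ

structure Cx (z : G) (Q : Subgroup G) (p : G → Γ) (φ : G → V) (r : Γ →* Module.End F V)
    (β : LinearMap.BilinForm F V) (t : G) (W : Fin 3 → Submodule F V) (D : Subgroup Γ) (ψ : NN t z →* H) : Prop where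
  h : St z Q p φ r β
  sk : ∀ u v, β u v = -β v u
  tt : t * t = 1
  tz : Commute t z
  g : G23 r β (p t) W D
  hs : Function.Surjective ψ
  hk : ∀ n, ψ n = 1 ↔ (n : G) ∈ zpowers t

namespace Cx

variable {ψ : NN t z →* H} (c : Cx z Q p φ r β t W D ψ)
include c

theorem pt1 : p t ≠ 1 := fun e => by
  obtain ⟨a, ha, -⟩ := c.g.cj
  exact ha (by rw [e]; simp)

theorem zt {x : G} (hx : x ∈ zpowers t) : x = 1 ∨ x = t := by
  obtain ⟨n, rfl⟩ := hx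
  have h2 : t ^ (2 : ℤ) = 1 := by rw [zpow_two, c.tt]
  rcases Int.even_or_odd' n with ⟨k, rfl | rfl⟩ <;> simp [zpow_add, zpow_mul, h2]

theorem eq_one (ha : a ∈ Q) (h : a ∈ zpowers t) : a = 1 :=
  (c.zt h).resolve_right fun e => c.pt1 (c.h.p_Q (e ▸ ha))

theorem inj {n m : NN t z} (hn : (n : G) ∈ Q) (hm : (m : G) ∈ Q) (e : ψ n = ψ m) : n = m := by
  have h1 : ψ (n * m⁻¹) = 1 := by rw [map_mul, map_inv, e, mul_inv_cancel]
  exact Subtype.ext (mul_inv_eq_one.1 (c.eq_one (Q.mul_mem hn (Q.inv_mem hm)) ((c.hk _).1 h1)))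

theorem mem_bar {A : Subgroup G} (hA : A ≤ Q) {n : NN t z} (hn : (n : G) ∈ Q) : ψ n ∈ bar ψ A ↔ (n : G) ∈ A :=
  ⟨fun ⟨_, hm, e⟩ => c.inj (hA hm) hn e ▸ hm, fun e => ⟨n, e, rfl⟩⟩

theorem equiv {A : Subgroup G} (hA : A ≤ Q) (hN : A ≤ NN t z) : Nonempty (A ≃* bar ψ A) := by
  let f : A →* bar ψ A := (ψ.comp (inclusion hN)).codRestrict _ fun x => ⟨inclusion hN x, x.2, rfl⟩
  refine ⟨MulEquiv.ofBijective f ⟨fun x y e => ?_, ?_⟩⟩
  · exact inclusion_injective hN (c.inj (hA x.2) (hA y.2) (congrArg Subtype.val e))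
  · rintro ⟨_, n, hn, rfl⟩
    exact ⟨⟨n, hn⟩, rfl⟩

theorem W_le (m : Fin 3) : W m ≤ Fx r (p t) := fun v hv => mem_Fx.2 (c.g.fix m v hv)

variable [Finite G]

theorem QU_le (hU : U ≤ Fx r (p t)) : QU c.h U ≤ NN t z := fun _ ha =>
  memN (c.h.comm_of_fix c.tt c.tz ha.1 (mem_Fx.1 (hU ha.2))).symm (c.h.le _ ha.1)

theorem mem_QF (n : NN t z) (hn : (n : G) ∈ Q) : (n : G) ∈ QU c.h (Fx r (p t)) :=
  ⟨hn, mem_Fx.2 (by rw [← c.h.act t c.tz _ hn, ← (nt n).eq, mul_inv_cancel_right])⟩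

theorem ndF : ∀ u ∈ Fx r (p t), (∀ v ∈ Fx r (p t), β u v = 0) → u = 0 := fun u hu h => by
  obtain ⟨a, ha, b, hb, d, hd, rfl⟩ := c.g.sum u (mem_Fx.1 hu)
  have o := c.g.orth
  have h0 : a = 0 := c.g.nd 0 a ha fun v hv => by
    simpa [o 1 0 (by decide) b hb v hv, o 2 0 (by decide) d hd v hv] using h v (c.W_le 0 hv)
  have h1 : b = 0 := c.g.nd 1 b hb fun v hv => by
    simpa [o 0 1 (by decide) a ha v hv, o 2 1 (by decide) d hd v hv] using h v (c.W_le 1 hv)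
  have h2 : d = 0 := c.g.nd 2 d hd fun v hv => by
    simpa [o 0 2 (by decide) a ha v hv, o 1 2 (by decide) b hb v hv] using h v (c.W_le 2 hv)
  rw [h0, h1, h2]; simp

theorem cF : Nat.card (Fx r (p t)) = 729 := by
  rw [← c.g.cF, ← Nat.card_coe_set_eq]
  exact Nat.card_congr (Equiv.subtypeEquivRight fun _ => mem_Fx)

theorem card_bar (hU : U ≤ Fx r (p t)) : Nat.card (bar ψ (QU c.h U)) = Nat.card U * 3 := by
  obtain ⟨e⟩ := c.equiv (A := QU c.h U) (fun _ ha => ha.1) (c.QU_le hU)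
  rw [← Nat.card_congr e.toEquiv, card_QU]

theorem extra_bar (hU : U ≤ Fx r (p t)) (nd : ∀ u ∈ U, (∀ v ∈ U, β u v = 0) → u = 0) (h1 : 1 < Nat.card U) :
    IsExtraspecial 3 (bar ψ (QU c.h U)) := by
  obtain ⟨e⟩ := c.equiv (A := QU c.h U) (fun _ ha => ha.1) (c.QU_le hU)
  exact extra_of_mulEquiv (extra_QU c.h nd h1) e

theorem normal : (bar ψ (QU c.h (Fx r (p t)))).Normal := by
  refine Normal.map ⟨fun n hn m => ?_⟩ _ c.hs
  exact c.mem_QF (m * n * m⁻¹) (c.h.conj_mem (nz m) hn.1)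

/-- the kernel of the map onto `H / Q̃` -/
theorem mem_Qb {n : NN t z} : ψ n ∈ bar ψ (QU c.h (Fx r (p t))) ↔ p n ∈ zpowers (p t) := by
  constructor
  · rintro ⟨m, hm, e⟩
    have h1 : ψ (m⁻¹ * n) = 1 := by rw [map_mul, map_inv, e, inv_mul_cancel]
    have h2 : (n : G) = m * (m⁻¹ * n : NN t z) := by simp
    rw [h2, c.h.pmul _ _ (nz m) (nz _), c.h.p_Q (show (m : G) ∈ Q from hm.1), one_mul]
    rcases c.zt ((c.hk _).1 h1) with e' | e' <;> rw [e']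
    exacts [c.h.p_one ▸ one_mem _, mem_zpowers _]
  · rintro ⟨k, hk⟩
    let t' : NN t z := ⟨t, memN (Commute.refl t) c.tz⟩
    have h1 : p (t' ^ k : NN t z) = p t ^ k :=
      map_zpow (c.h.ph.comp (inclusion (inf_le_right : NN t z ≤ _))) t' k
    have h2 : ((n * (t' ^ k)⁻¹ : NN t z) : G) ∈ Q := (c.h.p_eq (nz n) (nz _)).1 (hk.symm.trans h1.symm)
    refine ⟨n * (t' ^ k)⁻¹, c.mem_QF _ h2, ?_⟩
    rw [map_mul, map_inv, (c.hk (t' ^ k)).2 ⟨k, rfl⟩, inv_one, mul_one]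

theorem conj_eq {n m : NN t z} (hm : (m : G) ∈ Q) (e : ψ m * ψ n = ψ n * ψ m) : (n : G) * m * (n : G)⁻¹ = m :=
  congrArg Subtype.val (c.inj (n := n * m * n⁻¹) (c.h.conj_mem (nz n) hm) hm
    (by rw [map_mul, map_mul, map_inv, ← e, mul_inv_cancel_right]))

theorem cent_le : centralizer (bar ψ (QU c.h (Fx r (p t))) : Set H) ≤ bar ψ (QU c.h (Fx r (p t))) := fun x hx => by
  obtain ⟨n, rfl⟩ := c.hs x
  rcases c.g.fth (p n) (c.h.p_comm (nz n) c.tz (nt n)) (fun v hv => by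
    obtain ⟨a, ha, rfl⟩ := c.h.onto v
    have h1 : a ∈ QU c.h (Fx r (p t)) := ⟨ha, mem_Fx.2 hv⟩
    rw [← c.h.act _ (nz n) _ ha, c.conj_eq (m := ⟨a, c.QU_le le_rfl h1⟩) ha (hx _ ⟨_, h1, rfl⟩)]) with e | e
  · exact c.mem_Qb.2 (e ▸ one_mem _)
  · exact c.mem_Qb.2 (e ▸ mem_zpowers _)

theorem cen_le {x : H} (hx : x ∈ centralizer (bar ψ (QU c.h (Fx r (p t))) : Set H)) : x ∈ bar ψ (zpowers z) := by
  obtain ⟨n, hn, rfl⟩ := c.cent_le hx
  refine ⟨n, cen_QU c.h c.ndF hn fun b hb => ?_, rfl⟩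
  exact mul_inv_eq_iff_eq_mul.1 (c.conj_eq (m := ⟨b, c.QU_le le_rfl hb⟩) hb.1 (hx _ ⟨_, hb, rfl⟩))

theorem center_eq : center H = bar ψ (zpowers z) := by
  refine le_antisymm (fun x hx => c.cen_le fun y _ => mem_center_iff.1 hx y) ?_
  rintro _ ⟨n, hn, rfl⟩
  refine mem_center_iff.2 fun y => ?_
  obtain ⟨m, rfl⟩ := c.hs y
  rw [← map_mul, ← map_mul]
  exact congrArg ψ (Subtype.ext (c.h.zc hn (nz m)).eq)

theorem center_le : center H ≤ bar ψ (QU c.h U) := c.center_eq ▸ map_mono (comap_mono (Z_le_QU c.h U))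

theorem hZZ : (center (bar ψ (QU c.h (Fx r (p t))))).map (Subgroup.subtype _) = center H := by
  refine le_antisymm ?_ fun x hx => ⟨⟨x, c.center_le hx⟩,
    mem_center_iff.2 fun y => Subtype.ext (mem_center_iff.1 hx y), rfl⟩
  rintro _ ⟨x, hx, rfl⟩
  rw [c.center_eq]
  exact c.cen_le fun y hy => congrArg Subtype.val (mem_center_iff.1 hx ⟨y, hy⟩)

theorem core_eq : pCore 3 H = bar ψ (QU c.h (Fx r (p t))) := by
  have := c.normal
  refine le_antisymm (fun x hx => ?_) (le_pCore (IsPGroup.map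
    ((c.h.isPGroup.to_le (H := QU c.h (Fx r (p t))) fun _ ha => ha.1).comap_subtype) ψ))
  obtain ⟨n, rfl⟩ := c.hs x
  let p' := c.h.ph.comp (inclusion (inf_le_right : NN t z ≤ _))
  refine c.mem_Qb.2 (c.g.o3 (((pCore 3 H).comap ψ).map p') ?_ ?_ ?_ ⟨n, hx, rfl⟩)
  · rintro _ ⟨m, -, rfl⟩
    exact c.h.p_comm (nz m) c.tz (nt m)
  · rintro g hg _ ⟨m, hm, rfl⟩
    obtain ⟨k, h1, h2, rfl⟩ := c.h.cover c.tt c.tz hg
    refine ⟨⟨k, memN h2 h1⟩ * m * ⟨k, memN h2 h1⟩⁻¹, Normal.conj_mem inferInstance m hm _, ?_⟩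
    rw [map_mul, map_mul, map_inv]; rfl
  · rintro _ ⟨m, hm, rfl⟩
    obtain ⟨k, hk⟩ := pCore_isPGroup 3 H ⟨ψ m, hm⟩
    refine ⟨k, ?_⟩
    rw [← map_pow]
    exact c.mem_Qb.1 (by rw [map_pow, show ψ m ^ 3 ^ k = 1 from congrArg Subtype.val hk]; exact one_mem _)

theorem fstar_eq : bar ψ (QU c.h (Fx r (p t))) = generalizedFittingSubgroup H := by
  have := Finite.of_surjective _ c.hs
  rw [fstar_eq_pCore_iff.2 (by rw [c.core_eq]; exact c.cent_le), c.core_eq]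

theorem core_two [Finite Γ] [(bar ψ (QU c.h (Fx r (p t)))).Normal] :
    Nat.card (pCore 2 (H ⧸ bar ψ (QU c.h (Fx r (p t))))) = 2 ^ 7 ∧ ∀ n : NN t z,
      ψ n ∈ (pCore 2 (H ⧸ bar ψ (QU c.h (Fx r (p t))))).comap (QuotientGroup.mk' _) ↔ p n ∈ D := by
  have := Finite.of_surjective _ c.hs
  let p' := c.h.ph.comp (inclusion (inf_le_right : NN t z ≤ _))
  let χ := (QuotientGroup.mk' (bar ψ (QU c.h (Fx r (p t))))).comp ψ
  have hχ : Function.Surjective χ := (QuotientGroup.mk'_surjective _).comp c.hs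
  have hker : χ.ker = (zpowers (p t)).comap p' := Subgroup.ext fun n =>
    (QuotientGroup.eq_one_iff _).trans c.mem_Qb
  have hr : p'.range = centralizer {p t} := by
    refine le_antisymm ?_ fun g hg => ?_
    · rintro _ ⟨m, rfl⟩
      exact mem_centralizer_singleton_iff.2 (c.h.p_comm (nz m) c.tz (nt m))
    · obtain ⟨k, h1, h2, rfl⟩ := c.h.cover c.tt c.tz (mem_centralizer_singleton_iff.1 hg)
      exact ⟨⟨k, memN h2 h1⟩, rfl⟩
  have hD : D ≤ centralizer {p t} := fun d hd => mem_centralizer_singleton_iff.2 (c.g.Dt d hd)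
  have hT : zpowers (p t) ≤ D := zpowers_le.2 c.g.tD
  have idx : ∀ X ≤ centralizer ({p t} : Set Γ), Nat.card X * (X.comap p').index = 256 * 9 := fun X hX => by
    rw [index_comap, hr, ← c.g.cC, ← card_mul_index (X.subgroupOf (centralizer {p t})),
      Nat.card_congr (subgroupOfEquivOfLe hX).toEquiv]; rfl
  have h1 := idx _ hD
  have h2 := idx _ (hT.trans hD)
  have h3 : orderOf (p t) = 2 := orderOf_eq_prime (by rw [← c.h.p_pow c.tz, pow_two, c.tt, c.h.p_one]) c.pt1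
  have hkD : χ.ker ≤ D.comap p' := hker ▸ comap_mono hT
  rw [Nat.card_zpowers, h3, ← hker, index_ker, MonoidHom.range_eq_top.2 hχ, card_top] at h2
  have h4 := card_mul_index ((D.comap p').map χ)
  rw [index_map_eq _ hχ hkD] at h4
  rw [c.g.cD] at h1
  have h5 : Nat.card ((D.comap p').map χ) = 2 ^ 7 := by
    rw [show (D.comap p').index = 9 by omega] at h4; omega
  have hn : (D.comap p').Normal := ⟨fun n hn m => by
    rw [mem_comap, map_mul, map_mul, map_inv]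
    exact c.g.Dn _ (c.h.p_comm (nz m) c.tz (nt m)) _ hn⟩
  have := hn.map χ hχ
  have h6 : (D.comap p').map χ ≤ pCore 2 _ := le_pCore (IsPGroup.of_card h5)
  obtain ⟨k, hk⟩ := IsPGroup.iff_card.1 (pCore_isPGroup 2 (H ⧸ bar ψ (QU c.h (Fx r (p t)))))
  have h7 : 2 ^ k ∣ 2 ^ 7 := by
    refine (Nat.Coprime.pow_left k (by norm_num : Nat.Coprime 2 9)).dvd_of_dvd_mul_right ?_
    rw [← hk, show 2 ^ 7 * 9 = Nat.card (H ⧸ bar ψ (QU c.h (Fx r (p t)))) by omega]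
    exact card_subgroup_dvd_card _
  have h8 := eq_of_le_of_card_ge h6 (by rw [hk, h5]; exact Nat.le_of_dvd (by norm_num) h7)
  refine ⟨h8 ▸ h5, fun n => ?_⟩
  rw [← h8]
  change n ∈ ((D.comap p').map χ).comap χ ↔ _
  rw [comap_map_eq_self hkD]; rfl

theorem sub_iff {n m : NN t z} (hm : (m : G) ∈ Q) :
    ψ n * ψ m * (ψ n)⁻¹ * (ψ m)⁻¹ ∈ center H ↔ r (p n) (φ m) = φ m := by
  have h1 := c.h.conj_mem (nz n) hm
  rw [c.center_eq, ← c.h.act _ (nz n) _ hm, c.h.φ_eq h1 hm, ← map_inv, ← map_inv, ← map_mul, ← map_mul, ← map_mul]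
  exact c.mem_bar (fun _ => c.h.Z_le) (Q.mul_mem h1 (Q.inv_mem hm))

theorem add_iff {n m : NN t z} (hm : (m : G) ∈ Q) :
    ψ n * ψ m * (ψ n)⁻¹ * ψ m ∈ center H ↔ r (p n) (φ m) = -φ m := by
  have h1 := c.h.conj_mem (nz n) hm
  rw [c.center_eq, ← c.h.act _ (nz n) _ hm, ← c.h.φ_inv hm, c.h.φ_eq h1 (Q.inv_mem hm), inv_inv, ← map_inv,
    ← map_mul, ← map_mul, ← map_mul]
  exact c.mem_bar (fun _ => c.h.Z_le) (Q.mul_mem h1 hm)

theorem all_sub (m : Fin 3) (n : NN t z) : (∀ q ∈ bar ψ (QU c.h (W m)), ψ n * q * (ψ n)⁻¹ * q⁻¹ ∈ center H) ↔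
    ∀ v ∈ W m, r (p n) v = v := by
  refine ⟨fun e v hv => ?_, fun e _ ⟨k, hk, e'⟩ => e' ▸ (c.sub_iff hk.1).2 (e _ hk.2)⟩
  obtain ⟨a, ha, rfl⟩ := c.h.onto v
  exact (c.sub_iff (m := ⟨a, c.QU_le (c.W_le m) ⟨ha, hv⟩⟩) ha).1
    (e _ ⟨⟨a, c.QU_le (c.W_le m) ⟨ha, hv⟩⟩, ⟨ha, hv⟩, rfl⟩)

theorem all_add (m : Fin 3) (n : NN t z) : (∀ q ∈ bar ψ (QU c.h (W m)), ψ n * q * (ψ n)⁻¹ * q ∈ center H) ↔
    ∀ v ∈ W m, r (p n) v = -v := by
  refine ⟨fun e v hv => ?_, fun e _ ⟨k, hk, e'⟩ => e' ▸ (c.add_iff hk.1).2 (e _ hk.2)⟩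
  obtain ⟨a, ha, rfl⟩ := c.h.onto v
  exact (c.add_iff (m := ⟨a, c.QU_le (c.W_le m) ⟨ha, hv⟩⟩) ha).1
    (e _ ⟨⟨a, c.QU_le (c.W_le m) ⟨ha, hv⟩⟩, ⟨ha, hv⟩, rfl⟩)

theorem comm {m n : Fin 3} (hmn : m ≠ n) : ∀ a ∈ bar ψ (QU c.h (W m)), ∀ b ∈ bar ψ (QU c.h (W n)), a * b = b * a := by
  rintro _ ⟨a, ha, rfl⟩ _ ⟨b, hb, rfl⟩
  rw [← map_mul, ← map_mul]
  exact congrArg ψ (Subtype.ext ((c.h.comm_iff ha.1 hb.1).2 (c.g.orth m n hmn _ ha.2 _ hb.2)).eq)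

theorem prod : bar ψ (QU c.h (W 0)) ⊔ bar ψ (QU c.h (W 1)) ⊔ bar ψ (QU c.h (W 2)) = bar ψ (QU c.h (Fx r (p t))) := by
  have hle : ∀ m, bar ψ (QU c.h (W m)) ≤ bar ψ (QU c.h (Fx r (p t))) := fun m =>
    map_mono (comap_mono fun _ ha => ⟨ha.1, c.W_le m ha.2⟩)
  refine le_antisymm (sup_le (sup_le (hle 0) (hle 1)) (hle 2)) ?_
  rintro _ ⟨n, hn, rfl⟩
  obtain ⟨u, hu, v, hv, w, hw, e⟩ := c.g.sum _ (mem_Fx.1 hn.2)
  obtain ⟨b, hb, rfl⟩ := c.h.onto v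
  obtain ⟨d, hd, rfl⟩ := c.h.onto w
  let b' : NN t z := ⟨b, c.QU_le (c.W_le 1) ⟨hb, hv⟩⟩
  let d' : NN t z := ⟨d, c.QU_le (c.W_le 2) ⟨hd, hw⟩⟩
  have h1 : ((n * d'⁻¹ * b'⁻¹ : NN t z) : G) ∈ QU c.h (W 0) := by
    have hq : (n : G) ∈ Q := hn.1
    refine ⟨Q.mul_mem (Q.mul_mem hq (Q.inv_mem hd)) (Q.inv_mem hb), ?_⟩
    change φ (n * d⁻¹ * b⁻¹) ∈ W 0
    rw [c.h.mul _ (Q.mul_mem hq (Q.inv_mem hd)) _ (Q.inv_mem hb), c.h.mul _ hq _ (Q.inv_mem hd), c.h.φ_inv hd,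
      c.h.φ_inv hb, show φ n = u + φ b + φ d from e]
    simpa using hu
  have h2 : ψ n = ψ (n * d'⁻¹ * b'⁻¹) * ψ b' * ψ d' := by rw [← map_mul, ← map_mul]; congr 1; group
  rw [h2]
  exact mul_mem (mem_sup_left (mul_mem_sup ⟨_, h1, rfl⟩ ⟨b', ⟨hb, hv⟩, rfl⟩)) (mem_sup_right ⟨d', ⟨hd, hw⟩, rfl⟩)

end Cx

theorem forall_three {α : Type*} {f : Fin 3 → α} {P : α → Prop} : (∀ x ∈ [f 0, f 1, f 2], P x) ↔ ∀ m, P (f m) := by
  simp [Fin.forall_fin_succ]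

end KK

open KK in
theorem kThm : KThm.{u} := by
  intro hS G Γ V L _ _ _ _ _ _ _ _ z Q p φ r β R s π h A t y e e' tw ⟨W, D, g⟩ _
  let mk := QuotientGroup.mk' ((zpowers t).subgroupOf (centralizer {t}))
  let f : NN t z →* _ := mk.comp (inclusion inf_le_left)
  have hf : ∀ n, f n = 1 ↔ (n : G) ∈ zpowers t := fun n => QuotientGroup.eq_one_iff _
  have c : Cx z Q p φ r β t W D f.rangeRestrict := ⟨h, A.skew, tw.tt, tw.tz, g, f.rangeRestrict_surjective,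
    fun n => Subtype.ext_iff.trans (hf n)⟩
  have := c.normal
  obtain ⟨h1, h2⟩ := c.core_two
  let z' : NN t z := ⟨z, memN tw.tz.symm (Commute.refl z)⟩
  have hZ : (center f.range).map f.range.subtype = zpowers (f z') := by
    have h3 : (zpowers z).subgroupOf (NN t z) = zpowers z' := Subgroup.ext fun n =>
      ⟨fun ⟨k, hk⟩ => ⟨k, Subtype.ext hk⟩, fun ⟨k, hk⟩ => ⟨k, congrArg Subtype.val hk⟩⟩
    rw [c.center_eq, bar, h3, MonoidHom.map_zpowers, MonoidHom.map_zpowers]; rfl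
  have key : ∀ x : G, x ^ 3 = 1 → ∀ a : G, Commute a t → a ^ 3 = 1 → x * a⁻¹ ∈ zpowers t → x = a :=
    fun x hx a ha ha3 hm => by
    rcases c.zt hm with e | e
    · exact mul_inv_eq_one.1 e
    · rw [mul_inv_eq_iff_eq_mul] at e
      rw [e, ha.symm.mul_pow, ha3, mul_one, pow_succ, pow_two, tw.tt, one_mul] at hx
      exact absurd (by rw [hx, h.p_one]) c.pt1
  have hH : f.range = centralizer (zpowers (f z') : Set _) := by
    refine le_antisymm ?_ fun x hx => ?_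
    · rintro _ ⟨n, rfl⟩ _ ⟨k, rfl⟩
      exact (((show Commute z' n from Subtype.ext (nz n).symm.eq).map f).zpow_left k).eq
    · obtain ⟨k, rfl⟩ := QuotientGroup.mk'_surjective _ x
      have h3 : mk (k * inclusion inf_le_left z' * k⁻¹ * (inclusion inf_le_left z')⁻¹) = 1 := by
        rw [map_mul, map_mul, map_mul, map_inv, map_inv]
        change mk k * f z' * _ * (f z')⁻¹ = 1
        rw [← show f z' * mk k = mk k * f z' from hx _ (mem_zpowers _)]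
        group
      have h4 := key ((k : G) * z * (k : G)⁻¹) (by rw [conj_pow, h.z3]; simp) z tw.tz.symm h.z3
        (mem_subgroupOf.1 ((QuotientGroup.eq_one_iff _).1 h3))
      exact ⟨⟨k, k.2, mem_centralizer_singleton_iff.2 (mul_inv_eq_iff_eq_mul.1 h4)⟩, rfl⟩
  let y' : NN t z := ⟨y, memN tw.ty.symm tw.zy.symm⟩
  have hzy : Commute (f z') (f y') := (show Commute z' y' from Subtype.ext tw.zy.eq).map f
  have hz3 : f z' ^ 3 = 1 := by rw [← map_pow, show z' ^ 3 = 1 from Subtype.ext h.z3, map_one]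
  have hy3 : f y' ^ 3 = 1 := by rw [← map_pow, show y' ^ 3 = 1 from Subtype.ext tw.y3, map_one]
  have hp : ∀ x : _ ⧸ (zpowers t).subgroupOf (centralizer {t}), x ^ 3 = 1 → IsPGroup 3 (zpowers x) := fun x hx =>
    by
      rintro ⟨_, k, rfl⟩
      refine ⟨1, Subtype.ext ?_⟩
      change (x ^ k) ^ (3 ^ 1) = 1
      rw [pow_one, ← zpow_natCast, ← zpow_mul, mul_comm, zpow_mul, zpow_natCast, hx, one_zpow]
  obtain ⟨S, hS'⟩ := (IsPGroup.to_sup_of_normal_right' (hp _ hz3) (hp _ hy3) (zpowers_le.2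
    (centralizer_le_normalizer _ (by rintro _ ⟨k, rfl⟩; exact (hzy.symm.zpow_left k).eq)))).exists_le_sylow
  let B : Fin 3 → Subgroup f.range := fun m => bar f.rangeRestrict (QU h (W m))
  have hle : ∀ m, B m ≤ bar f.rangeRestrict (QU h (Fx r (p t))) := fun m =>
    map_mono (comap_mono fun _ ha => ⟨ha.1, c.W_le m ha.2⟩)
  have hex : ∀ m, IsExtraspecial 3 (B m) := fun m => c.extra_bar (c.W_le m) (g.nd m) (by rw [g.cW]; norm_num)
  have hcd : ∀ m, Nat.card (B m) = 27 := fun m => by rw [c.card_bar (c.W_le m), g.cW]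
  refine (hS f.range _ c.fstar_eq (c.extra_bar le_rfl c.ndF (by rw [c.cF]; norm_num))
    (by rw [c.card_bar le_rfl, c.cF]; norm_num) c.hZZ _ rfl h1 (B 0) (B 1) (B 2) ⟨hle 0, hle 1, hle 2⟩
    ⟨c.center_le, c.center_le, c.center_le⟩ ⟨hex 0, hex 1, hex 2⟩ ⟨hcd 0, hcd 1, hcd 2⟩
    ⟨c.comm (by decide), c.comm (by decide), c.comm (by decide)⟩ c.prod (fun x hx => ?_) (fun x hx => ?_)
    (fun x hx => ?_) (forall_three.2 fun m => ?_) _ hZ.symm hH S (le_sup_left.trans hS') fun w => ?_).2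
  · obtain ⟨n, rfl⟩ := c.hs x
    refine forall_three.2 fun m => ?_
    rintro _ ⟨k, hk, rfl⟩
    refine ⟨n * k * n⁻¹, ⟨h.conj_mem (nz n) hk.1, ?_⟩, by rw [map_mul, map_mul, map_inv]⟩
    exact (h.act _ (nz n) _ hk.1).symm ▸ g.DW _ ((h2 n).1 hx) m _ hk.2
  · obtain ⟨n, rfl⟩ := c.hs x
    refine forall_three.2 fun m => ?_
    rw [← map_pow]
    refine (c.all_sub m _).2 ?_
    rw [coe_pow, h.p_pow (nz n)]
    exact g.four _ ((h2 n).1 hx) m
  · obtain ⟨n, rfl⟩ := c.hs x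
    refine forall_three.2 fun m => ?_
    rw [← map_pow, c.all_sub, c.all_sub, c.all_add, coe_pow, h.p_pow (nz n)]
    exact g.two _ ((h2 n).1 hx) m
  · obtain ⟨d, hd, h3, h4⟩ := g.inv m
    obtain ⟨k, k1, k2, rfl⟩ := h.cover tw.tt tw.tz (g.Dt d hd)
    refine ⟨_, (h2 ⟨k, memN k2 k1⟩).2 hd, (c.all_add m _).2 h3, forall_three.2 fun n hn => ?_⟩
    exact (c.all_sub n _).2 (h4 n fun e => hn (by rw [e]))
  · let e₀ : centralizer ({t} : Set G) := ⟨e', mem_centralizer_singleton_iff.2 tw.et'⟩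
    have h3 : MulAut.conj (mk e₀) (f z') = f z' * f y' := by
      rw [← map_mul]
      change mk e₀ * mk _ * (mk e₀)⁻¹ = mk _
      rw [← map_inv, ← map_mul, ← map_mul]
      exact congrArg mk (Subtype.ext tw.ez')
    have h4 := w.2 (mk e₀) (by
      rw [MonoidHom.map_zpowers, zpowers_le]
      exact h3 ▸ hS' (mul_mem_sup (mem_zpowers _) (mem_zpowers _)))
    rw [MonoidHom.map_zpowers] at h4
    have h5 : f z' * f y' ∈ zpowers (f z') := h4 ▸ h3 ▸ mem_zpowers _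
    obtain ⟨k, hk⟩ := (mul_mem_cancel_left (mem_zpowers _)).1 h5
    have h6 : f (y' * (z' ^ k)⁻¹) = 1 := by rw [map_mul, map_inv, map_zpow, ← show f z' ^ k = f y' from hk, mul_inv_cancel]
    refine tw.ne ⟨k, (key y tw.y3 (z ^ k) (tw.tz.symm.zpow_left k) ?_ ((hf _).1 h6)).symm⟩
    rw [← zpow_natCast, ← zpow_mul, mul_comm, zpow_mul, zpow_natCast, h.z3, one_zpow]

end CL.F3C
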