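/-
Groups with a `3`-centralizer of shape `3^(1+8).2^(1+6).L`: elements of order three acting on `V`.
-/
import Cfsg.Agent.F3C.FrB

set_option autoImplicit false
set_option linter.unusedSectionVars false

namespace CL.F3C

open Subgroup

attribute [-simp] LinearMap.sub_apply

universe u

variable {Γ V L : Type*} [Group Γ] [AddCommGroup V] [Module F V] [Group L] {r : Γ →* Module.End F V}
  {β : LinearMap.BilinForm F V} {R : Subgroup Γ} {s : Γ} {π : Γ →* L} {i j c : Fin 3 → Γ} {ρ t : Γ} {v0 : V}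

namespace Fr

variable (A : GA r β R s π) (f : Fr r R s i j c ρ t v0)
include A f

theorem cw_pow (k : Fin 3 → ℕ) (n : ℕ) : cw c k ^ n = cw c (n • k) := by
  induction n with
  | zero => simp [cw]
  | succ n ih => rw [pow_succ, ih, f.cw_mul A, succ_nsmul]

theorem cw_inj {k l : Fin 3 → ℕ} (h : cw c k = cw c l) (a : Fin 3) : (k a : F) = l a := by
  have := f.cw_eq_one A (k := k + 2 • l) (by rw [← f.cw_mul A, h, ← f.cw_pow A, ← pow_succ', f.cw3 A]) a
  simp only [Pi.add_apply, Pi.smul_apply, smul_eq_mul, Nat.cast_add, Nat.cast_mul, Nat.cast_ofNat] at this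
  revert this
  generalize (k a : F) = x; generalize (l a : F) = y; revert x y; decide

theorem cw_inv (k : Fin 3 → ℕ) : (cw c k)⁻¹ = cw c (2 • k) :=
  (eq_inv_of_mul_eq_one_left (by rw [← f.cw_pow A, ← pow_succ, f.cw3 A])).symm

theorem cw_π {k l : Fin 3 → ℕ} (h : π (cw c k) = π (cw c l)) : cw c k = cw c l :=
  mul_inv_eq_one.1 (A.eq_one (n := 1) (by rw [f.cw_inv A, f.cw_mul A, pow_one, f.cw3 A]) (by rw [map_mul, map_inv, h, mul_inv_cancel]))

omit A f in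
theorem c_cw (a : Fin 3) : c a = cw c (Pi.single a 1) := by fin_cases a <;> simp [cw]

/-- the group `⟨c₀, c₁, c₂⟩` -/
def Jb : Subgroup Γ where
  carrier := {g | ∃ k, g = cw c k}
  one_mem' := ⟨0, by simp [cw]⟩
  mul_mem' := by rintro _ _ ⟨k, rfl⟩ ⟨l, rfl⟩; exact ⟨_, f.cw_mul A k l⟩
  inv_mem' := by rintro _ ⟨k, rfl⟩; exact ⟨_, f.cw_inv A k⟩

theorem ρJb (n : ℕ) {g : Γ} (hg : g ∈ f.Jb A) : ρ ^ n * g * (ρ ^ n)⁻¹ ∈ f.Jb A := by
  induction n with
  | zero => simpa using hg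
  | succ n ih =>
    obtain ⟨k, hk⟩ := ih
    exact ⟨_, by rw [← f.ρcw A k, ← hk, pow_succ']; group⟩

theorem conjJ (l : Fin 3 → ℕ) (n : ℕ) {g : Γ} (hg : g ∈ f.Jb A) :
    cw c l * ρ ^ n * g * (cw c l * ρ ^ n)⁻¹ = ρ ^ n * g * (ρ ^ n)⁻¹ := by
  obtain ⟨k, hk⟩ := f.ρJb A n hg
  calc cw c l * ρ ^ n * g * (cw c l * ρ ^ n)⁻¹ = cw c l * (ρ ^ n * g * (ρ ^ n)⁻¹) * (cw c l)⁻¹ := by group
    _ = _ := by rw [hk, (f.cw_comm A l k).eq, mul_inv_cancel_right]

theorem Tw (l : Fin 3 → ℕ) (n : ℕ) : r (cw c l * ρ ^ n) (ww r c v0) = ww r c v0 := by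
  have : r (ρ ^ n) (ww r c v0) = ww r c v0 := by
    induction n with
    | zero => simp
    | succ n ih => rw [pow_succ, r_mul, f.ρw A, ih]
  rw [r_mul, this, f.cw_w A]

theorem r_cw' (a : Fin 3) (k : Fin 3 → ℕ) (v : V) : r (cw c k) v = v + (k a : F) • xo r (c a) v +
    (k (a + 1) : F) • xo r (c (a + 1)) v + (k (a + 2) : F) • xo r (c (a + 2)) v +
    ((k a : F) * k (a + 1)) • xo r (c a) (xo r (c (a + 1)) v) + ((k a : F) * k (a + 2)) • xo r (c a) (xo r (c (a + 2)) v) +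
    ((k (a + 1) : F) * k (a + 2)) • xo r (c (a + 1)) (xo r (c (a + 2)) v) +
    ((k a : F) * k (a + 1) * k (a + 2)) • xo r (c a) (xo r (c (a + 1)) (xo r (c (a + 2)) v)) := by
  rw [f.r_cw A]
  fin_cases a <;> simp only [Fin.zero_eta, Fin.mk_one, Fin.reduceFinMk, Fin.isValue, zero_add, Fin.reduceAdd, f.X10 A, f.X20 A,
    f.X21 A] <;> module

theorem cw_m (a : Fin 3) (k : Fin 3 → ℕ) : r (cw c k) (xo r (c (a + 1)) (xo r (c (a + 2)) v0)) =
    xo r (c (a + 1)) (xo r (c (a + 2)) v0) + (k a : F) • ww r c v0 := by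
  simp [f.r_cw' A a, f.XX, f.Xc A (a + 2) (a + 1), f.Xm A]

theorem cw_ne {k : Fin 3 → ℕ} (h : cw c k ≠ 1) : ∃ a, (k a : F) ≠ 0 := by
  by_contra hh
  push Not at hh
  exact h ((f.cw_congr A (l := 0) (by simpa using hh)).trans (by simp [cw]))

theorem sqz {y : Γ} {q : V} (hq : r y (r y q) + r y q + q = 0) (u : V) : β (r y (r y u) + r y u + u) q = 0 := by
  have := congrArg (β (r y (r y u))) hq
  simp only [map_add, map_zero, A.inv, LinearMap.add_apply] at this ⊢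
  linear_combination this

theorem sqz_w {k : Fin 3 → ℕ} {q : V} (hq : r (cw c k) (r (cw c k) q) + r (cw c k) q + q = 0) (a : Fin 3) :
    (k (a + 1) : F) * k (a + 2) * β (ww r c v0) q = 0 := by
  have := f.sqz A hq (xo r (c a) v0)
  have h3 : (3 : F) = 0 := rfl
  simp only [f.r_cw' A a, map_add, map_smul, f.XX, f.Xc A (a + 1) a, f.Xc A (a + 2) a, f.Xc A (a + 2) (a + 1), f.Xm A, f.Xw A,
    map_zero, smul_zero, add_zero, LinearMap.add_apply, LinearMap.smul_apply, smul_eq_mul] at this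
  linear_combination (-1 : F) * this + (β (xo r (c a) v0) q + (k (a + 1) : F) * β (xo r (c a) (xo r (c (a + 1)) v0)) q +
    (k (a + 2) : F) * β (xo r (c a) (xo r (c (a + 2)) v0)) q + 2 * (k (a + 1) : F) * k (a + 2) * β (ww r c v0) q) * h3

/-- type II is impossible inside `J` -/
theorem notJ {P : Subgroup Γ} {k : Fin 3 → ℕ} {q : V} (h1 : cw c k ≠ 1) (hP : P ≤ f.Jb A)
    (hq : r (cw c k) (r (cw c k) q) + r (cw c k) q + q = 0)
    (hi : ∀ p ∈ P, ∀ v, r (cw c k) v = v → β (r p v) q = β v q)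
    (hs : ∀ v, (∀ p ∈ P, r (cw c k) (r p v - v) = r p v - v ∧ β (r p v - v) q = 0) → r (cw c k) v = v) : False := by
  obtain ⟨a, ha⟩ := f.cw_ne A h1
  by_cases hw : β (ww r c v0) q = 0
  · have := hs (xo r (c (a + 1)) (xo r (c (a + 2)) v0)) fun p hp => by
      obtain ⟨l, rfl⟩ := hP hp
      rw [f.cw_m A a l, add_sub_cancel_left, map_smul, f.cw_w A, map_smul, LinearMap.smul_apply, hw, smul_zero]
      exact ⟨rfl, rfl⟩
    rw [f.cw_m A, add_eq_left] at this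
    exact ha (f.smul_w A this)
  have e1 : (k (a + 1) : F) = 0 := by
    have := f.sqz_w A hq (a + 2)
    rw [show a + 2 + 1 = a by fin_cases a <;> rfl, show a + 2 + 2 = a + 1 by fin_cases a <;> rfl] at this
    simpa [ha, hw] using this
  have e2 : (k (a + 2) : F) = 0 := by
    have := f.sqz_w A hq (a + 1)
    rw [show a + 1 + 1 = a + 2 by fin_cases a <;> rfl, show a + 1 + 2 = a by fin_cases a <;> rfl] at this
    simpa [ha, hw] using this
  have yx : ∀ v, r (cw c k) v = v + (k a : F) • xo r (c a) v := fun v => by simp [f.r_cw' A a, e1, e2]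
  let lam := β (xo r (c a) (xo r (c (a + 1)) v0)) q / β (ww r c v0) q
  have := hs (xo r (c (a + 1)) v0 - lam • xo r (c (a + 1)) (xo r (c (a + 2)) v0)) fun p hp => by
    obtain ⟨l, rfl⟩ := hP hp
    have l1 : (l (a + 1) : F) = 0 := by
      have := hi _ hp (xo r (c a) (xo r (c (a + 2)) v0)) (by rw [yx, f.XX, smul_zero, add_zero])
      simpa [f.r_cw' A a, f.XX, f.Xc A (a + 1) a, f.Xc A (a + 2) a, f.Xm A, f.Xw A, hw] using this
    have l2 : (l (a + 2) : F) = 0 := by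
      have := hi _ hp (xo r (c a) (xo r (c (a + 1)) v0)) (by rw [yx, f.XX, smul_zero, add_zero])
      simpa [f.r_cw' A a, f.XX, f.Xc A (a + 1) a, f.Xc A (a + 2) a, f.Xc A (a + 2) (a + 1), f.Xm A, f.Xw A, hw] using this
    have px : ∀ v, r (cw c l) v - v = (l a : F) • xo r (c a) v := fun v => by simp [f.r_cw' A a, l1, l2]
    rw [px, map_smul, yx, f.XX, smul_zero, add_zero, map_sub, map_smul, f.Xm A]
    refine ⟨rfl, ?_⟩
    rw [map_smul, map_sub, map_smul, LinearMap.smul_apply, LinearMap.sub_apply, LinearMap.smul_apply, smul_eq_mul lam,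
      div_mul_cancel₀ _ hw, sub_self, smul_zero]
  rw [yx, add_eq_left] at this
  have h2 := congrArg (xo r (c (a + 2))) ((smul_eq_zero.1 this).resolve_left ha)
  simp only [map_sub, map_smul, f.Xc A (a + 2) a, f.Xc A (a + 2) (a + 1), f.Xm A, f.Xw A, map_zero, smul_zero, sub_zero] at h2
  exact f.w0 h2

/-- the fixed vectors of `(c₀ c₁ c₂)^m` -/
theorem fix_c {m : ℕ} (hm : (m : F) ≠ 0) {v : V} (h : r (cw c fun _ => m) v = v) :
    ∃ a b d : F, v = a • xo r (c 1) (xo r (c 2) v0) + b • xo r (c 0) (xo r (c 2) v0) +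
      (-a - b) • xo r (c 0) (xo r (c 1) v0) + d • ww r c v0 := by
  obtain ⟨a, l0, l1, l2, m0, m1, m2, d, e⟩ := f.span' A v
  have h0 : r (cw c fun _ => m) v - v = 0 := sub_eq_zero.2 h
  have k : ∀ T : Module.End F V, T (r (cw c fun _ => m) v - v) = 0 := fun T => by rw [h0, map_zero]
  have k1 := k (xo r (c 1) * xo r (c 2))
  have k2 := k (xo r (c 0))
  have k3 := k (xo r (c 1))
  have k4 := k (xo r (c 2))
  rw [e] at k1
  simp only [Module.End.mul_apply, f.r_cw A, map_add, map_sub, map_smul, f.XX, f.X10 A, f.X20 A, f.X21 A, map_zero, smul_zero,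
    add_zero] at k1
  have a0 : a = 0 := (mul_eq_zero.1 (f.smul_w A (a := m * a) (by rw [← k1]; module))).resolve_left hm
  subst a0
  rw [e] at k2 k3 k4
  simp only [f.r_cw A, map_add, map_sub, map_smul, f.XX, f.X10 A, f.X20 A, f.X21 A, map_zero, smul_zero,
    add_zero, zero_smul, zero_add] at k2 k3 k4
  have b0 := (mul_eq_zero.1 (f.smul_w A (a := m * (l1 + l2)) (by rw [← k2]; module))).resolve_left hm
  have b1 := (mul_eq_zero.1 (f.smul_w A (a := m * (l0 + l2)) (by rw [← k3]; module))).resolve_left hm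
  have b2 := (mul_eq_zero.1 (f.smul_w A (a := m * (l0 + l1)) (by rw [← k4]; module))).resolve_left hm
  obtain ⟨rfl, rfl, rfl⟩ : l0 = 0 ∧ l1 = 0 ∧ l2 = 0 := (by decide : ∀ l0 l1 l2 : F, l1 + l2 = 0 → l0 + l2 = 0 → l0 + l1 = 0 →
    l0 = 0 ∧ l1 = 0 ∧ l2 = 0) _ _ _ b0 b1 b2
  rw [e] at h0
  simp only [f.r_cw A, map_add, map_smul, f.XX, f.X10 A, f.X20 A, f.X21 A, map_zero, smul_zero,
    add_zero, zero_smul, zero_add] at h0
  have b3 := (mul_eq_zero.1 (f.smul_w A (a := m * (m0 + m1 + m2)) (by rw [← h0]; module))).resolve_left hm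
  exact ⟨m0, m1, d, by rw [e, show m2 = -m0 - m1 by linear_combination b3]; module⟩

end Fr

/-- a frame that fits `P` and `y` -/
theorem getFr [Finite Γ] [Finite V] [Finite L] {X : Subgroup L → L → L → L → L → Prop} (A : GA r β R s π)
    (hF : ∀ (J : Subgroup L) (c₀ j₀ ρ₀ τ₀ : L) (P : Subgroup Γ), LF J c₀ j₀ ρ₀ τ₀ → IsPGroup 3 P →
      P.map π ≤ J ⊔ zpowers ρ₀ → ∃ (i j c : Fin 3 → Γ) (ρ t : Γ) (v0 : V), Fr r R s i j c ρ t v0 ∧ Fit π J c₀ j₀ ρ₀ τ₀ P c ρ t)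
    (hL : LT L X) {P : Subgroup Γ} {y : Γ} (h : Ce P y) :
    ∃ (J : Subgroup L) (c₀ j₀ ρ₀ τ₀ : L) (i j c : Fin 3 → Γ) (ρ t : Γ) (v0 : V) (f : Fr r R s i j c ρ t v0) (k : Fin 3 → ℕ),
      X J c₀ j₀ ρ₀ τ₀ ∧ Fit π J c₀ j₀ ρ₀ τ₀ P c ρ t ∧ π y ∈ J ∧ y = cw c k ∧ (P ≤ f.Jb A ∨ ∃ m, k = fun _ => m) := by
  obtain ⟨J, c₀, j₀, ρ₀, τ₀, h1, h2, h3, h4⟩ := hL.fr (P.map π) (π y) (h.pg.map π) (mem_map_of_mem π h.mem)
    (by rw [← map_pow, h.y3, map_one]) (by rintro _ ⟨p, hp, rfl⟩; exact (h.cm p hp).map π)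
  obtain ⟨i, j, c, ρ, t, v0, f, g⟩ := hF J c₀ j₀ ρ₀ τ₀ P h1 h.pg h3
  rcases h4 with h4 | h4
  · obtain ⟨k, hk⟩ := g.inJ y h.mem (h4 (mem_map_of_mem π h.mem))
    exact ⟨J, c₀, j₀, ρ₀, τ₀, i, j, c, ρ, t, v0, f, k, h2, g, h4 (mem_map_of_mem π h.mem), hk,
      .inl fun p hp => g.inJ p hp (h4 (mem_map_of_mem π hp))⟩
  · have h5 := zpowers_le.2 h1.cJ h4
    obtain ⟨k, hk⟩ := g.inJ y h.mem h5
    obtain ⟨m, hm⟩ := mem_powers_iff_mem_zpowers.2 h4
    refine ⟨J, c₀, j₀, ρ₀, τ₀, i, j, c, ρ, t, v0, f, fun _ => m, h2, g, h5, hk.trans (f.cw_π A ?_), .inr ⟨m, rfl⟩⟩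
    dsimp only at hm
    rw [← hk, ← hm, ← g.hc, ← map_pow, show c 0 * c 1 * c 2 = cw c fun _ => 1 by simp [cw], f.cw_pow A]
    congr 2; ext; simp

theorem b3Thm (hF : FrThm.{u}) : B3Thm.{u} := by
  intro Γ V L _ _ _ _ _ _ _ r β R s π A X hL
  refine ⟨?_, fun P y h => ?_⟩
  · obtain ⟨J, c₀, j₀, ρ₀, τ₀, h1, -⟩ := hL.fr ⊥ 1 IsPGroup.of_bot (one_mem _) (one_pow 3) fun p _ => .one_right p
    obtain ⟨_, _, _, _, _, _, f, -⟩ := hF Γ V L r β R s π A J c₀ j₀ ρ₀ τ₀ ⊥ h1 IsPGroup.of_bot (by simp)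
    exact f.rs
  · obtain ⟨J, c₀, j₀, ρ₀, τ₀, i, j, c, ρ, t, v0, f, k, -, g, -, rfl, -⟩ := getFr A (hF Γ V L r β R s π A) hL h
    obtain ⟨a, ha⟩ := f.cw_ne A h.y1
    refine ⟨xo r (c (a + 1)) (xo r (c (a + 2)) v0), ?_, fun p hp => ?_, ?_⟩ <;> rw [f.cw_m A]
    · exact fun e => ha (f.smul_w A (add_eq_left.1 e))
    · obtain ⟨l, n, rfl⟩ := g.inT p hp
      rw [add_sub_cancel_left, map_smul, f.Tw A]
    · rw [map_add, map_smul, A.alt, f.β_w A, smul_zero, add_zero]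

theorem b4Thm (hF : FrThm.{u}) : B4Thm.{u} := by
  intro Γ V L _ _ _ _ _ _ _ r β R s π A hL P y h hy
  obtain ⟨J, c₀, j₀, ρ₀, τ₀, i, j, c, ρ, t, v0, f, k, hX, g, yJ, rfl, hP⟩ := getFr A (hF Γ V L r β R s π A) hL h
  obtain ⟨a, b, ha, e⟩ := hX.2 _ yJ (fun e => h.y1 (A.eq_one (n := 1) h.y3 e)) (by simpa using π.map_isConj hy)
  have e1 := f.cw_inj A (f.cw_π A (k := k) (l := a • ![0, 2, 1] + b • fun _ => 1) (by
    rw [e, ← g.hc, ← g.hj, ← f.cw_mul A, ← f.cw_pow A, ← f.cw_pow A]; simp [cw]))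
  have a0 : (a : F) ≠ 0 := fun e => ha ((ZMod.natCast_eq_zero_iff a 3).1 e)
  have k0 := e1 0; have k1 := e1 1; have k2 := e1 2
  simp at k0 k1 k2
  refine .inl ⟨?_, ?_⟩
  · rcases hP with hP | ⟨m, rfl⟩
    · intro p hp p' hp'
      obtain ⟨l, rfl⟩ := hP hp
      obtain ⟨l', rfl⟩ := hP hp'
      exact f.cw_comm A l l'
    · exact absurd (by linear_combination k0 - k2) a0
  · obtain ⟨m, m1, m2⟩ : ∃ m : Fin 3, (k m : F) = 0 ∧ (k (m + 2) : F) = -k (m + 1) := by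
      have : ∀ a b : F, a ≠ 0 → (b = 0 ∧ a + b = -(a * 2 + b)) ∨ (a * 2 + b = 0 ∧ b = -(a + b)) ∨
        (a + b = 0 ∧ a * 2 + b = -b) := by decide
      rcases this a b a0 with e | e | e
      exacts [⟨0, by simpa [k0, k1, k2] using e⟩, ⟨1, by simpa [k0, k1, k2] using e⟩, ⟨2, by simpa [k0, k1, k2] using e⟩]
    refine ⟨xo r (c (m + 1)) v0 + xo r (c (m + 2)) v0, xo r (c m) (xo r (c (m + 1)) v0 + xo r (c (m + 2)) v0), ?_, ?_, ?_⟩
    · simp [f.r_cw' A m, m1, m2, f.XX, f.Xc A (m + 2) (m + 1)]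
    · simp [f.r_cw' A m, m1, m2, f.XX, f.Xc A (m + 2) (m + 1), f.Xc A (m + 1) m, f.Xc A (m + 2) m]
    · simp only [map_add, LinearMap.add_apply, f.Xadj A, f.XX, f.Xc A (m + 2) (m + 1), f.Xc A (m + 1) m, f.Xc A (m + 2) m,
        f.Xm A, map_zero]
      have := f.β0 A
      revert this
      generalize β v0 (ww r c v0) = x; revert x; decide

theorem b6Thm (hF : FrThm.{u}) : B6Thm.{u} := by
  intro Γ V L _ _ _ _ _ _ _ r β R s π A X hL P v h1 h2 h3 h4
  have inj : Function.Injective (π.comp P.subtype) := (injective_iff_map_eq_one _).2 fun x hx =>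
    Subtype.ext (A.eq_one (n := 1) (h3 x x.2) hx)
  obtain ⟨c₀, j₀, ρ₀, τ₀, l1, l2⟩ := hL.ea (P.map π) (by
      rw [← range_subtype P, ← MonoidHom.range_comp, ← Nat.card_congr (MonoidHom.ofInjective inj).toEquiv, h1])
    (by rintro _ ⟨a, ha, rfl⟩ _ ⟨b, hb, rfl⟩; exact (h2 a ha b hb).map π)
    (by rintro _ ⟨a, ha, rfl⟩; rw [← map_pow, h3 a ha, map_one])
  obtain ⟨i, j, c, ρ, t, v0, f, g⟩ := hF Γ V L r β R s π A _ c₀ j₀ ρ₀ τ₀ P l1 (fun x => ⟨1, Subtype.ext (h3 x x.2)⟩) le_sup_left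
  refine ⟨t, f.tt, ⟨i, j, c, ρ, v0, _, c₀, j₀, ρ₀, τ₀, f, l1, l2, g.cJ, g.hc, g.hj, g.hρ, g.ht,
    fun p hp => ⟨0, 0, by simpa [cw] using hp⟩, fun p hp _ => ⟨0, by simpa [cw] using hp⟩⟩, ?_⟩
  have hx : ∀ a, xo r (c a) v = 0 := fun a => by
    obtain ⟨x, hx, e⟩ := g.cJ a
    obtain ⟨k, rfl⟩ := g.inJ x hx (mem_map_of_mem π hx)
    rw [Fr.c_cw (c := c) a] at e ⊢
    rw [← f.cw_π A e, xo_apply, h4 _ hx, sub_self]
  obtain ⟨a, l0, l1, l2, m0, m1, m2, d, e⟩ := f.span' A v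
  have k0 := hx 0; have k1 := hx 1; have k2 := hx 2
  have k3 := congrArg (xo r (c 1) * xo r (c 2)) k0
  have k4 := congrArg (xo r (c 1)) k2
  have k5 := congrArg (xo r (c 0)) k2
  have k6 := congrArg (xo r (c 0)) k1
  rw [e] at k3
  simp only [Module.End.mul_apply, map_add, map_smul, f.XX, f.X10 A, f.X20 A, f.X21 A, map_zero, smul_zero, add_zero] at k3
  obtain rfl := f.smul_w A k3
  rw [e] at k4 k5 k6
  simp only [map_add, map_smul, f.XX, f.X10 A, f.X20 A, f.X21 A, map_zero, smul_zero, add_zero, zero_smul, zero_add] at k4 k5 k6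
  obtain rfl := f.smul_w A k4
  obtain rfl := f.smul_w A k5
  obtain rfl := f.smul_w A k6
  rw [e] at k0 k1 k2
  simp only [map_add, map_smul, f.XX, f.X10 A, f.X20 A, f.X21 A, map_zero, smul_zero, add_zero, zero_smul, zero_add] at k0 k1 k2
  obtain rfl := f.smul_w A k0
  obtain rfl := f.smul_w A k1
  obtain rfl := f.smul_w A k2
  simp [e, f.tw A]

theorem b5Thm (hF : FrThm.{u}) : B5Thm.{u} := by
  intro Γ V L _ _ _ _ _ _ _ r β R s π A X hL P H y q h hPH hmax hst hq hi hs ⟨v1, hv1, hv2⟩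
  obtain ⟨J, c₀, j₀, ρ₀, τ₀, i, j, c, ρ, t, v0, f, k, -, g, -, rfl, hP⟩ := getFr A (hF Γ V L r β R s π A) hL h
  have nJ : ¬ P ≤ f.Jb A := fun e => f.notJ A h.y1 e hq hi hs
  obtain ⟨m, rfl⟩ := hP.resolve_left nJ
  obtain ⟨_, hm⟩ := f.cw_ne A h.y1
  have h3 : (3 : F) = 0 := rfl
  have mm : (m : F) * m = 1 := (by decide : ∀ x : F, x ≠ 0 → x * x = 1) _ hm
  have hw : β (ww r c v0) q = 0 := by simpa [mm] using f.sqz_w A hq 0
  have JH : f.Jb A ≤ H := by
    let W := LinearMap.range (xo r (cw c fun _ => m))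
    have W0 : ∀ u, r (cw c fun _ => m) u - u ∈ W := fun u => ⟨u, rfl⟩
    have Ww : ww r c v0 ∈ W := (W.smul_mem_iff hm).1 (by
      have := W0 (xo r (c (0 + 1)) (xo r (c (0 + 2)) v0))
      rwa [f.cw_m A, add_sub_cancel_left] at this)
    have W1 : ∀ a b, xo r (c a) (xo r (c b) v0) ∈ W := by
      have key : ∀ a, xo r (c a) (xo r (c (a + 1)) v0) ∈ W := fun a => by
        have e := W.sub_mem (W0 (xo r (c a) v0 + xo r (c (a + 1)) v0 - xo r (c (a + 2)) v0)) Ww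
        refine (W.smul_mem_iff (s := 2 * (m : F)) (mul_ne_zero (by decide : (2 : F) ≠ 0) hm)).1 ?_
        convert e using 1
        simp only [f.r_cw' A a, map_add, map_sub, f.XX, f.Xc A (a + 1) a, f.Xc A (a + 2) a, f.Xc A (a + 2) (a + 1), f.Xm A,
          f.Xw A, map_zero, mm]
        module
      intro a b
      rcases (by decide : ∀ a b : Fin 3, b = a ∨ b = a + 1 ∨ a = b + 1) a b with rfl | rfl | rfl
      exacts [by rw [f.XX]; exact W.zero_mem, key a, by rw [f.Xc A]; exact key b]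
    have cH : ∀ a, c a ∈ H := fun a => hst _ (by rw [Fr.c_cw (c := c) a]; exact f.cw_comm A _ _) (by
      obtain ⟨a0, l0, l1, l2, m0, m1, m2, d, e⟩ := f.span' A q
      have a1 : a0 = 0 := by
        rw [A.skew, e] at hw
        simpa [f.β_w A, f.β0 A] using hw
      obtain ⟨u, hu⟩ : xo r (c a) q ∈ W := by
        rw [e, a1]
        simp only [map_add, map_smul, zero_smul, zero_add, f.Xw A, smul_zero, add_zero]
        have W2 : ∀ b d, xo r (c a) (xo r (c b) (xo r (c d) v0)) ∈ W := fun b d => by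
          fin_cases a <;> fin_cases b <;> fin_cases d <;> simp [f.XX, f.X10 A, f.X20 A, f.X21 A] <;> exact Ww
        exact W.add_mem (W.add_mem (W.add_mem (W.add_mem (W.add_mem (W.smul_mem _ (W1 _ _)) (W.smul_mem _ (W1 _ _)))
          (W.smul_mem _ (W1 _ _))) (W.smul_mem _ (W2 _ _))) (W.smul_mem _ (W2 _ _))) (W.smul_mem _ (W2 _ _))
      exact ⟨u, hu.symm⟩)
    rintro _ ⟨l, rfl⟩
    exact mul_mem (mul_mem (pow_mem (cH 0) _) (pow_mem (cH 1) _)) (pow_mem (cH 2) _)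
  have JP : f.Jb A ≤ P := by
    have h1 : IsPGroup 3 ↥(f.Jb A ⊔ P) := IsPGroup.to_sup_of_normal_left'
      (by rintro ⟨_, l, rfl⟩; exact ⟨1, Subtype.ext (f.cw3 A l)⟩) h.pg fun p hp => mem_normalizer_fintype fun x hx => by
        obtain ⟨l, n, rfl⟩ := g.inT p hp
        rw [f.conjJ A l n hx]; exact f.ρJb A n hx
    exact le_sup_left.trans (eq_of_le_of_card_ge le_sup_right (hmax _ (sup_le JH hPH) h1)).ge
  have red : ∀ n : ℕ, ρ ^ n = 1 ∨ ρ ^ n = ρ ∨ ρ ^ n = ρ⁻¹ := fun n => (zp3 f.ρ3).1 (pow_mem (mem_zpowers ρ) n)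
  have ρP : ρ ∈ P := by
    by_contra hρ
    refine nJ fun p hp => ?_
    obtain ⟨l, n, rfl⟩ := g.inT p hp
    have h1 : ρ ^ n ∈ P := by simpa using mul_mem (inv_mem (JP ⟨l, rfl⟩)) hp
    rcases red n with e | e | e <;> rw [e] at h1 ⊢
    exacts [⟨l, mul_one _⟩, absurd h1 hρ, absurd (inv_mem_iff.1 h1) hρ]
  have ρcw' : ∀ k, ρ⁻¹ * cw c k * ρ⁻¹⁻¹ = cw c ![k 1, k 2, k 0] := fun k => by
    have := f.ρcw A ![k 1, k 2, k 0]
    rw [show ![![k 1, k 2, k 0] 2, ![k 1, k 2, k 0] 0, ![k 1, k 2, k 0] 1] = k by ext a; fin_cases a <;> rfl] at this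
    rw [← this]; group
  refine ⟨?_, fun u v hu hv => ?_, fun D hD hc hn hD9 S hS => ?_⟩
  · have h1 : {v | r (cw c fun _ => m) v = v}.ncard ≤ 27 := by
      refine (Set.ncard_le_ncard (t := Set.range fun x : F × F × F => x.1 • xo r (c 1) (xo r (c 2) v0) +
        x.2.1 • xo r (c 0) (xo r (c 2) v0) + (-x.1 - x.2.1) • xo r (c 0) (xo r (c 1) v0) + x.2.2 • ww r c v0)
        fun v hv => ?_).trans ?_
      · obtain ⟨a, b, d, e⟩ := f.fix_c A hm hv
        exact ⟨(a, b, d), e.symm⟩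
      · rw [← Set.image_univ]
        exact (Set.ncard_image_le (Set.toFinite _)).trans (by simp [Set.ncard_univ])
    have h2 := Set.ncard_le_ncard_of_injOn (s := {v | r (cw c fun _ => m) v = v ∧ β v q = 0} ×ˢ (Set.univ : Set F))
      (t := {v | r (cw c fun _ => m) v = v}) (fun x => x.1 + x.2 • v1)
      (fun x hx => by simp [hx.1.1, hv1]) (fun x hx x' hx' e => by
        have e1 := congrArg (β · q) e
        simp only [map_add, map_smul, LinearMap.add_apply, LinearMap.smul_apply, hx.1.2, hx'.1.2, zero_add, smul_eq_mul] at e1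
        have e2 := mul_right_cancel₀ hv2 e1
        exact Prod.ext (by simpa [e2] using e) e2)
    rw [Set.ncard_prod, Set.ncard_univ, Nat.card_zmod] at h2
    omega
  · obtain ⟨a, b, d, rfl⟩ := f.fix_c A hm hu
    obtain ⟨a', b', d', rfl⟩ := f.fix_c A hm hv
    simp [f.Xadj A, f.XX, f.X10 A, f.X20 A, f.X21 A]
  have cP : ∀ l, cw c l ∈ P := fun l => JP ⟨l, rfl⟩
  have DJ : D ≤ f.Jb A := fun d hd => by
    obtain ⟨l, n, rfl⟩ := g.inT d (hD hd)
    have e1 : cw c l * ρ ^ n * cw c ![1, 0, 0] * (cw c l * ρ ^ n)⁻¹ * (cw c ![1, 0, 0])⁻¹ ∈ D := by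
      simpa only [mul_assoc] using mul_mem hd (hn _ (cP ![1, 0, 0]) _ (inv_mem hd))
    have e2 := (hc _ hd _ e1).eq
    rw [f.conjJ A l n ⟨_, rfl⟩, ← mul_inv_eq_iff_eq_mul,
      f.conjJ A l n (mul_mem (f.ρJb A n ⟨_, rfl⟩) (inv_mem ⟨_, rfl⟩)), f.cw_inv A] at e2
    rcases red n with e | e | e <;> rw [e] at e2 ⊢
    · exact ⟨l, mul_one _⟩
    · rw [f.ρcw A, f.cw_mul A, f.ρcw A] at e2
      exact absurd (f.cw_inj A e2 0) (by decide)
    · rw [ρcw', f.cw_mul A, ρcw'] at e2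
      exact absurd (f.cw_inj A e2 0) (by decide)
  have D0 : ∀ l, cw c l ∈ D → (l 0 : F) + l 1 + l 2 = 0 := fun l hl => by
    by_contra h0
    obtain ⟨x, y, z, e0, e1, e2⟩ := (by decide : ∀ a b c : F, a + b + c ≠ 0 → ∃ x y z : F, x * a + y * c + z * b = 1 ∧
      x * b + y * a + z * c = 0 ∧ x * c + y * b + z * a = 0) _ _ _ h0
    have c0 : cw c ![1, 0, 0] ∈ D := by
      have := mul_mem (mul_mem (pow_mem hl x.val) (pow_mem (hn _ ρP _ hl) y.val)) (pow_mem (hn _ (inv_mem ρP) _ hl) z.val)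
      rw [f.ρcw A, ρcw', f.cw_pow A, f.cw_pow A, f.cw_pow A, f.cw_mul A, f.cw_mul A] at this
      rwa [f.cw_congr A fun a => ?_]
      simp only [Pi.add_apply, Pi.smul_apply, smul_eq_mul, Nat.cast_add, Nat.cast_mul, ZMod.natCast_zmod_val]
      fin_cases a <;> simp [e0, e1, e2]
    rcases hD9 with h9 | h9
    · have c1 := hn _ ρP _ c0
      have c2 := hn _ (inv_mem ρP) _ c0
      rw [f.ρcw A] at c1
      rw [ρcw'] at c2
      have := Nat.card_le_card_of_injective (fun x : Fin 3 → F => (⟨cw c fun a => (x a).val, by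
        have := mul_mem (mul_mem (pow_mem c0 (x 0).val) (pow_mem c1 (x 1).val)) (pow_mem c2 (x 2).val)
        simpa [cw] using this⟩ : D)) fun x x' e => funext fun a => by
          simpa using f.cw_inj A (k := fun a => (x a).val) (l := fun a => (x' a).val) (congrArg Subtype.val e) a
      simp at this
      omega
    · have := h9 _ c0 (r (cw c fun _ => m) (r (cw c fun _ => m) v0) + r (cw c fun _ => m) v0 + v0) (by
        rw [map_add, map_add, ← r_mul, ← r_mul, ← sq, ← pow_succ, h.y3, map_one, Module.End.one_apply]; abel) (f.sqz A hq v0)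
      rw [f.r_cw A ![1, 0, 0]] at this
      simp only [Matrix.cons_val_zero, Matrix.cons_val_one, Matrix.cons_val, Nat.cast_one, Nat.cast_zero, one_smul,
        zero_smul, add_zero, mul_zero, add_eq_left] at this
      simp only [f.r_cw A, map_add, map_smul, f.XX, f.X10 A, f.X20 A, f.X21 A, map_zero, smul_zero, add_zero, mm] at this
      refine absurd (f.smul_w A (a := 2) ?_) (by decide)
      rw [← this]
      match_scalars <;> first | linear_combination -h3 | linear_combination -h3 - 2 * mm | linear_combination (-(m : F)) * h3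
  obtain ⟨d, d1, d2⟩ := hS _ (cP ![1, 0, 0])
  obtain ⟨e, e1, e2⟩ := hS _ ρP
  obtain ⟨l, rfl⟩ := DJ d1
  obtain ⟨l', rfl⟩ := DJ e1
  have k1 := mul_mem (mul_mem e2 d2) (inv_mem e2)
  have k2 := mul_mem (mul_mem e2 k1) (inv_mem e2)
  have k3 := pow_mem (mul_mem (mul_mem d2 k1) k2) m
  have cj : ∀ k, cw c l' * ρ * cw c k * (cw c l' * ρ)⁻¹ = cw c ![k 2, k 0, k 1] := fun k => by
    simpa [f.ρcw A] using f.conjJ A l' 1 ⟨k, rfl⟩
  simp only [Prod.mk_mul_mk, Prod.inv_mk, Prod.pow_mk, f.cw_mul A, f.ρcw A, cj, f.cw_pow A] at k3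
  have := D0 l d1
  convert k3 using 2 <;> refine f.cw_congr A fun a => ?_ <;> fin_cases a <;> simp [Matrix.vecHead, Matrix.vecTail] <;>
    linear_combination (-(m : F)) * this

end CL.F3C
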