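/-
Groups with a `3`-centralizer of shape `3^(1+8).2^(1+6).L`: the three quaternion groups.
-/
import Cfsg.Agent.F3C.Bas
import Cfsg.Agent.Grp.SylowIn

set_option autoImplicit false
set_option linter.unusedSectionVars false

namespace CL.F3C

open Subgroup CL.Grp
open scoped commutatorElement

universe u

namespace Fr0A

section lin

variable {W : Type*} [AddCommGroup W] (h2 : ∀ w : W, w + w = 0) {C : W →+ W} (c3 : ∀ w, C (C (C w)) = w)
include h2 c3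

theorem exists_x {J P : W →+ W} (j3 : ∀ w, J (J (J w)) = w) (cj : ∀ w, C (J w) = J (C w))
    (pc : ∀ w, P (C w) = C (P w)) (pj : ∀ w, P (J w) = J (C (P w))) (p0 : ∀ w, P w = 0 → w = 0) {w : W} (hw : C w ≠ w) :
    ∃ x, x ≠ 0 ∧ x + C x + C (C x) = 0 ∧ J x = x := by
  by_contra! H0
  have k0 : ∀ x, x + C x + C (C x) = 0 → J x = x → x = 0 := fun x a b => by_contra fun c => H0 x c a b
  have pU : ∀ x, x + C x + C (C x) = 0 → P x + C (P x) + C (C (P x)) = 0 := fun x a => by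
    simpa only [map_add, pc, map_zero] using congrArg P a
  have k2 : ∀ x, x + C x + C (C x) = 0 → J (C (C x)) = x → x = 0 := fun x a b =>
    p0 x (k0 _ (pU x a) (by simpa only [pj, pc, c3] using congrArg P b))
  have k1 : ∀ x, x + C x + C (C x) = 0 → J (C x) = x → x = 0 := fun x a b =>
    p0 x (k2 _ (pU x a) (by simpa only [pj, pc] using congrArg P b))
  have hu : w + C w + C (w + C w) + C (C (w + C w)) = 0 := by
    simp only [map_add, c3]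
    linear_combination (norm := abel1) h2 w + h2 (C w) + h2 (C (C w))
  refine hw (by linear_combination (norm := abel1) (?_ : w + C w = 0) - h2 w)
  generalize w + C w = u at hu
  have h1 := congrArg J hu
  have h3 := congrArg J h1
  simp only [map_add, map_zero] at h1 h3
  have e0 := k0 (u + J u + J (J u)) (by simp only [map_add, cj]; linear_combination (norm := abel1) hu + h1 + h3)
    (by simp only [map_add, j3]; abel1)
  have e1 := k1 (u + J (C u) + J (J (C (C u))))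
    (by simp only [map_add, cj, c3]; linear_combination (norm := abel1) hu + h1 + h3)
    (by simp only [map_add, cj, c3, j3]; abel1)
  have e2 := k2 (u + J (C (C u)) + J (J (C u)))
    (by simp only [map_add, cj, c3]; linear_combination (norm := abel1) hu + h1 + h3)
    (by simp only [map_add, cj, c3, j3]; abel1)
  linear_combination (norm := abel1) e0 + e1 + e2 - h1 - h3 - h2 u

omit h2 c3 in
/-- the four elements of a plane -/
def q (C : W →+ W) (x : W) : Fin 4 → W := ![0, x, C x, x + C x]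

theorem decomp [Finite W] (hc : Nat.card W = 64) {G : Fin 3 → W →+ W} {x : Fin 3 → W}
    (gc : ∀ a w, G a (C w) = C (G a w)) (x0 : ∀ a, x a ≠ 0) (xU : ∀ a, x a + C (x a) + C (C (x a)) = 0)
    (gx : ∀ a, G a (x a) = x a) (gx' : ∀ a b, a ≠ b → G b (x a) = C (x a) ∨ G b (x a) = C (C (x a))) :
    (∀ a b k, a ≠ b → q C (x a) k + G b (q C (x a) k) + G b (G b (q C (x a) k)) = 0) ∧ ∀ w, (C w = w → w = 0) ∧
      ∃ k : Fin 3 → Fin 4, w = q C (x 0) (k 0) + q C (x 1) (k 1) + q C (x 2) (k 2) ∧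
        ∀ b, G b w = w → w = q C (x b) (k b) := by
  let E : (W →+ W) → W →+ W := fun g => AddMonoidHom.id W + g + g.comp g
  have hE : ∀ g w, E g w = w + g w + g (g w) := fun _ _ => rfl
  have fx : ∀ g w, g w = w → E g w = w := fun g w e => by rw [hE, e, e, h2, zero_add]
  let P : Fin 3 → W → Prop := fun a w => E C w = 0 ∧ G a w = w ∧ ∀ b, a ≠ b → E (G b) w = 0
  have px : ∀ a, P a (x a) := fun a => ⟨xU a, gx a, fun b e => by
    rcases gx' a b e with e | e <;> simp only [hE, e, gc, c3]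
    exacts [xU a, (add_right_comm _ _ _).trans (xU a)]⟩
  have pC : ∀ a w, P a w → P a (C w) := fun a w h => ⟨by simpa only [hE, map_add, map_zero] using congrArg C h.1,
    by rw [gc, h.2.1], fun b e => by simpa only [hE, map_add, map_zero, gc] using congrArg C (h.2.2 b e)⟩
  have pq : ∀ a k, P a (q C (x a) k) := fun a k => by
    have h := pC a _ (px a)
    fin_cases k
    exacts [⟨map_zero _, map_zero _, fun _ _ => map_zero _⟩, px a, h, ⟨(map_add _ _ _).trans (by rw [(px a).1, h.1, add_zero]),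
      (map_add _ _ _).trans (by rw [gx, h.2.1]; rfl), fun b e => (map_add _ _ _).trans (by
        rw [(px a).2.2 b e, h.2.2 b e, add_zero])⟩]
  have eq : ∀ (k : Fin 3 → Fin 4) b, E (G b) (∑ a, q C (x a) (k a)) = q C (x b) (k b) := fun k b => by
    rw [map_sum, Finset.sum_eq_single b (fun a _ e => (pq a _).2.2 b e) (by simp), fx _ _ (pq b _).2.1]
  have qi : ∀ a, Function.Injective (q C (x a)) := fun a k k' e => by
    have n1 := x0 a
    have n2 : C (x a) ≠ 0 := fun e => n1 (by rw [← c3 (x a), e, map_zero, map_zero])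
    have n3 : C (x a) ≠ x a := fun e => n1 ((fx C _ e).symm.trans (xU a))
    have n4 : x a + C (x a) ≠ 0 := fun e => n3 (by linear_combination (norm := abel1) e - h2 (x a))
    revert e
    fin_cases k <;> fin_cases k' <;> simp [q, n1, n2, n3, n4, n1.symm, n2.symm, n3.symm, n4.symm]
  have hf : Function.Injective fun k : Fin 3 → Fin 4 => ∑ a, q C (x a) (k a) := fun k k' e => funext fun b =>
    qi b (by rw [← eq, ← eq]; exact congrArg _ e)
  refine ⟨fun a b k e => (pq a k).2.2 b e, fun w => ?_⟩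
  obtain ⟨k, rfl⟩ := (hf.bijective_of_nat_card_le (by simp [hc])).2 w
  exact ⟨fun e => (fx C _ e).symm.trans ((map_sum _ _ _).trans (Finset.sum_eq_zero fun a _ => (pq a _).1)), k,
    Fin.sum_univ_three _, fun b e => (fx _ _ e).symm.trans (eq k b)⟩

end lin

variable {Γ V L W : Type*} [Group Γ] [AddCommGroup V] [Module F V] [Group L] [AddCommGroup W]
  {r : Γ →* Module.End F V} {β : LinearMap.BilinForm F V} {R : Subgroup Γ} {s : Γ} {π : Γ →* L} {a b c g u v : Γ}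

/-- the module `R / ⟨s⟩` -/
structure Md (R : Subgroup Γ) (s : Γ) (φ : Γ → W) (σ : Γ → W →+ W) : Prop where
  card : Nat.card W = 64
  mul : ∀ a ∈ R, ∀ b ∈ R, φ (a * b) = φ a + φ b
  zero : ∀ a ∈ R, φ a = 0 ↔ a = 1 ∨ a = s
  onto : ∀ w, ∃ a ∈ R, φ a = w
  act : ∀ g, ∀ a ∈ R, φ (g * a * g⁻¹) = σ g (φ a)

/-- the lifts -/
structure Lf (R : Subgroup Γ) (H : Subgroup Γ) (c j ρ τ : Γ) : Prop where
  card : Nat.card H = 27
  comm : ∀ a ∈ H, ∀ b ∈ H, Commute a b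
  exp : ∀ a ∈ H, a ^ 3 = 1
  cJ : c ∈ H
  jJ : j ∈ H
  c1 : c ≠ 1
  ρ3 : ρ ^ 3 = 1
  ρc : Commute ρ c
  ρj : ρ * j * ρ⁻¹ = j * c
  τ2 : τ * τ ∈ R
  τc : Commute τ c
  τj : τ * j * τ⁻¹ = j⁻¹

theorem sw (h : Commute g c) (a : Γ) : c * (g * a * g⁻¹) * c⁻¹ = g * (c * a * c⁻¹) * g⁻¹ := by
  calc _ = c * g * a * (c * g)⁻¹ := by group
    _ = _ := by rw [← h.eq]; group

theorem cj_eq (h : Commute g a) : g * a * g⁻¹ = a := mul_inv_eq_iff_eq_mul.2 h

/-- the relation `c j c⁻¹ = i j` -/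
def Rel (c i : Γ) : Prop := c * (c * i * c⁻¹) * c⁻¹ = i * (c * i * c⁻¹)

theorem Rel.conj (h : Rel c a) (hg : Commute g c) : Rel c (g * a * g⁻¹) := by
  rw [Rel, sw hg, sw hg, h, conj_mul]

variable (A : GA r β R s π)
include A

theorem nrm (g : Γ) (ha : a ∈ R) : g * a * g⁻¹ ∈ R := (A.ker _).1 (by simp [(A.ker a).2 ha])

theorem zc (h : a = 1 ∨ a = s) (g : Γ) : Commute g a := h.elim (· ▸ Commute.one_right g) (· ▸ A.sc g)

theorem p4 (ha : a ∈ R) : a * a * (a * a) = 1 := by rcases A.sq a ha with e | e <;> simp only [e, A.ss, mul_one]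

theorem three (ha : a ∈ R) {k : ℕ} (h : a ^ 3 ^ k = 1) : a = 1 :=
  orderOf_eq_one_iff.1 (Nat.eq_one_of_dvd_coprimes ((by norm_num : Nat.Coprime 3 4).pow_left k) (orderOf_dvd_of_pow_eq_one h)
    (orderOf_dvd_of_pow_eq_one (by rw [← p4 A ha]; simp only [pow_succ, pow_zero, one_mul, mul_assoc])))

theorem cj_s (g a : Γ) : g * (s * a) * g⁻¹ = s * (g * a * g⁻¹) := by rw [← conj_mul, cj_eq (A.sc g)]

theorem exists_md {Γ : Type u} [Group Γ] {r : Γ →* Module.End F V} {R : Subgroup Γ} {s : Γ} {π : Γ →* L}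
    (A : GA r β R s π) : ∃ (W : Type u) (_ : AddCommGroup W) (φ : Γ → W) (σ : Γ → W →+ W), Md R s φ σ := by
  have : R.Normal := ⟨fun a ha g => nrm A g ha⟩
  let N : Subgroup R := zpowers ⟨s, A.sR⟩
  have hN : ∀ a : R, a ∈ N ↔ (a : Γ) = 1 ∨ a = s := fun a => ⟨fun ⟨n, e⟩ => by
    have e' : s ^ n = a := congrArg Subtype.val e
    rcases Int.even_or_odd' n with ⟨k, rfl | rfl⟩
    · exact .inl (by rw [← e', zpow_mul, zpow_two, A.ss, one_zpow])
    · exact .inr (by rw [← e', zpow_add_one, zpow_mul, zpow_two, A.ss, one_zpow, one_mul]),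
    fun e => e.elim (fun e => (Subtype.ext e : a = 1) ▸ one_mem _) fun e => (Subtype.ext e : a = ⟨s, A.sR⟩) ▸ mem_zpowers _⟩
  have hc : ∀ g, N ≤ N.comap (MulAut.conjNormal g : MulAut R).toMonoidHom := fun g a ha =>
    (hN _).2 ((cj_eq (zc A ((hN a).1 ha) g)).symm ▸ (hN a).1 ha : g * a * g⁻¹ = 1 ∨ g * a * g⁻¹ = s)
  have : N.Normal := ⟨fun a ha g => hc g ha⟩
  let _ : CommGroup (R ⧸ N) := { (inferInstance : Group (R ⧸ N)) with
    mul_comm := fun a b => by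
      obtain ⟨a, rfl⟩ := QuotientGroup.mk_surjective a
      obtain ⟨b, rfl⟩ := QuotientGroup.mk_surjective b
      refine QuotientGroup.eq.2 ((hN _).2 ((A.cm b b.2 a a.2).imp (fun e => ?_) fun e => ?_))
      · rw [coe_mul, coe_inv, coe_mul, coe_mul, e, inv_mul_cancel]
      · rw [coe_mul, coe_inv, coe_mul, coe_mul, e, ← (A.sc _).eq, inv_mul_cancel_left] }
  classical
  refine ⟨Additive (R ⧸ N), inferInstance, fun a => if h : a ∈ R then Additive.ofMul (QuotientGroup.mk ⟨a, h⟩) else 0,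
    fun g => MonoidHom.toAdditive (QuotientGroup.map N N _ (hc g)), ?_, fun a ha b hb => ?_, fun a ha => ?_, fun w => ?_,
    fun g a ha => ?_⟩
  · have h := N.card_eq_card_quotient_mul_card_subgroup
    rw [A.cardR, Nat.card_zpowers, orderOf_eq_prime (p := 2) (Subtype.ext ((sq s).trans A.ss))
      fun e => A.s1 (congrArg Subtype.val e)] at h
    change Nat.card (R ⧸ N) = 64
    omega
  · rw [dif_pos ha, dif_pos hb, dif_pos (mul_mem ha hb)]; rfl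
  · rw [dif_pos ha]; exact (QuotientGroup.eq_one_iff _).trans (hN _)
  · obtain ⟨a, rfl⟩ := QuotientGroup.mk_surjective (s := N) w
    exact ⟨a, a.2, dif_pos a.2⟩
  · rw [dif_pos ha, dif_pos (nrm A g ha)]; rfl

theorem exists_lf [Finite Γ] [Finite L] {J : Subgroup L} {c₀ j₀ ρ₀ τ₀ : L} {P : Subgroup Γ} (f : LF J c₀ j₀ ρ₀ τ₀)
    (hP : IsPGroup 3 P) (hle : P.map π ≤ J ⊔ zpowers ρ₀) : ∃ H c j ρ τ, Lf R H c j ρ τ ∧ π c = c₀ ∧ π j = j₀ ∧
      π ρ = ρ₀ ∧ π τ = τ₀ ∧ (∀ g ∈ H, π g ∈ J) ∧ (∀ p ∈ P, ∃ g ∈ H, ∃ n : ℕ, p = g * ρ ^ n) ∧ ∀ p ∈ P, π p ∈ J → p ∈ H := by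
  have hn : zpowers ρ₀ ≤ normalizer (J : Set L) := zpowers_le.2 (mem_normalizer_fintype f.ρJ)
  have h0 : IsPGroup 3 ↥(J ⊔ zpowers ρ₀) := IsPGroup.to_sup_of_normal_left' (IsPGroup.of_card (n := 3) f.card)
    (fun ⟨_, n, rfl⟩ => ⟨1, Subtype.ext (by
      change (ρ₀ ^ n) ^ 3 ^ 1 = 1
      rw [pow_one, ← zpow_natCast, zpow_comm, zpow_natCast, f.ρ3, one_zpow])⟩) hn
  obtain ⟨T, hT, hPT⟩ := exists_isSylowIn_ge hP (map_le_iff_le_comap.1 hle)
  obtain ⟨n, h1⟩ := h0.exists_card_eq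
  have lf : ∀ l ∈ J ⊔ zpowers ρ₀, ∃ g ∈ T, π g = l := fun l hl => by
    obtain ⟨x, rfl⟩ := A.surj l
    obtain ⟨k, hk, g, hg, rfl⟩ := hT.exists_mul_eq_of_relIndex_pow (K := π.ker) (n := n)
      (by rw [relIndex_ker, map_comap_eq_self_of_surjective A.surj, h1]) hl
    exact ⟨g, hg, by rw [map_mul, hk, one_mul]⟩
  have inj : ∀ {a b}, a ∈ T → b ∈ T → π a = π b → a = b := fun {a b} ha hb e => by
    obtain ⟨k, hk⟩ := hT.isPGroup ⟨a⁻¹ * b, mul_mem (inv_mem ha) hb⟩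
    exact inv_mul_eq_one.1 (three A ((A.ker _).1 (by simp [e])) (congrArg Subtype.val hk))
  obtain ⟨c, cT, hc⟩ := lf c₀ (mem_sup_left f.cJ)
  obtain ⟨j, jT, hj⟩ := lf j₀ (mem_sup_left f.jJ)
  obtain ⟨ρ, ρT, hρ⟩ := lf ρ₀ (mem_sup_right (mem_zpowers _))
  obtain ⟨m, hm⟩ := A.surj τ₀
  obtain ⟨x, hx, h2⟩ := hT.exists_conj_le (U := cjg m (T ⊓ J.comap π)) ((hT.isPGroup.to_le inf_le_left).map _) (by
    rintro _ ⟨g, hg, rfl⟩
    exact mem_comap.2 (mem_sup_left (by simpa [hm] using f.τJ _ hg.2)))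
  obtain ⟨y, yT, hy⟩ := lf _ hx
  have h3 : π (y⁻¹ * x * m) = τ₀ := by simp [hy, hm]
  have h4 : ∀ g ∈ T, π g ∈ J → y⁻¹ * x * m * g * (y⁻¹ * x * m)⁻¹ ∈ T := fun g a b => by
    have := mul_mem (mul_mem (inv_mem yT) ((conj_smul_le_iff _ _ _).1 h2 _ ⟨g, ⟨a, b⟩, rfl⟩)) yT
    simpa [mul_assoc] using this
  generalize y⁻¹ * x * m = τ at h3 h4
  have cJ : π c ∈ J := hc ▸ f.cJ
  have jJ : π j ∈ J := hj ▸ f.jJ
  refine ⟨T ⊓ J.comap π, c, j, ρ, τ, ⟨(Nat.card_eq_of_bijective (fun g : ↥(T ⊓ J.comap π) => (⟨π g, g.2.2⟩ : J)) ⟨fun a b e =>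
      Subtype.ext (inj a.2.1 b.2.1 (congrArg Subtype.val e)), fun l => ?_⟩).trans f.card,
    fun a ha b hb => inj (mul_mem ha.1 hb.1) (mul_mem hb.1 ha.1) (by simpa using (f.comm _ ha.2 _ hb.2).eq),
    fun a ha => inj (pow_mem ha.1 3) (one_mem _) (by simpa using f.exp _ ha.2), ⟨cT, cJ⟩, ⟨jT, jJ⟩,
    fun e => f.c1 (by rw [← hc, e, map_one]), inj (pow_mem ρT 3) (one_mem _) (by simpa [hρ] using f.ρ3),
    inj (mul_mem ρT cT) (mul_mem cT ρT) (by simpa [hρ, hc] using f.ρc.eq),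
    inj (mul_mem (mul_mem ρT jT) (inv_mem ρT)) (mul_mem jT cT) (by simpa [hρ, hc, hj] using f.ρj),
    (A.ker _).1 (by simpa [h3] using f.τ2),
    mul_inv_eq_iff_eq_mul.1 (inj (h4 c cT cJ) cT (by simpa [h3, hc] using cj_eq f.τc)),
    inj (h4 j jT jJ) (inv_mem jT) (by simpa [h3, hj] using f.τj)⟩, hc, hj, hρ, h3, fun g hg => hg.2, fun p hp => ?_,
    fun p hp e => ⟨hPT hp, e⟩⟩
  · obtain ⟨g, hg, e⟩ := lf l (mem_sup_left l.2)
    exact ⟨⟨g, hg, mem_comap.2 (e ▸ l.2)⟩, Subtype.ext e⟩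
  · have h5 : π p ∈ ((J ⊔ zpowers ρ₀ : Subgroup L) : Set L) := hle (mem_map_of_mem π hp)
    rw [coe_mul_of_right_le_normalizer_left _ _ hn] at h5
    obtain ⟨l, hl, _, h6, e⟩ := h5
    obtain ⟨k, rfl⟩ := mem_powers_iff_mem_zpowers.2 h6
    refine ⟨p * (ρ ^ k)⁻¹, ⟨T.mul_mem (hPT hp) (T.inv_mem (T.pow_mem ρT k)), mem_comap.2 ?_⟩, k, by simp⟩
    simpa [hρ, ← e] using hl

variable {φ : Γ → W} {σ : Γ → W →+ W} (M : Md R s φ σ)
include M

theorem σ_mul (g k : Γ) (w : W) : σ (g * k) w = σ g (σ k w) := by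
  obtain ⟨a, ha, rfl⟩ := M.onto w
  rw [← M.act _ _ ha, ← M.act _ _ ha, ← M.act _ _ (nrm A k ha)]; congr 1; group

theorem σ_one (w : W) : σ 1 w = w := by
  obtain ⟨a, ha, rfl⟩ := M.onto w
  rw [← M.act _ _ ha]; simp

theorem σ3 (h : g ^ 3 = 1) (w : W) : σ g (σ g (σ g w)) = w := by
  rw [← σ_mul A M, ← σ_mul A M, ← pow_three', h, σ_one A M]

theorem σc (h : Commute g c) (w : W) : σ g (σ c w) = σ c (σ g w) := by rw [← σ_mul A M, ← σ_mul A M, h.eq]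

theorem σ0 (g : Γ) (w : W) (h : σ g w = 0) : w = 0 := by
  rw [← σ_one A M w, ← inv_mul_cancel g, σ_mul A M, h, map_zero]

theorem σ_fix (ha : a ∈ R) (h : Commute g a) : σ g (φ a) = φ a := by rw [← M.act _ _ ha, cj_eq h]

theorem two (w : W) : w + w = 0 := by
  obtain ⟨a, ha, rfl⟩ := M.onto w
  rw [← M.mul _ ha _ ha, M.zero _ (mul_mem ha ha)]; exact A.sq a ha

theorem φ_one : φ 1 = 0 := (M.zero _ (one_mem _)).2 (.inl rfl)

theorem φ_s (ha : a ∈ R) : φ (s * a) = φ a := by rw [M.mul _ A.sR _ ha, (M.zero _ A.sR).2 (.inr rfl), zero_add]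

theorem φ_eq (ha : a ∈ R) (hb : b ∈ R) (e : φ a = φ b) : a = b ∨ a = s * b := by
  have h := M.mul _ (mul_mem ha (inv_mem hb)) _ hb
  rw [inv_mul_cancel_right, e, right_eq_add, M.zero _ (mul_mem ha (inv_mem hb))] at h
  exact h.imp mul_inv_eq_one.1 mul_inv_eq_iff_eq_mul.1

theorem fix3 (h : g ^ 3 = 1) (ha : a ∈ R) (e : σ g (φ a) = φ a) : Commute g a := by
  refine mul_inv_eq_iff_eq_mul.1 ((φ_eq A M (nrm A g ha) ha ((M.act _ _ ha).trans e)).resolve_right fun e => A.s1 ?_)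
  have h1 : g ^ 3 * a * (g ^ 3)⁻¹ = g * (g * (g * a * g⁻¹) * g⁻¹) * g⁻¹ := by rw [pow_three]; group
  rw [h, e, cj_s A, e, ← mul_assoc s, A.ss, one_mul, e] at h1
  simpa using h1

theorem comm_of (hu : u ∈ R) (hv : v ∈ R) (h : Commute g u) (e : φ v + σ g (φ v) + σ g (σ g (φ v)) = 0) :
    Commute u v := by
  refine (A.cm u hu v hv).resolve_right fun h1 => A.s1 ?_
  have k : ∀ {v}, u * v = s * (v * u) → u * (g * v * g⁻¹) = s * (g * v * g⁻¹ * u) := fun {v} h1 => by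
    simpa only [cj_s A, ← conj_mul (a := v), ← conj_mul (a := u), cj_eq h] using congrArg (g * · * g⁻¹) h1
  have v1 := nrm A g hv
  have v2 := nrm A g v1
  rw [← M.act _ _ hv, ← M.act _ _ v1, ← M.mul _ hv _ v1, ← M.mul _ (mul_mem hv v1) _ v2,
    M.zero _ (mul_mem (mul_mem hv v1) v2)] at e
  have h3 := (zc A e u).eq
  have h4 := k h1
  have h5 := k h4
  generalize g * (g * v * g⁻¹) * g⁻¹ = v'' at *
  generalize g * v * g⁻¹ = v' at *
  rw [← mul_assoc, ← mul_assoc, h1, mul_assoc, mul_assoc, mul_assoc, ← mul_assoc u, h4, mul_assoc, mul_assoc, h5,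
    ← mul_assoc v', (A.sc v').eq, mul_assoc, ← mul_assoc s s, A.ss, one_mul] at h3
  simpa only [mul_assoc, mul_eq_right] using h3

theorem rel_eq (hu : u ∈ R) (hv : v ∈ R) (ru : Rel c u) (rv : Rel c v) (e : φ u = φ v) : u = v :=
  (φ_eq A M hu hv e).resolve_right fun e => A.s1 (by
    rw [e, Rel, cj_s A, cj_s A, rv, mul_assoc s, ← mul_assoc v s, (A.sc v).eq, mul_assoc s v, mul_right_inj,
      right_eq_mul] at ru
    exact ru)

/-- the first generator -/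
theorem exists_i [Finite W] {H : Subgroup Γ} {j ρ τ : Γ} (f : Lf R H c j ρ τ) :
    ∃ i ∈ R, φ i ≠ 0 ∧ Rel c i ∧ Commute j i := by
  have c3 := f.exp c f.cJ
  obtain ⟨w, hw⟩ : ∃ w, σ c w ≠ w := by
    by_contra! h
    exact f.c1 (three A (k := 1) (A.cen c fun a ha => .inl (fix3 A M c3 ha (h _))) c3)
  obtain ⟨x, x0, h1, h2⟩ := exists_x (two A M) (σ3 A M c3) (σ3 A M (f.exp j f.jJ)) (σc A M (f.comm _ f.cJ _ f.jJ))
    (σc A M f.ρc) (fun w => by rw [← σ_mul A M, ← σ_mul A M, ← σ_mul A M, ← f.ρj, inv_mul_cancel_right]) (σ0 A M ρ) hw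
  obtain ⟨a, ha, rfl⟩ := M.onto x
  have a1 := nrm A c ha
  have h3 := fix3 A M (f.exp j f.jJ) ha h2
  rcases φ_eq A M (nrm A c a1) (mul_mem ha a1) (by
    rw [M.mul _ ha _ a1, M.act _ _ a1, M.act _ _ ha]
    linear_combination (norm := abel1) h1 - two A M (φ a) - two A M (σ c (φ a))) with e | e
  · exact ⟨a, ha, x0, e, h3⟩
  · refine ⟨s * a, mul_mem A.sR ha, by rwa [φ_s A M ha], ?_, (A.sc j).mul_right h3⟩
    rw [Rel, cj_s A, cj_s A, e, mul_assoc s a, ← mul_assoc a s, (A.sc a).eq, mul_assoc s a]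

theorem main [Finite Γ] [Finite W] {H : Subgroup Γ} {j ρ τ : Γ} (f : Lf R H c j ρ τ) :
    ∃ (i j' d : Fin 3 → Γ) (e : Γ), e ∈ H ∧ Fr0 R s i j' ρ (e⁻¹ * τ * e) ∧ (∀ a, d a ∈ H) ∧ d 0 * d 1 * d 2 = c ∧
      d 1 ^ 2 * d 2 = j ∧ (∀ g ∈ H, ∃ k, g = cw d k) ∧ ∀ a, d a * i a * (d a)⁻¹ = j' a ∧
        d a * j' a * (d a)⁻¹ = i a * j' a ∧ ∀ b, a ≠ b → Commute (d a) (i b) ∧ Commute (d a) (j' b) := by
  obtain ⟨i0, h1, h2, h3, h4⟩ := exists_i A M f
  have c3 := f.exp c f.cJ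
  have jc : Commute j c := f.comm _ f.jJ _ f.cJ
  have hρ : ∀ n : ℕ, ρ ^ n * j * (ρ ^ n)⁻¹ = j * c ^ n := fun n => by
    induction n with
    | zero => simp
    | succ n ih => calc
        _ = ρ * (ρ ^ n * j * (ρ ^ n)⁻¹) * ρ⁻¹ := by rw [pow_succ']; group
        _ = _ := by rw [ih, ← conj_mul, f.ρj, cj_eq (f.ρc.pow_right n), pow_succ', mul_assoc]
  obtain ⟨i, hi⟩ : ∃ i : Fin 3 → Γ, ∀ a, i a = ρ ^ (a : ℕ) * i0 * (ρ ^ (a : ℕ))⁻¹ := ⟨_, fun _ => rfl⟩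
  have iR : ∀ a, i a ∈ R := fun a => hi a ▸ nrm A _ h1
  have jR : ∀ a, c * i a * c⁻¹ ∈ R := fun a => nrm A c (iR a)
  have i0' : ∀ a, φ (i a) ≠ 0 := fun a e => h2 (σ0 A M _ _ (by rwa [hi, M.act _ _ h1] at e))
  have ir : ∀ a, Rel c (i a) := fun a => hi a ▸ h3.conj (f.ρc.pow_left _)
  have gi : ∀ a : Fin 3, Commute (j * c ^ (a : ℕ)) (i a) := fun a => by
    rw [hi, ← hρ]; exact h4.map (MulAut.conj _)
  have gc : ∀ n : ℕ, Commute (j * c ^ n) c := fun n => jc.mul_left (Commute.pow_self c n)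
  have ρi : ∀ a, ρ * i a * ρ⁻¹ = i (a + 1) := fun a => by
    rw [hi, hi, show ρ ^ ((a + 1 : Fin 3) : ℕ) = ρ * ρ ^ (a : ℕ) by
      rw [← pow_succ', pow_eq_pow_mod (a + 1) f.ρ3]; rfl]; group
  obtain ⟨D1, D2⟩ := decomp (two A M) (σ3 A M c3) M.card (G := fun a => σ (j * c ^ (a : ℕ))) (x := fun a => φ (i a))
    (fun a => σc A M (gc a)) i0' (fun a => by
      rw [← M.act _ _ (iR a), ← M.act _ _ (jR a), ← M.mul _ (iR a) _ (jR a), ir a, two A M])
    (fun a => σ_fix A M (iR a) (gi a)) fun a b e => by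
      have k : ∀ m : ℕ, (m + a) % 3 = b → σ (j * c ^ (b : ℕ)) (φ (i a)) = σ (c ^ m) (φ (i a)) := fun m e => by
        rw [← e, ← pow_eq_pow_mod _ c3, pow_add, ← mul_assoc, (jc.pow_right m).eq, mul_assoc, σ_mul A M,
          σ_fix A M (iR a) (gi a)]
      exact ((by decide : ∀ a b : Fin 3, a ≠ b → (1 + a : ℕ) % 3 = b ∨ (2 + a : ℕ) % 3 = b) a b e).imp
        (fun e => by rw [k 1 e, pow_one]) fun e => by rw [k 2 e, sq, σ_mul A M]
  have qR : ∀ a k, qw (i a) (c * i a * c⁻¹) k ∈ R ∧ φ (qw (i a) (c * i a * c⁻¹) k) = q (σ c) (φ (i a)) k := fun a k => by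
    fin_cases k
    exacts [⟨one_mem _, φ_one A M⟩, ⟨iR a, rfl⟩, ⟨jR a, M.act _ _ (iR a)⟩,
      ⟨mul_mem (iR a) (jR a), (M.mul _ (iR a) _ (jR a)).trans (congrArg _ (M.act _ _ (iR a)))⟩]
  have nf : ∀ g ∈ R, ∃ (e : ℕ) (w : Fin 3 → Fin 4), g = s ^ e * (qw (i 0) (c * i 0 * c⁻¹) (w 0) *
      qw (i 1) (c * i 1 * c⁻¹) (w 1) * qw (i 2) (c * i 2 * c⁻¹) (w 2)) := fun g hg => by
    obtain ⟨k, hk, -⟩ := (D2 (φ g)).2
    rw [← (qR _ _).2, ← (qR _ _).2, ← (qR _ _).2, ← M.mul _ (qR _ _).1 _ (qR _ _).1,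
      ← M.mul _ (mul_mem (qR _ _).1 (qR _ _).1) _ (qR _ _).1] at hk
    rcases φ_eq A M hg (mul_mem (mul_mem (qR _ _).1 (qR _ _).1) (qR _ _).1) hk with e | e
    exacts [⟨0, k, by rwa [pow_zero, one_mul]⟩, ⟨1, k, by rwa [pow_one]⟩]
  have gj : ∀ {g} a, Commute g c → Commute g (i a) → Commute g (c * i a * c⁻¹) := fun a h h' =>
    (h.mul_right h').mul_right h.inv_right
  have cq : ∀ {a b u} k, a ≠ b → u ∈ R → Commute (j * c ^ ((a : Fin 3) : ℕ)) u → Commute u (qw (i b) (c * i b * c⁻¹) k) :=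
    fun k e hu h => comm_of A M hu (qR _ k).1 h (by rw [(qR _ k).2]; exact D1 _ _ k e.symm)
  have cen : ∀ g, (∀ a, Commute g (i a) ∧ Commute g (c * i a * c⁻¹)) → ∀ a ∈ R, Commute g a := fun g h a ha => by
    have k : ∀ a k, Commute g (qw (i a) (c * i a * c⁻¹) k) := fun a k => by
      fin_cases k
      exacts [Commute.one_right g, (h a).1, (h a).2, (h a).1.mul_right (h a).2]
    obtain ⟨e, w, rfl⟩ := nf a ha
    exact ((A.sc g).pow_right e).mul_right (((k _ _).mul_right (k _ _)).mul_right (k _ _))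
  have ji : ∀ a, c * i a * c⁻¹ * i a = s * (i a * (c * i a * c⁻¹)) := fun a =>
    (A.cm _ (jR a) _ (iR a)).resolve_left fun e => i0' a ((M.zero _ (iR a)).2 (A.zen _ (iR a) (cen _ fun b => by
      by_cases h : a = b
      · exact h ▸ ⟨Commute.refl _, e.symm⟩
      · exact ⟨cq 1 h (iR a) (gi a), cq 2 h (iR a) (gi a)⟩)))
  have jj : ∀ {a}, a ∈ R → c * a * c⁻¹ * (c * a * c⁻¹) = a * a := fun ha => by
    rw [conj_mul, cj_eq (zc A (A.sq _ ha) c)]
  have ii : ∀ a, i a * i a = s := fun a => by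
    have h := jj (jR a)
    rw [ir a, mul_assoc, ← mul_assoc _ (i a), ji, mul_assoc, mul_assoc, jj (iR a), ← mul_assoc, (A.sc _).eq, mul_assoc,
      ← mul_assoc (i a), p4 A (iR a), mul_one] at h
    exact h.symm
  have ex : ∀ {u} (b : Fin 3), u ∈ R → φ u ≠ 0 → Rel c u → Commute (j * c ^ (b : ℕ)) u →
      ∃ m : Fin 3, u = c ^ (m : ℕ) * i b * (c ^ (m : ℕ))⁻¹ := fun {u} b hu u0 ru h => by
    obtain ⟨k, -, hk⟩ := (D2 (φ u)).2
    have h5 := hk b (σ_fix A M hu h)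
    rw [← (qR _ _).2] at h5
    generalize k b = l at h5
    fin_cases l
    · exact (u0 (h5.trans (φ_one A M))).elim
    · exact ⟨0, by simpa using rel_eq A M hu (iR b) ru (ir b) h5⟩
    · exact ⟨1, by simpa using rel_eq A M hu (jR b) ru ((ir b).conj (.refl c)) h5⟩
    · refine ⟨2, (rel_eq A M hu (nrm A c (jR b)) ru (((ir b).conj (.refl c)).conj (.refl c)) (ir b ▸ h5)).trans ?_⟩
      rw [show ((2 : Fin 3) : ℕ) = 2 from rfl, sq]; group
  have ex' : ∀ {g} a (b : Fin 3), Commute g c → Commute (j * c ^ (b : ℕ)) (g * i a * g⁻¹) →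
      ∃ m : Fin 3, g * i a * g⁻¹ = c ^ (m : ℕ) * i b * (c ^ (m : ℕ))⁻¹ := fun a b h h' =>
    ex b (nrm A _ (iR a)) (fun e => i0' a (σ0 A M _ _ (by rwa [M.act _ _ (iR a)] at e))) ((ir a).conj h) h'
  let Ac : Γ → (Fin 3 → ℕ) → Prop := fun g k => ∀ a, g * i a * g⁻¹ = c ^ k a * i a * (c ^ k a)⁻¹
  have am : ∀ {g g' k k'}, g ∈ H → Ac g k → Ac g' k' → Ac (g * g') (k + k') := fun {g g' k k'} hg h h' a => by
    calc _ = g * (g' * i a * g'⁻¹) * g⁻¹ := by group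
      _ = _ := by rw [h', sw ((f.comm _ hg _ f.cJ).pow_right _).symm, h, Pi.add_apply, add_comm, pow_add]; group
  have ap : ∀ {g k} (n : ℕ), g ∈ H → Ac g k → Ac (g ^ n) (n • k) := fun {g k} n hg h => by
    induction n with
    | zero => exact fun a => by simp
    | succ n ih => rw [pow_succ', succ_nsmul']; exact am hg h ih
  have uq : ∀ {g g' k}, g ∈ H → g' ∈ H → Ac g k → Ac g' k → g = g' := fun {g g' k} hg hg' h h' => by
    have h5 := mul_mem (inv_mem hg') hg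
    have h6 : ∀ a, Commute (g'⁻¹ * g) (i a) := fun a => mul_inv_eq_iff_eq_mul.1 (by
      calc _ = g'⁻¹ * (g * i a * g⁻¹) * g' := by group
        _ = _ := by rw [h, ← h']; group)
    exact (inv_mul_eq_one.1 (three A (k := 1) (A.cen _ fun a ha => .inl (cen _ (fun a =>
      ⟨h6 a, gj a (f.comm _ h5 _ f.cJ) (h6 a)⟩) a ha)) (f.exp _ h5))).symm
  choose κ hκ using fun (g : H) a => ex' a a (f.comm _ g.2 _ f.cJ) (by
    have h := f.comm _ (mul_mem f.jJ (pow_mem f.cJ a)) _ g.2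
    exact (h.mul_right (gi a)).mul_right h.inv_right)
  have hs : Function.Surjective κ := (Function.Injective.bijective_of_nat_card_le (fun g g' e =>
    Subtype.ext (uq (k := fun a => κ g a) g.2 g'.2 (hκ g) fun a => (hκ g' a).trans (by rw [e]))) (by simp [f.card])).2
  choose d hd using fun a => hs (Pi.single a 1)
  have ad : ∀ a, Ac (d a) (Pi.single a 1) := fun a b => by
    rw [hκ, hd, (by decide : ∀ a b : Fin 3, ((Pi.single a 1 : Fin 3 → Fin 3) b : ℕ) = (Pi.single a 1 : Fin 3 → ℕ) b)]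
  have cH : ∀ k, cw (fun a => (d a : Γ)) k ∈ H := fun k =>
    mul_mem (mul_mem (pow_mem (d 0).2 _) (pow_mem (d 1).2 _)) (pow_mem (d 2).2 _)
  have ac : ∀ k, Ac (cw (fun a => (d a : Γ)) k) k := fun k => by
    convert am (mul_mem (pow_mem (d 0).2 (k 0)) (pow_mem (d 1).2 (k 1))) (am (pow_mem (d 0).2 _)
      (ap (k 0) (d 0).2 (ad 0)) (ap (k 1) (d 1).2 (ad 1))) (ap (k 2) (d 2).2 (ad 2)) using 1
    · rfl
    · funext a; fin_cases a <;> simp
  have τz := (M.zero _ f.τ2).1 ((D2 _).1 (σ_fix A M f.τ2 (f.τc.mul_left f.τc).symm))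
  have ττ : ∀ a, τ * (τ * a * τ⁻¹) * τ⁻¹ = a := fun a => by
    calc _ = τ * τ * a * (τ * τ)⁻¹ := by group
      _ = _ := cj_eq (zc A τz a).symm
  have τi : ∀ a b : Fin 3, ((a : ℕ) + b) % 3 = 0 → ∃ m : Fin 3, τ * i a * τ⁻¹ = c ^ (m : ℕ) * i b * (c ^ (m : ℕ))⁻¹ :=
    fun a b e => ex' a b f.τc (by
      have h : Commute (τ * (j * c ^ (a : ℕ)) * τ⁻¹) (τ * i a * τ⁻¹) := (gi a).map (MulAut.conj τ)
      rw [← conj_mul, f.τj, cj_eq (f.τc.pow_right _), eq_inv_of_mul_eq_one_left (show c ^ (a : ℕ) * c ^ (b : ℕ) = 1 by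
        rw [← pow_add, pow_eq_pow_mod _ c3, e, pow_zero]), ← mul_inv_rev, ← (jc.pow_right _).eq] at h
      exact Commute.inv_left_iff.1 h)
  have t0 : Commute τ (i 0) := by
    obtain ⟨m, hm⟩ := τi 0 0 rfl
    have h := ττ (i 0)
    rw [hm, sw (f.τc.pow_right _).symm, hm] at h
    have h6 : c ^ (m : ℕ) * i 0 * (c ^ (m : ℕ))⁻¹ = i 0 := by
      calc _ = c ^ (m : ℕ) * (c ^ (m : ℕ) * (c ^ (m : ℕ) * i 0 * (c ^ (m : ℕ))⁻¹) * (c ^ (m : ℕ))⁻¹) * (c ^ (m : ℕ))⁻¹ := by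
            rw [h]
        _ = (c ^ 3) ^ (m : ℕ) * i 0 * ((c ^ 3) ^ (m : ℕ))⁻¹ := by rw [← pow_mul, mul_comm 3, pow_mul, pow_three]; group
        _ = _ := by simp [c3]
    exact mul_inv_eq_iff_eq_mul.1 (hm.trans h6)
  obtain ⟨m, hm⟩ := τi 1 2 rfl
  have eH := cH ![0, 2 * m, 0]
  have e0 : Commute _ (i 0) := mul_inv_eq_iff_eq_mul.1 (by simpa using ac ![0, 2 * m, 0] 0)
  have e2 : Commute _ (i 2) := mul_inv_eq_iff_eq_mul.1 (by simpa using ac ![0, 2 * m, 0] 2)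
  have e1 := ac ![0, 2 * m, 0] 1
  generalize cw (fun a => (d a : Γ)) ![0, 2 * m, 0] = e at eH e0 e1 e2
  have ec := f.comm _ eH _ f.cJ
  have tc : Commute (e⁻¹ * τ * e) c := (ec.inv_left.mul_left f.τc).mul_left ec
  have t0' : Commute (e⁻¹ * τ * e) (i 0) := (e0.inv_left.mul_left t0).mul_left e0
  have t1 : e⁻¹ * τ * e * i 1 * (e⁻¹ * τ * e)⁻¹ = i 2 := by
    calc _ = e⁻¹ * (τ * (e * i 1 * e⁻¹) * τ⁻¹) * e⁻¹⁻¹ := by group
      _ = e⁻¹ * ((c ^ 3) ^ (m : ℕ) * i 2 * ((c ^ 3) ^ (m : ℕ))⁻¹) * e⁻¹⁻¹ := by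
        rw [e1, sw (f.τc.pow_right _).symm, hm, ← pow_mul, show 3 * (m : ℕ) = 2 * m + m by ring, pow_add]
        simp only [Matrix.cons_val_one, Matrix.cons_val_zero, mul_inv_rev, mul_assoc]
      _ = _ := by rw [c3, one_pow, one_mul, inv_one, mul_one, cj_eq e2.inv_left]
  have t2 : e⁻¹ * τ * e * i 2 * (e⁻¹ * τ * e)⁻¹ = i 1 := by
    calc _ = e⁻¹ * (τ * (τ * (e * i 1 * e⁻¹) * τ⁻¹) * τ⁻¹) * e := by rw [← t1]; group
      _ = _ := by rw [ττ]; group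
  refine ⟨i, fun a => c * i a * c⁻¹, fun a => d a, e, eH, ⟨iR, jR, ii, fun a => (jj (iR a)).trans (ii a), ji,
    fun a b h => cq 1 h (iR a) (gi a), fun a b h => cq 2 h (iR a) (gi a),
    fun a b h => cq 2 h (jR a) (gj a (gc a) (gi a)), nf, f.ρ3, ρi, fun a => by rw [← sw f.ρc, ρi], t0', gj 0 tc t0', t1,
    by rw [← sw tc, t1], t2, by rw [← sw tc, t2]⟩, fun a => (d a).2, ?_, ?_,
    fun g hg => ⟨_, uq hg (cH _) (hκ ⟨g, hg⟩) (ac _)⟩, fun a => ?_⟩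
  · simpa [cw] using uq (cH _) f.cJ (ac fun _ => 1) fun a => by simp
  · simpa [cw] using uq (cH _) f.jJ (ac ![0, 2, 1]) fun a => by
      have h : c ^ (![0, 2, 1] : Fin 3 → ℕ) a = (c ^ (a : ℕ))⁻¹ := eq_inv_of_mul_eq_one_left (by
        rw [← pow_add, pow_eq_pow_mod _ c3, (by decide : ∀ a : Fin 3, ((![0, 2, 1] : Fin 3 → ℕ) a + a) % 3 = 0), pow_zero])
      calc _ = (c ^ (a : ℕ))⁻¹ * (j * c ^ (a : ℕ) * i a * (j * c ^ (a : ℕ))⁻¹) * (c ^ (a : ℕ))⁻¹⁻¹ := by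
            rw [(jc.pow_right _).eq]; group
        _ = _ := by rw [cj_eq (gi a), h]
  · have dc := f.comm _ (d a).2 _ f.cJ
    have h : (d a : Γ) * i a * (d a : Γ)⁻¹ = c * i a * c⁻¹ := by simpa using ad a a
    refine ⟨h, by rw [← sw dc, h, ir a], fun b e => ?_⟩
    have h' : Commute (d a : Γ) (i b) := mul_inv_eq_iff_eq_mul.1 (by simpa [e.symm] using ad a b)
    exact ⟨h', gj b dc h'⟩

end Fr0A

open Fr0A in
theorem fr0Thm : Fr0Thm.{u} := by
  intro Γ V L _ _ _ _ _ _ _ r β R s π A J c₀ j₀ ρ₀ τ₀ P f hP hle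
  obtain ⟨W, _, φ, σ, M⟩ := exists_md A A
  have : Finite W := Nat.finite_of_card_ne_zero (by rw [M.card]; omega)
  obtain ⟨H, c, j, ρ, τ, l, rfl, rfl, rfl, rfl, h1, h2, h3⟩ := exists_lf A f hP hle
  obtain ⟨i, j', d, e, he, k1, k2, k3, k4, k5, k6⟩ := main A M l
  refine ⟨i, j', d, ρ, _, k1, ⟨fun a => h1 _ (k2 a), by rw [k3], by rw [k4], rfl, ⟨_, h1 _ (inv_mem he), by simp⟩,
    fun p hp => ?_, fun p hp h => k5 p (h3 p hp h)⟩, fun a => ⟨l.exp _ (k2 a), k6 a⟩⟩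
  obtain ⟨g, hg, n, rfl⟩ := h2 p hp
  obtain ⟨k, rfl⟩ := k5 g hg
  exact ⟨k, n, rfl⟩

end CL.F3C
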