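/-
Groups with a `3`-centralizer of shape `3^(1+8).2^(1+6).L`: the tensor basis of the module.
-/
import Cfsg.Agent.F3C.Bas

set_option autoImplicit false
set_option linter.unusedSimpArgs false

namespace CL.F3C

open Subgroup
open scoped commutatorElement

universe u

namespace Fr1

section
variable {A : Type*} [Ring A] {a b c d : A}

/-- quaternion units -/
structure QU (a b : A) : Prop where
  aa : a * a = -1
  bb : b * b = -1
  ba : b * a = -(a * b)

theorem QU.aa' (h : QU a b) (x : A) : a * (a * x) = -x := by rw [← mul_assoc, h.aa, neg_one_mul]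
theorem QU.bb' (h : QU a b) (x : A) : b * (b * x) = -x := by rw [← mul_assoc, h.bb, neg_one_mul]
theorem QU.ba' (h : QU a b) (x : A) : b * (a * x) = -(a * (b * x)) := by rw [← mul_assoc, h.ba, neg_mul, mul_assoc]

def xx (a b : A) : A := a + b + a * b
def yy (a b : A) : A := b + a * b - a
def ee (a b c d : A) : A := a * c + b * d + a * b * (c * d) - 1

theorem QU.one (h : QU a b) (h3 : ∀ x : A, x + x + x = 0) : xx a b * xx a b = 0 ∧ yy a b * yy a b = 0 ∧
    yy a b * xx a b + xx a b * yy a b = 1 ∧ (1 + xx a b) * a = b * (1 + xx a b) ∧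
    (1 + xx a b) * b = a * b * (1 + xx a b) ∧ a = -xx a b + yy a b ∧ b = xx a b - 1 + (1 - xx a b) * yy a b ∧
    a * b = xx a b + 1 + (1 + xx a b) * yy a b := by
  simp only [xx, yy, mul_add, add_mul, mul_sub, sub_mul, mul_assoc, h.aa, h.bb, h.ba, h.aa', h.bb', h.ba', mul_neg,
    neg_mul, neg_neg, mul_one, one_mul]
  refine ⟨?_, ?_, ?_, by abel, by abel, ?_, ?_, ?_⟩
  · linear_combination (norm := abel1) -h3 1
  · linear_combination (norm := abel1) -h3 1
  · linear_combination (norm := abel1) -h3 1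
  · linear_combination (norm := abel1) h3 a
  · linear_combination (norm := abel1) -h3 b
  · linear_combination (norm := abel1) -h3 (a * b)

theorem QU.two (h : QU a b) (k : QU c d) (h3 : ∀ x : A, x + x + x = 0) (ca : Commute c a) (cb : Commute c b)
    (da : Commute d a) (db : Commute d b) : ee a b c d * a = c * ee a b c d ∧ ee a b c d * b = d * ee a b c d ∧
    ee a b c d * c = a * ee a b c d ∧ ee a b c d * d = b * ee a b c d ∧ ee a b c d * ee a b c d = 1 := by
  simp only [ee, mul_add, add_mul, mul_sub, sub_mul, mul_assoc, h.aa, h.bb, h.ba, h.aa', h.bb', h.ba', k.aa, k.bb, k.ba,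
    k.aa', k.bb', k.ba', ca.eq, cb.eq, da.eq, db.eq, ca.left_comm, cb.left_comm, da.left_comm, db.left_comm, mul_neg,
    neg_mul, neg_neg, mul_one, one_mul]
  refine ⟨by abel, by abel, by abel, by abel, ?_⟩
  linear_combination (norm := abel1) h3 1

theorem c_xx (h : Commute c a) (k : Commute c b) : Commute c (xx a b) := (h.add_right k).add_right (h.mul_right k)
theorem c_yy (h : Commute c a) (k : Commute c b) : Commute c (yy a b) := (k.add_right (h.mul_right k)).sub_right h

end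

variable {Γ V U : Type*} [Group Γ] [AddCommGroup V] [Module F V] {X Y Z : Module.End F V} {f : U → V} {u : V}

theorem e3 (x : Module.End F V) : x + x + x = 0 := by
  rw [← one_smul F x, ← add_smul, ← add_smul, show (1 + 1 + 1 : F) = 0 from rfl, zero_smul]

theorem cap (h : Commute X Y) (v : V) : X (Y v) = Y (X v) := LinearMap.congr_fun h.eq v

/-- doubling -/
def st (X : Module.End F V) (f : U → V) (p : U × U) : V := f p.1 + X (f p.2)

theorem st_Y (h : Y * X + X * Y = 1) (hf : ∀ u, Y (f u) = 0) (p : U × U) : Y (st X f p) = f p.2 := by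
  simpa [st, hf] using LinearMap.congr_fun h (f p.2)

theorem st_inj (h : Y * X + X * Y = 1) (hf : ∀ u, Y (f u) = 0) (i : Function.Injective f) :
    Function.Injective (st X f) := fun p q e => by
  have e2 := (st_Y h hf p).symm.trans ((congrArg Y e).trans (st_Y h hf q))
  rw [st, st, e2, add_left_inj] at e
  exact Prod.ext (i e) (i e2)

theorem st_Z (c : Commute Z X) (hf : ∀ u, Z (f u) = 0) (p : U × U) : Z (st X f p) = 0 := by
  rw [st, map_add, cap c, hf, hf, map_zero, add_zero]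

theorem st_k (h : Y * X + X * Y = 1) (hf : ∀ u, Y (f u) = 0) (hu : u ∈ Set.range (st X f)) (k : Y u = 0) :
    u ∈ Set.range f := by
  obtain ⟨p, rfl⟩ := hu
  rw [st_Y h hf] at k
  exact ⟨p.1, by rw [st, k, map_zero, add_zero]⟩

theorem ex_k (h : Y * Y = 0) (hu : u ≠ 0) : ∃ v, v ≠ 0 ∧ Y v = 0 ∧ ∀ Z, Commute Z Y → Z u = 0 → Z v = 0 := by
  by_cases e : Y u = 0
  · exact ⟨u, hu, e, fun _ _ => id⟩
  · exact ⟨_, e, LinearMap.congr_fun h u, fun Z c k => by rw [cap c, k, map_zero]⟩

variable (r : Γ →* Module.End F V) (i j : Fin 3 → Γ)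

/-- the operators -/
abbrev xa (a : Fin 3) : Module.End F V := xx (r (i a)) (r (j a))
abbrev ya (a : Fin 3) : Module.End F V := yy (r (i a)) (r (j a))

/-- the coordinates -/
def co (v0 : V) : ((F × F) × F × F) × (F × F) × F × F → V :=
  st (xa r i j 0) (st (xa r i j 1) (st (xa r i j 2) fun a : F => a • v0))

variable {r i j} {R : Subgroup Γ} {s ρ t g : Γ} {v0 : V} {a b : Fin 3}

theorem cj_mul {x y : Γ} (h : g * x * g⁻¹ = y) : r g * r x = r y * r g := by rw [← map_mul, ← map_mul, ← h]; simp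

theorem cj_y (h : g * i a * g⁻¹ = i b) (k : g * j a * g⁻¹ = j b) : r g * ya r i j a = ya r i j b * r g := by
  simp only [yy, mul_add, mul_sub, add_mul, sub_mul, ← mul_assoc, cj_mul h, cj_mul k]
  simp only [mul_assoc, cj_mul k]

section
variable (h : Fr0 R s i j ρ t) (rs : r s = -1)
include h

theorem cx (n : a ≠ b) : Commute (r (i a)) (xa r i j b) ∧ Commute (r (j a)) (xa r i j b) :=
  ⟨c_xx ((h.cii a b n).map r) ((h.cij a b n).map r), c_xx ((h.cij b a n.symm).symm.map r) ((h.cjj a b n).map r)⟩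

theorem cyx (n : a ≠ b) : Commute (ya r i j a) (xa r i j b) := (c_yy (cx h n).1.symm (cx h n).2.symm).symm

theorem cxx (n : a ≠ b) : Commute (xa r i j a) (xa r i j b) := (c_xx (cx h n).1.symm (cx h n).2.symm).symm

theorem cyy (n : a ≠ b) : Commute (ya r i j a) (ya r i j b) :=
  (c_yy (c_yy ((h.cii a b n).map r) ((h.cij a b n).map r)).symm
    (c_yy ((h.cij b a n.symm).symm.map r) ((h.cjj a b n).map r)).symm).symm

include rs

theorem qu (a : Fin 3) : QU (r (i a)) (r (j a)) :=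
  ⟨by rw [← map_mul, h.ii, rs], by rw [← map_mul, h.jj, rs], by rw [← map_mul, h.ji, map_mul, map_mul, rs, neg_one_mul]⟩

theorem ex_v0 (hu : u ≠ 0) : ∃ v0, v0 ≠ 0 ∧ ∀ a, ya r i j a v0 = 0 := by
  obtain ⟨v1, h1, k1, -⟩ := ex_k ((qu h rs 0).one e3).2.1 hu
  obtain ⟨v2, h2, k2, l2⟩ := ex_k ((qu h rs 1).one e3).2.1 h1
  obtain ⟨v3, h3, k3, l3⟩ := ex_k ((qu h rs 2).one e3).2.1 h2
  refine ⟨v3, h3, fun a => ?_⟩
  fin_cases a
  exacts [l3 _ (cyy h (by decide)) (l2 _ (cyy h (by decide)) k1), l3 _ (cyy h (by decide)) k2, k3]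

variable (h0 : v0 ≠ 0) (hv : ∀ a, ya r i j a v0 = 0)
include h0 hv

theorem co_spec : Function.Injective (co r i j v0) ∧
    ∀ u ∈ Set.range (co r i j v0), (∀ a, ya r i j a u = 0) → ∃ c : F, c • v0 = u := by
  have k := fun a => ((qu h rs a).one e3).2.2.1
  have k0 : ∀ a (c : F), ya r i j a (c • v0) = 0 := fun a c => by rw [map_smul, hv, smul_zero]
  have k1 := st_Z (cyx h (a := 1) (b := 2) (by decide)) (k0 1)
  have k2 := st_Z (cyx h (a := 0) (b := 1) (by decide)) (st_Z (cyx h (a := 0) (b := 2) (by decide)) (k0 0))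
  exact ⟨st_inj (k 0) k2 (st_inj (k 1) k1 (st_inj (k 2) (k0 2) (smul_left_injective F h0))), fun u hu e =>
    st_k (k 2) (k0 2) (st_k (k 1) k1 (st_k (k 0) k2 hu (e 0)) (e 1)) (e 2)⟩

variable (su : Function.Surjective (co r i j v0))
include su

/-- the lemma of Schur -/
theorem schur {T : Module.End F V} (g : Γ) (hi : ∀ a, T * r (i a) = r (g * i a * g⁻¹) * T)
    (hj : ∀ a, T * r (j a) = r (g * j a * g⁻¹) * T) : ∃ c : F, T = c • r g := by
  have k : ∀ x, T * r x = r (g * x * g⁻¹) * T → Commute (r g⁻¹ * T) (r x) := fun x e => by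
    rw [Commute, SemiconjBy, mul_assoc, e, ← mul_assoc, ← mul_assoc, ← map_mul, ← map_mul]; simp [mul_assoc]
  obtain ⟨c, hc⟩ := (co_spec h rs h0 hv).2 ((r g⁻¹ * T) v0) (su _) fun a => by
    rw [← cap (c_yy (k _ (hi a)) (k _ (hj a))), hv, map_zero]
  have c1 : ∀ a, Commute (r g⁻¹ * T - c • 1) (xa r i j a) := fun a =>
    (c_xx (k _ (hi a)) (k _ (hj a))).sub_left ((Commute.one_left _).smul_left c)
  have : r g⁻¹ * T - c • 1 = 0 := LinearMap.ext fun v => by
    obtain ⟨p, rfl⟩ := su v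
    exact st_Z (c1 0) (st_Z (c1 1) (st_Z (c1 2) fun a => by
      rw [map_smul, LinearMap.sub_apply, ← hc]; simp)) p
  exact ⟨c, by rw [← mul_one (r g), ← mul_smul_comm, ← sub_eq_zero.1 this, ← mul_assoc, ← map_mul]; simp⟩

end

theorem card_co : Nat.card (((F × F) × F × F) × (F × F) × F × F) = 3 ^ 8 := by simp

theorem rs_eq [Finite V] (h : Fr0 R s i j ρ t) (inj : Function.Injective r) (s1 : s ≠ 1) (ss : s * s = 1)
    (sc : ∀ g, Commute g s) (cd : Nat.card V = 3 ^ 8) : r s = -1 := by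
  let W : Submodule F V := LinearMap.ker (r s + 1)
  have hW : ∀ g, W ≤ W.comap (r g) := fun g v hv => by
    change (r s + 1) (r g v) = 0
    rw [← cap (((sc g).map r).add_right (.one_right _)), show (r s + 1) v = 0 from hv, map_zero]
  have rs : Representation.subrepresentation r W hW s = -1 :=
    LinearMap.ext fun v => Subtype.ext (eq_neg_of_add_eq_zero_left v.2)
  obtain ⟨u, hu⟩ : ∃ u, r s u ≠ u := by
    by_contra! e
    exact s1 (inj ((LinearMap.ext e).trans r.map_one.symm))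
  obtain ⟨v0, h0, hv⟩ := ex_v0 h rs (u := ⟨r s u - u, by
    change (r s + 1) _ = 0
    simp [← Module.End.mul_apply, ← map_mul, ss]⟩) fun e => hu (sub_eq_zero.1 (congrArg Subtype.val e))
  have := Nat.card_le_card_of_injective _ (co_spec h rs h0 hv).1
  have e := W.toAddSubgroup.eq_top_of_le_card (by rwa [card_co, ← cd] at this)
  exact LinearMap.ext fun v => eq_neg_of_add_eq_zero_left (e.ge (AddSubgroup.mem_top v))

end Fr1

open Fr1

theorem frThm (h0 : Fr0Thm.{u}) : FrThm.{u} := by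
  intro Γ V L _ _ _ _ _ _ _ r β R s π A J c₀ j₀ ρ₀ τ₀ P hL hP hJ
  obtain ⟨i, j, c, ρ, t, h, ft, hc⟩ := h0 Γ V L r β R s π A J c₀ j₀ ρ₀ τ₀ P hL hP hJ
  have rs := rs_eq h A.inj A.s1 A.ss A.sc A.card
  have := Finite.one_lt_card_iff_nontrivial.1 (A.card ▸ by norm_num : 1 < Nat.card V)
  obtain ⟨u, hu⟩ := exists_ne (0 : V)
  obtain ⟨v0, h0, hv⟩ := ex_v0 h rs hu
  have sp := co_spec h rs h0 hv
  have su := ((Nat.bijective_iff_injective_and_card _).2 ⟨sp.1, card_co.trans A.card.symm⟩).2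
  have q := fun a => (qu h rs a).one e3
  have c3 : ∀ c : F, c ^ 3 = c := by decide
  have rc : ∀ a, r (c a) = 1 + xa r i j a := fun a => by
    obtain ⟨k1, k2, k3, k4⟩ := hc a
    obtain ⟨l, hl⟩ := schur h rs h0 hv su (T := 1 + xa r i j a) (c a) (fun b => by
      rcases eq_or_ne a b with rfl | n
      · rw [k2, (q a).2.2.2.1]
      · rw [(k4 b n).1.eq, mul_inv_cancel_right]
        exact ((Commute.one_left _).add_left (cx h n.symm).1.symm).eq) fun b => by
      rcases eq_or_ne a b with rfl | n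
      · rw [k3, (q a).2.2.2.2.1, map_mul]
      · rw [(k4 b n).2.eq, mul_inv_cancel_right]
        exact ((Commute.one_left _).add_left (cx h n.symm).2.symm).eq
    have : (1 + xa r i j a) ^ 3 = 1 := by
      simp only [pow_succ, pow_zero, mul_add, add_mul, mul_one, one_mul, (q a).1, add_zero]
      linear_combination (norm := abel1) e3 (xa r i j a)
    rw [hl, smul_pow, ← map_pow, k1, map_one, c3] at this
    rw [hl, smul_left_injective F h0 ((LinearMap.congr_fun this v0).trans (one_smul F v0).symm), one_smul]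
  have xo' : ∀ a, xo r (c a) = xa r i j a := fun a => by rw [xo, rc, add_sub_cancel_left]
  have e := (qu h rs 1).two (qu h rs 2) e3 ((h.cii 2 1 (by decide)).map r) ((h.cij 2 1 (by decide)).map r)
    ((h.cij 1 2 (by decide)).symm.map r) ((h.cjj 2 1 (by decide)).map r)
  have ec : ∀ x, (∀ a, a ≠ 0 → Commute x (i a) ∧ Commute x (j a)) →
      ee (r (i 1)) (r (j 1)) (r (i 2)) (r (j 2)) * r x = r x * ee (r (i 1)) (r (j 1)) (r (i 2)) (r (j 2)) := fun x k => by
    obtain ⟨⟨k1, k2⟩, k3, k4⟩ := And.intro (k 1 (by decide)) (k 2 (by decide))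
    exact (((((k1.map r).mul_right (k3.map r)).add_right ((k2.map r).mul_right (k4.map r))).add_right
      (((k1.map r).mul_right (k2.map r)).mul_right ((k3.map r).mul_right (k4.map r)))).sub_right (.one_right _)).symm.eq
  have f3 : ∀ a : Fin 3, a = 0 ∨ a = 1 ∨ a = 2 := by decide
  obtain ⟨l, hl⟩ := schur h rs h0 hv su (T := ee (r (i 1)) (r (j 1)) (r (i 2)) (r (j 2))) t (fun a => by
    rcases f3 a with rfl | rfl | rfl
    · rw [h.ti0.mul_inv_cancel]
      exact ec _ fun a n => ⟨h.cii 0 a n.symm, h.cij 0 a n.symm⟩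
    · rw [h.ti1, e.1]
    · rw [h.ti2, e.2.2.1]) fun a => by
    rcases f3 a with rfl | rfl | rfl
    · rw [h.tj0.mul_inv_cancel]
      exact ec _ fun a n => ⟨(h.cij a 0 n).symm, h.cjj 0 a n.symm⟩
    · rw [h.tj1, e.2.1]
    · rw [h.tj2, e.2.2.2.1]
  have ev : ee (r (i 1)) (r (j 1)) (r (i 2)) (r (j 2)) v0 = v0 := by
    have k : ∀ a, r (i a) v0 = -xa r i j a v0 ∧ r (j a) v0 = xa r i j a v0 - v0 ∧
        (r (i a) * r (j a)) v0 = xa r i j a v0 + v0 := fun a => by
      obtain ⟨-, -, -, -, -, k1, k2, k3⟩ := q a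
      exact ⟨by simpa [hv] using LinearMap.congr_fun k1 v0, by simpa [hv] using LinearMap.congr_fun k2 v0,
        by simpa [hv, -Module.End.mul_apply, Module.End.mul_apply _ (ya r i j a)] using LinearMap.congr_fun k3 v0⟩
    obtain ⟨k1, k2⟩ := cx (r := r) h (a := 1) (b := 2) (by decide)
    change r (i 1) (r (i 2) v0) + r (j 1) (r (j 2) v0) + (r (i 1) * r (j 1)) ((r (i 2) * r (j 2)) v0) - v0 = v0
    rw [(k 2).1, (k 2).2.1, (k 2).2.2, map_neg, map_sub, map_add, cap k1, cap k2, cap (k1.mul_left k2), (k 1).1,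
      (k 1).2.1, (k 1).2.2]
    simp only [map_neg, map_sub, map_add]
    have := LinearMap.congr_fun (e3 (xa r i j 2)) (xa r i j 1 v0)
    simp only [LinearMap.add_apply, LinearMap.zero_apply] at this
    linear_combination (norm := abel1) this
  obtain ⟨z, zc, zπ, hz⟩ : ∃ z, (∀ g, Commute g z) ∧ π z = 1 ∧
      r (z * t) = ee (r (i 1)) (r (j 1)) (r (i 2)) (r (j 2)) := by
    rcases (by decide : ∀ l : F, l = 0 ∨ l = 1 ∨ l = -1) l with rfl | rfl | rfl
    · exact absurd (by simpa [hl] using ev.symm) h0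
    · exact ⟨1, Commute.one_right, map_one π, by simp [hl]⟩
    · exact ⟨s, A.sc, (A.ker s).2 A.sR, by simp [hl, rs]⟩
  have zj : ∀ x, z * t * x * (z * t)⁻¹ = t * x * t⁻¹ := fun x => by
    rw [← (zc (t * x * t⁻¹)).symm.mul_inv_cancel]; group
  refine ⟨i, j, c, ρ, z * t, v0, ⟨{ h with
    ti0 := (zc _).symm.mul_left h.ti0, tj0 := (zc _).symm.mul_left h.tj0, ti1 := (zj _).trans h.ti1
    tj1 := (zj _).trans h.tj1, ti2 := (zj _).trans h.ti2, tj2 := (zj _).trans h.tj2 }, rs,
    fun a => by rw [rc, xa, xx, map_mul, ← add_assoc, ← add_assoc], ?_,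
    A.inj (by rw [map_mul, hz, e.2.2.2.2, map_one]), by rw [hz, ev], by simp only [hz, ee, map_mul], fun e => ?_,
    fun v => ?_⟩, { ft with ht := by rw [map_mul, zπ, one_mul]; exact ft.ht }⟩
  · obtain ⟨l, hl⟩ := sp.2 (r ρ v0) (su _) fun a => by
      have := LinearMap.congr_fun (cj_y (r := r) (h.ρi (a - 1)) (h.ρj (a - 1))) v0
      rw [sub_add_cancel] at this
      simpa [hv] using this.symm
    have : r (ρ ^ 3) v0 = l ^ 3 • v0 := by simp [pow_succ, ← hl, smul_smul, mul_assoc]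
    rw [h.ρ3, map_one, c3] at this
    exact hl.symm.trans this.symm
  · have := sp.1 (a₁ := (0, 0, 0, 1)) (a₂ := 0) (by simpa [co, st, xo'] using e)
    simp at this
  · obtain ⟨⟨⟨⟨a, l2⟩, l1, m0⟩, ⟨l0, m1⟩, m2, d⟩, rfl⟩ := su v
    refine ⟨a, d, ![l0, l1, l2], ![m0, m1, m2], ?_⟩
    simp [co, st, xo', Fin.sum_univ_three, cap (cxx h (a := 2) (b := 0) (by decide))]
    abel

end CL.F3C
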