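/-
Groups with a `3`-centralizer of shape `3^(1+8).2^(1+6).L`: transitivity on `Ω`, and pairs of type I do not exist.
-/
import Cfsg.Agent.F3C.Bas
import Cfsg.Agent.Grp.PGroupBasic

set_option autoImplicit false
set_option linter.unusedSectionVars false

namespace CL.F3C

open Subgroup
open scoped commutatorElement

universe u

namespace T1

variable {G Γ V L : Type*} [Group G] [Finite G] [Group Γ] [Finite Γ] [AddCommGroup V] [Module F V] [Finite V] [Group L]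
  {z : G} {Q : Subgroup G} {p : G → Γ} {φ : G → V} {r : Γ →* Module.End F V} {β : LinearMap.BilinForm F V}
  {R : Subgroup Γ} {s : Γ} {π : Γ →* L} {a b e g k n w x y σ : G} {P : Subgroup G} {Good : Γ → Prop}

theorem om_conj (ha : Om z P a) (hn : n ∈ normalizer (P : Set G)) : Om z P (n * a * n⁻¹) :=
  ⟨ha.1.conj n, fun x hx => by
    simpa [mul_assoc] using (ha.2 _ ((mem_normalizer_iff''.1 hn x).1 hx)).map (MulAut.conj n)⟩

/-- An isometry `f` has `(ker (f - 1))^⊥ = range (f - 1)`. -/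
theorem exists_sub (A : GA r β R s π) (γ : Γ) {q : V} (hq : ∀ v, r γ v = v → β v q = 0) : ∃ u, q = r γ u - u := by
  have : Module.Finite F V := Module.Finite.of_finite
  have nd : β.Nondegenerate := ⟨A.nd, fun u hu => A.nd u fun v => by rw [A.skew, hu, neg_zero]⟩
  have hk : ∀ v, v ∈ LinearMap.ker (r γ - 1) ↔ r γ v = v := fun v => by
    rw [LinearMap.mem_ker, LinearMap.sub_apply, sub_eq_zero]; rfl
  have h1 : LinearMap.range (r γ - 1) ≤ β.orthogonal (LinearMap.ker (r γ - 1)) := by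
    rintro _ ⟨u, rfl⟩ v hv
    change β v (r γ u - u) = 0
    rw [map_sub, ← A.inv γ v u, (hk v).1 hv, sub_self]
  have h2 := LinearMap.finrank_range_add_finrank_ker (r γ - 1)
  have h3 := LinearMap.BilinForm.finrank_orthogonal nd (LinearMap.ker (r γ - 1))
  obtain ⟨u, hu⟩ := (Submodule.eq_of_le_of_finrank_le h1 (by omega)).ge fun v hv => hq v ((hk v).1 hv)
  exact ⟨u, hu.symm⟩

section St

variable (h : St z Q p φ r β)
include h

theorem cent_Qy (A : GA r β R s π) (hy : T z y) (hg : ∀ x ∈ Qy z Q y, Commute g x) : g ∈ zpowers y := by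
  obtain ⟨k, -, e, hk⟩ := h.T_cases hy
  have := h.cent A (g := k⁻¹ * g * k) fun a ha => by
    simpa [mul_assoc] using (hg (k * a * k⁻¹) ((hk _).2 (by simpa [mul_assoc] using ha))).map (MulAut.conj k⁻¹)
  rw [e]
  simpa [mul_assoc] using conj_zp k this

/-- A Sylow subgroup of `N(P)` centralizes `a` and no other member of `Ω`. -/
theorem syl (A : GA r β R s π) (hP : Mx z P) (hab : Pair z a b) (ha : Om z P a) (hb : Om z P b) :
    ∃ S : Sylow 3 (normalizer (P : Set G)), (∀ x ∈ S, Commute (x : G) a) ∧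
      ∀ y, Om z P y → (∀ x ∈ S, Commute (x : G) y) → y ∈ zpowers a := by
  have h1 : IsPGroup 3 (Qy z Q a) := fun x => ⟨1, Subtype.ext (h.Qy_exp ha.1 x.2)⟩
  have h2 : IsPGroup 3 ↥(Qy z Q a ⊔ P) := h1.to_sup_of_normal_left' hP.pg fun x hx =>
    mem_normalizer_fintype fun w hw =>
      h.Qy_nrm ha.1 (by rw [(ha.2 x hx).eq, mul_inv_cancel_right]; exact mem_zpowers a) hw
  have h3 : Qy z Q a ⊔ P ≤ centralizer {a} :=
    sup_le (fun x hx => mem_centralizer_singleton_iff.2 (h.Qy_comm ha.1 hx))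
      fun x hx => mem_centralizer_singleton_iff.2 (ha.2 x hx)
  have h4 : P < Qy z Q a ⊔ P := lt_of_le_of_ne le_sup_right fun e => hab.ne
    (cent_Qy h A ha.1 fun x hx => (hb.2 x (e.ge (mem_sup_left hx))).symm)
  have h5 := CL.Grp.lt_inf_normalizer_pGroup h2 h4
  have key : ∀ P1 : Subgroup G, IsPGroup 3 P1 → (Qy z Q a ⊔ P) ⊓ normalizer (P : Set G) ≤ P1 →
      P1 ≤ centralizer {a} → ∀ y, Om z P y → (∀ x ∈ P1, Commute x y) → y ∈ zpowers a :=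
    fun P1 k1 k2 k3 y hy k4 => by
      by_contra k5
      exact (h5.trans_le k2).ne (eq_of_le_of_card_ge (h5.le.trans k2)
        (hP.max a y ⟨ha.1, hy.1, (ha.2 y (h.om_mem' hP hab ha hb hy)).symm, k5⟩ P1 k1 fun x hx =>
          ⟨mem_centralizer_singleton_iff.1 (k3 hx), k4 x hx⟩))
  obtain ⟨S, hS⟩ := ((h2.to_inf_left (K := normalizer (P : Set G))).comap_subtype
    (K := normalizer (P : Set G))).exists_le_sylow
  let S' : Subgroup G := (S : Subgroup _).map (normalizer (P : Set G)).subtype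
  have k1 : IsPGroup 3 S' := S.isPGroup'.map _
  have k2 : (Qy z Q a ⊔ P) ⊓ normalizer (P : Set G) ≤ S' := fun x hx => ⟨⟨x, hx.2⟩, hS hx, rfl⟩
  have k3 : S' ≤ centralizer {a} := by
    by_contra k4
    obtain ⟨n, ⟨n1, n2⟩, n3⟩ := SetLike.exists_of_lt (CL.Grp.lt_inf_normalizer_pGroup k1
      (inf_lt_left.2 k4 : S' ⊓ centralizer {a} < S'))
    have n4 := key (S' ⊓ centralizer {a}) k1.to_inf_left (le_inf k2 (inf_le_left.trans h3)) inf_le_right _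
      (om_conj ha (map_subtype_le _ n1)) fun x hx => by
        have : Commute (n⁻¹ * x * n) a := mem_centralizer_singleton_iff.1 ((mem_normalizer_iff''.1 n2 x).1 hx).2
        simpa [mul_assoc] using this.map (MulAut.conj n)
    refine n3 ⟨n1, ?_⟩
    rcases (zp3 (h.T3 ha.1)).1 n4 with e | e | e
    · exact absurd e (h.T1 (ha.1.conj n))
    · exact mem_centralizer_singleton_iff.2 (mul_inv_eq_iff_eq_mul.1 e)
    · have n5 : n ^ 2 ∈ centralizer {a} := mem_centralizer_singleton_iff.2 (mul_inv_eq_iff_eq_mul.1 (by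
        rw [sq, show n * n * a * (n * n)⁻¹ = n * (n * a * n⁻¹) * n⁻¹ by group, e, ← conj_inv, e, inv_inv]))
      obtain ⟨j, hj⟩ := k1 ⟨n, n1⟩
      obtain ⟨m, hm⟩ : Odd (3 ^ j) := Odd.pow (by decide)
      have n6 : (n ^ 2) ^ m * n = 1 := by rw [← pow_mul, ← pow_succ, ← hm]; exact congrArg Subtype.val hj
      rw [eq_inv_of_mul_eq_one_right n6]
      exact (centralizer {a}).inv_mem (pow_mem n5 m)
  exact ⟨S, fun x hx => mem_centralizer_singleton_iff.1 (k3 ⟨x, hx, rfl⟩), fun y hy k4 =>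
    key S' k1 k2 k3 y hy (by rintro _ ⟨x, hx, rfl⟩; exact k4 x hx)⟩

theorem t2_inv (ha : T z a) (h2 : T2 z Q a⁻¹ b) : T2 z Q a b := by
  obtain ⟨e, h3, h4⟩ := h2
  rw [Qy_inv] at h3
  refine ⟨e⁻¹, inv_mem h3, ?_⟩
  calc e⁻¹ * b * e⁻¹⁻¹ = e⁻¹ * (b * a⁻¹) * (a * e) := by group
    _ = b * a := by rw [← h4, ← (h.Qy_comm ha h3).eq]; group

/-- Two lifts inverted by `σ` are equal. -/
theorem uniq_inv (σz : Commute σ z) {e' : G} (he : e ∈ Q) (he' : e' ∈ Q) (h1 : σ * e * σ⁻¹ = e⁻¹)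
    (h2 : σ * e' * σ⁻¹ = e'⁻¹) (h3 : φ e' = φ e) : e' = e := by
  have h4 := (h.φ_eq he' he).1 h3
  have h5 := h.zc h4 σz
  have h6 := h.zc h4 (h.le e he)
  have h7 := h.exp _ (h.Z_le h4)
  obtain ⟨w, rfl⟩ : ∃ w, e' = w * e := ⟨e' * e⁻¹, by group⟩
  rw [mul_inv_cancel_right] at h5 h6 h7
  rw [← conj_mul, h1, h5.eq, mul_inv_cancel_right, ← h6.eq, mul_inv_rev, mul_left_inj] at h2
  rw [pow_succ, sq, mul_assoc] at h7
  nth_rw 2 [h2] at h7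
  rw [inv_mul_cancel, mul_one] at h7
  rw [h7, one_mul]

end St

/-- A pair `z, b` of type I. -/
structure I1 (z : G) (Q P : Subgroup G) (b : G) : Prop where
  mx : Mx z P
  pr : Pair z z b
  oz : Om z P z
  ob : Om z P b
  nt : ¬ T2 z Q z b

theorem red (h : St z Q p φ r β) (hP : Mx z P) (hab : Pair z a b) (ha : Om z P a) (hb : Om z P b)
    (hn : ¬ T2 z Q a b) : ∃ g, I1 z Q (cjg g P) (g * b * g⁻¹) ∧ (g * a * g⁻¹ = z ∨ g * a * g⁻¹ = z⁻¹) := by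
  obtain ⟨g, e, -⟩ := h.T_cases ha.1
  have h1 := hab.conj g⁻¹
  have h2 := ha.conj g⁻¹
  have h3 : ¬ T2 z Q (g⁻¹ * a * g⁻¹⁻¹) (g⁻¹ * b * g⁻¹⁻¹) := fun h3 => hn (by simpa [mul_assoc] using h3.conj g)
  refine ⟨g⁻¹, ?_⟩
  rcases e with e | e
  · have e' : g⁻¹ * a * g⁻¹⁻¹ = z := by rw [e]; group
    rw [e'] at h1 h2 h3
    exact ⟨⟨hP.conj _, h1, h2, hb.conj _, h3⟩, .inl e'⟩
  · have e' : g⁻¹ * a * g⁻¹⁻¹ = z⁻¹ := by rw [e]; group
    rw [e'] at h1 h2 h3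
    exact ⟨⟨hP.conj _, by simpa using h1.inv_left, by simpa using h2.inv, hb.conj _,
      fun h4 => h3 (t2_inv h T.refl.inv (by simpa using h4))⟩, .inr e'⟩

section I

variable (h : St z Q p φ r β) (A : GA r β R s π) (B : GF r β s Good) (W : WC z Q) (I : I1 z Q P b)

include I in
theorem bz : Commute b z := I.pr.cm.symm

include h I

theorem bP : b ∈ P := h.om_mem' I.mx I.pr I.oz I.ob I.ob

theorem a0 (he : e ∈ Q) (hb : Commute e b) : e ∈ P :=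
  I.mx.le I.pr I.oz I.ob (A := Q ⊓ centralizer {b}) h.isPGroup.to_inf_left
    (fun x hx w hw => have := mem_centralizer_singleton_iff.2 (I.ob.2 x hx).eq
      mem_inf.2 ⟨h.conj_mem (I.oz.2 x hx) hw.1, mul_mem (mul_mem this (mem_inf.1 hw).2) (inv_mem this)⟩)
    (fun w hw => ⟨h.le w hw.1, mem_centralizer_singleton_iff.1 hw.2⟩) ⟨he, mem_centralizer_singleton_iff.2 hb⟩

theorem fix_of (he : e ∈ Q) (hb : Commute e b) : r (p b) (φ e) = φ e := by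
  rw [← h.act b (bz I) e he, ← hb.eq, mul_inv_cancel_right]

theorem star (he : e ∈ Q) (hf : r (p b) (φ e) = φ e) : Commute e b := by
  have h1 := (h.φ_eq (h.conj_mem (bz I) he) he).1 ((h.act b (bz I) e he).trans hf)
  have h2 : e ∈ Qy z Q z := h.Qy_z.symm ▸ he
  have h3 : e * b * e⁻¹ = (b * e * b⁻¹ * e⁻¹)⁻¹ * b := by group
  rcases (zp3 h.z3).1 h1 with e1 | e1 | e1 <;> rw [e1] at h3
  · exact mul_inv_eq_iff_eq_mul.1 (by simpa using h3)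
  · exact absurd (t2_inv h T.refl ⟨e, Qy_inv.ge h2, h3.trans (bz I).inv_right.eq.symm⟩) I.nt
  · exact absurd ⟨e, h2, h3.trans (by rw [inv_inv, (bz I).eq])⟩ I.nt

include W

theorem bQ : b ∉ Q := fun hb => I.pr.ne (W b hb I.pr.tb)

theorem zp_b (hk : k ∈ zpowers b) (hQ : k ∈ Q) : k = 1 := by
  by_contra h1
  exact bQ h W I (zpowers_le.2 hQ (h.zp_symm I.pr.tb hk h1))

theorem z_Qy (hw : w ∈ zpowers z) (hb : w ∈ Qy z Q b) : w = 1 := by
  by_contra h1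
  exact h1 (zp_b h W I (h.wc W I.pr.tb (h.T_of_zp T.refl hw h1) hb) (h.Z_le hw))

theorem ce : Ce (h.im P) (p b) where
  pg := h.im_pg I.mx.pg
  mem := (h.mem_im I.oz.2).2 ⟨b, bP h I, rfl⟩
  y3 := by rw [← h.p_pow (bz I), h.T3 I.pr.tb, h.p_one]
  y1 := fun e => bQ h W I ((h.pker b (bz I)).1 e)
  cm := fun γ hγ => by
    obtain ⟨x, hx, rfl⟩ := (h.mem_im I.oz.2).1 hγ
    exact h.p_comm (I.oz.2 x hx) (bz I) (I.ob.2 x hx)

include A B

omit W in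
theorem stepS : ∃ σ, σ * σ = 1 ∧ Commute σ z ∧ p σ = s ∧ Commute σ b := by
  obtain ⟨t, tt, tz, pt⟩ := h.lift2 A.ss
  obtain ⟨c, cz, ct, pc⟩ := h.cover tt tz (γ := p b) (pt ▸ A.sc _)
  have hq := (h.p_eq (bz I) cz).1 pc.symm
  obtain ⟨u, hu⟩ := exists_sub A (p b) (q := φ (b * c⁻¹)) fun v hv => by
    obtain ⟨e, he, rfl, h1⟩ := h.inv_lift tt tz (v := v) (by rw [pt, B.rs]; rfl)
    have h2 : c * e * c⁻¹ = e := uniq_inv h tz he (h.conj_mem cz he) h1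
      (by rw [conj_inv, ← h1, show t * (c * e * c⁻¹) * t⁻¹ = t * c * e * (t * c)⁻¹ by group, ← ct.eq]; group)
      (by rw [h.act c cz e he, pc, hv])
    have h3 : Commute c e := mul_inv_eq_iff_eq_mul.1 h2
    exact (h.comm_iff he hq).1 ((star h I he hv).mul_right h3.symm.inv_right)
  obtain ⟨e, he, rfl⟩ := h.onto u
  have h1 := h.conj_mem cz (inv_mem he)
  have h2 : e * (b * c⁻¹) * (c * e⁻¹ * c⁻¹) ∈ zpowers z := (h.zero _ (mul_mem (mul_mem he hq) h1)).1 (by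
    rw [h.mul _ (mul_mem he hq) _ h1, h.mul _ he _ hq, h.act c cz _ (inv_mem he), h.φ_inv he, pc, hu, map_neg]; abel)
  have h3 : Commute t (e * b * e⁻¹) := by
    rw [show e * b * e⁻¹ = e * (b * c⁻¹) * (c * e⁻¹ * c⁻¹) * c by group]
    exact (h.zc h2 tz).mul_right ct.symm
  have ez := (h.le e he).inv_left
  refine ⟨e⁻¹ * t * e⁻¹⁻¹, by rw [conj_mul, tt]; group, (ez.mul_left tz).mul_left ez.inv_left, ?_, ?_⟩
  · rw [h.p_conj ez tz, h.p_Q (inv_mem he), pt]; group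
  · simpa [mul_assoc] using h3.map (MulAut.conj e⁻¹)

theorem stepH (σσ : σ * σ = 1) (σz : Commute σ z) (pσ : p σ = s) (σb : Commute σ b) :
    ∃ k ∈ Q, σ * k * σ⁻¹ = k⁻¹ ∧ Commute k b ∧ k ∉ Qy z Q b ∧ Om z P (b⁻¹ * k) ∧ Pair z b (b⁻¹ * k) ∧
      ¬ T2 z Q b (b⁻¹ * k) := by
  obtain ⟨v, v1, v2, v3⟩ := B.b3 _ _ (ce h W I)
  obtain ⟨e, he, rfl, h1⟩ := h.inv_lift σσ σz (v := v) (by rw [pσ, B.rs]; rfl)
  have he' := h.conj_mem (bz I) he
  have f1 := h.act b (bz I) e he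
  have h2 : σ * (b * e * b⁻¹) * σ⁻¹ = (b * e * b⁻¹)⁻¹ := by
    rw [conj_inv, ← h1, show σ * (b * e * b⁻¹) * σ⁻¹ = σ * b * e * (σ * b)⁻¹ by group, σb.eq]; group
  have h3 : Commute e (b * e * b⁻¹) := (h.comm_iff he he').2 (f1 ▸ v3)
  have hk := mul_mem he' (inv_mem he)
  have f2 : φ (b * e * b⁻¹ * e⁻¹) = r (p b) (φ e) - φ e := by
    rw [h.mul _ he' _ (inv_mem he), f1, h.φ_inv he, sub_eq_add_neg]
  have h4 : σ * (b * e * b⁻¹ * e⁻¹) * σ⁻¹ = (b * e * b⁻¹ * e⁻¹)⁻¹ := by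
    rw [← conj_mul, h2, ← conj_inv (a := e) (b := σ), h1, ← mul_inv_rev, h3.inv_left.eq]
  have h5 : b⁻¹ * (b * e * b⁻¹ * e⁻¹) = e * b⁻¹ * e⁻¹ := by group
  have h6 : T z (b⁻¹ * (b * e * b⁻¹ * e⁻¹)) := h5 ▸ I.pr.tb.inv.conj e
  generalize b * e * b⁻¹ * e⁻¹ = k at hk f2 h4 h6
  have kz : k ∉ zpowers z := fun h7 => v1 (sub_eq_zero.1 (f2 ▸ h.φ_Z h7))
  have kP : ∀ x ∈ P, Commute x k := fun x hx => by
    have xz := I.oz.2 x hx
    have xb := I.ob.2 x hx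
    have g1 := h.conj_mem xz hk
    have g2 : φ (x * k * x⁻¹) = φ k := by rw [h.act x xz k hk, f2, v2 _ ((h.mem_im I.oz.2).2 ⟨x, hx, rfl⟩)]
    have g3 : σ * x * σ⁻¹ * x⁻¹ ∈ Q := (h.p_eq ((σz.mul_left xz).mul_left σz.inv_left) xz).1 (by
      rw [h.p_conj σz xz, pσ, ← (A.sc _).eq, mul_inv_cancel_right])
    have g4 := fix_of h I g3 (((σb.mul_left xb).mul_left σb.inv_left).mul_left xb.inv_left)
    have g5 : Commute (σ * x * σ⁻¹ * x⁻¹) (x * k * x⁻¹) := (h.comm_iff g3 g1).2 (by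
      rw [g2, f2, map_sub, ← A.inv (p b) _ (φ e), g4, sub_self])
    refine mul_inv_eq_iff_eq_mul.1 (uniq_inv h σz hk g1 h4 ?_ g2)
    calc σ * (x * k * x⁻¹) * σ⁻¹
        = σ * x * σ⁻¹ * x⁻¹ * (x * (σ * k * σ⁻¹) * x⁻¹) * (σ * x * σ⁻¹ * x⁻¹)⁻¹ := by group
      _ = _ := by rw [h4, ← conj_inv, g5.inv_right.eq, mul_inv_cancel_right]
  have kb := (kP b (bP h I)).symm
  have h7 : Pair z b (b⁻¹ * k) := ⟨I.pr.tb, h6, (Commute.refl b).inv_right.mul_right kb.symm, fun h7 =>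
    kz (zp_b h W I (((zpowers b).mul_mem_cancel_left (inv_mem (mem_zpowers b))).1 h7) hk ▸ one_mem _)⟩
  refine ⟨k, hk, h4, kb, fun h8 => h7.ne (h.wc W I.pr.tb h6 (mul_mem (inv_mem (h.self_Qy I.pr.tb)) h8)),
    ⟨h6, fun x hx => (I.ob.2 x hx).inv_right.mul_right (kP x hx)⟩, h7, fun ⟨f, _, h8⟩ => kz (W k hk ?_)⟩
  rw [mul_assoc b⁻¹ k b, kb.eq, inv_mul_cancel_left] at h8
  exact h8 ▸ h6.conj f

theorem stepR (hT : ∃ n, (∀ x, x ∈ P ↔ n * x * n⁻¹ ∈ P) ∧ n * z * n⁻¹ ∈ zpowers b)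
    (hc : IsConj (p b) (p b)⁻¹) : False := by
  obtain ⟨n, n1, n2⟩ := hT
  have n3 : ∀ x, x ∈ Qy z Q b ↔ n⁻¹ * x * n ∈ Q := fun x => by
    rw [← h.mem_Qy_conj]
    rcases (zp3 (h.T3 I.pr.tb)).1 n2 with e | e | e
    · exact absurd e (h.T1 (T.refl.conj n))
    · rw [e]
    · rw [e, Qy_inv]
  have n4 : ∀ x, x ∈ P ↔ n⁻¹ * x * n ∈ P := fun x => by rw [n1 (n⁻¹ * x * n)]; simp [mul_assoc]
  rcases B.b4 _ _ (ce h W I) hc with ⟨h1, u, v, hu, hv, h2⟩ | ⟨h1, h2⟩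
  · obtain ⟨u, uQ, rfl⟩ := h.onto u
    obtain ⟨v, vQ, rfl⟩ := h.onto v
    have uP := (n4 u).1 (a0 h I uQ (star h I uQ hu))
    have vP := (n4 v).1 (a0 h I vQ (star h I vQ hv))
    refine h2 ((h.comm_iff uQ vQ).1 (commutatorElement_eq_one_iff_commute.1 (z_Qy h W I (h.com_mem uQ vQ) ?_)))
    have uz := I.oz.2 _ uP
    have vz := I.oz.2 _ vP
    have h3 := (h.p_eq (uz.mul_left vz) (vz.mul_left uz)).1 (by
      rw [h.pmul _ _ uz vz, h.pmul _ _ vz uz]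
      exact h1 _ ((h.mem_im I.oz.2).2 ⟨_, uP, rfl⟩) _ ((h.mem_im I.oz.2).2 ⟨_, vP, rfl⟩))
    rw [n3]
    simpa [commutatorElement_def, mul_assoc] using h3
  have c0 : cjg n (P ⊓ Q) = P ⊓ Qy z Q b := by
    ext x; rw [mem_cjg, mem_inf, mem_inf, ← n3, ← n4]
  have c1 := card_cjg (P := P ⊓ Q) n
  have c2 := h.card_φ (A := P ⊓ Q) inf_le_right
  have c3 : φ '' (P ⊓ Q : Subgroup G) = {v | r (p b) v = v} := by
    ext v
    constructor
    · rintro ⟨e, he, rfl⟩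
      exact fix_of h I he.2 (I.ob.2 e he.1)
    · intro hv
      obtain ⟨e, he, rfl⟩ := h.onto v
      exact ⟨e, ⟨a0 h I he (star h I he hv), he⟩, rfl⟩
  rw [inf_eq_right.2 (zpowers_le.2 (mem_inf.2 ⟨h.om_mem' I.mx I.pr I.oz I.ob I.oz, h.zQ⟩)), h.card_Z] at c2
  have hAb : ∀ x ∈ P ⊓ Qy z Q b, Commute x z := fun x hx => I.oz.2 x hx.1
  have c4 := h.card_im hAb
  have c5 := h.card_φ (A := P ⊓ Qy z Q b ⊓ Q) inf_le_right
  rw [(eq_bot_iff.2 fun w hw => z_Qy h W I hw.2 hw.1.1.2 : P ⊓ Qy z Q b ⊓ Q ⊓ zpowers z = ⊥), card_bot,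
    mul_one] at c5
  rw [c0, c4, c5, c2] at c1
  rcases h2 (h.im (P ⊓ Qy z Q b)) (fun γ hγ => let ⟨x, hx, e⟩ := (h.mem_im hAb).1 hγ
      (h.mem_im I.oz.2).2 ⟨x, hx.1, e⟩) ((h.mem_im hAb).2 ⟨b, ⟨bP h I, h.self_Qy I.pr.tb⟩, rfl⟩) with h3 | h3
  · rw [h3, Nat.card_zpowers, orderOf_eq_prime (ce h W I).y3 (ce h W I).y1] at c1
    have c6 : φ '' (P ⊓ Qy z Q b ⊓ Q : Subgroup G) = φ '' (P ⊓ Q : Subgroup G) :=
      Set.eq_of_subset_of_ncard_le (Set.image_mono fun x hx => ⟨hx.1.1, hx.2⟩) (by omega)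
    obtain ⟨σ, σσ, σz, pσ, σb⟩ := stepS h A B I
    obtain ⟨k, hk, k1, k2, k3, -⟩ := stepH h A B W I σσ σz pσ σb
    obtain ⟨i, ⟨⟨-, i1⟩, i2⟩, i3⟩ := c6.ge ⟨k, ⟨a0 h I hk k2, hk⟩, rfl⟩
    have i4 := h.Qy_nrm I.pr.tb (g := σ) (by rw [σb.eq, mul_inv_cancel_right]; exact mem_zpowers b) i1
    have i5 := h.conj_mem σz i2
    have i6 := z_Qy h W I ((h.φ_eq i5 (inv_mem i2)).1 (by rw [h.act σ σz i i2, pσ, B.rs, h.φ_inv i2]; rfl))
      (mul_mem i4 (inv_mem (inv_mem i1)))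
    exact k3 (uniq_inv h σz hk i2 k1 (mul_inv_eq_one.1 i6) i3 ▸ i1)
  · have c6 : (φ '' (P ⊓ Qy z Q b ⊓ Q : Subgroup G)).ncard ≤
        {v | ∀ d ∈ h.im (P ⊓ Qy z Q b), r d v = v}.ncard := by
      refine Set.ncard_le_ncard ?_
      rintro _ ⟨i, hi, rfl⟩ γ hγ
      obtain ⟨x, hx, rfl⟩ := (h.mem_im hAb).1 hγ
      have g1 := zp_b h W I (h.Qy_com I.pr.tb hx.2 hi.1.2) (mul_mem (h.conj_mem (hAb x hx) hi.2) (inv_mem hi.2))
      rw [← h.act x (hAb x hx) i hi.2, mul_inv_eq_one.1 g1]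
    have c7 := Nat.mul_le_mul_left (Nat.card (h.im (P ⊓ Qy z Q b))) c6
    rw [c1, c3, mul_comm (Nat.card _)] at c7
    omega

end I

end T1

open T1

theorem trThm : TrThm.{u} := by
  intro G Γ V L _ _ _ _ _ _ _ _ z Q p φ r β R s π h A P a b hP hab ha hb
  obtain ⟨S, h1, -⟩ := syl h A hP hab ha hb
  obtain ⟨S', -, h2⟩ := syl h A hP (h.pair_symm hab) hb ha
  obtain ⟨n, rfl⟩ := MulAction.exists_smul_eq (normalizer (P : Set G)) S S'
  refine ⟨n, mem_normalizer_iff.1 n.2, h2 _ (om_conj ha n.2) ?_⟩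
  rintro _ ⟨x, hx, rfl⟩
  exact (h1 x hx).map (MulAut.conj (n : G))

theorem t1Thm (hT : TrThm.{u}) : T1Thm.{u} := by
  intro G Γ V L _ _ _ _ _ _ _ _ z Q p φ r β R s π h A Good B W P a b hP hab ha hb
  by_contra hn
  obtain ⟨g, I, -⟩ := red h hP hab ha hb hn
  generalize cjg g P = P, g * b * g⁻¹ = b at I
  obtain ⟨σ, σσ, σz, pσ, σb⟩ := stepS h A B I
  obtain ⟨k, -, k1, k2, -, k3, k4, k5⟩ := stepH h A B W I σσ σz pσ σb
  obtain ⟨g, I', e⟩ := red h I.mx k4 I.ob k3 k5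
  refine stepR h A B W I' (hT G Γ V L z Q p φ r β R s π h A _ _ _ I'.mx I'.pr I'.oz I'.ob) ?_
  have h1 : Commute (g * σ * g⁻¹) z := by
    have : Commute (g * σ * g⁻¹) (g * b * g⁻¹) := σb.map (MulAut.conj g)
    rcases e with e | e <;> rw [e] at this
    exacts [this, by simpa using this]
  have h2 : σ * (b⁻¹ * k) * σ⁻¹ * (b⁻¹ * k) ∈ Qy z Q b := by
    rw [← conj_mul, k1, σb.inv_right.eq, mul_inv_cancel_right, mul_assoc, ← k2.inv_right.eq, inv_mul_cancel_left]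
    exact mul_mem (inv_mem (h.self_Qy I.pr.tb)) (inv_mem (h.self_Qy I.pr.tb))
  have h3 := Qy_conj g h2
  have h4 : Qy z Q (g * b * g⁻¹) = Q := by
    rcases e with e | e <;> rw [e]
    exacts [h.Qy_z, Qy_inv.trans h.Qy_z]
  have h5 := bz I'
  rw [h4, ← conj_mul, show g * (σ * (b⁻¹ * k) * σ⁻¹) * g⁻¹ =
    g * σ * g⁻¹ * (g * (b⁻¹ * k) * g⁻¹) * (g * σ * g⁻¹)⁻¹ by group] at h3
  have h6 := h.p_Q h3
  rw [h.pmul _ _ ((h1.mul_left h5).mul_left h1.inv_left) h5, h.p_conj h1 h5] at h6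
  exact isConj_iff.2 ⟨_, eq_inv_of_mul_eq_one_left h6⟩

end CL.F3C
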