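/-
Groups with a `3`-centralizer of shape `3^(1+8).2^(1+6).L`: not all pairs have type II.
-/
import Cfsg.Agent.F3C.Bas

set_option autoImplicit false
set_option linter.unusedSectionVars false

namespace CL.F3C

open Subgroup
open scoped commutatorElement

universe u

namespace T2J

variable {G Γ V L : Type*} [Group G] [Group Γ] [AddCommGroup V] [Module F V] [Group L]
  {z : G} {Q : Subgroup G} {p : G → Γ} {φ : G → V} {r : Γ →* Module.End F V} {β : LinearMap.BilinForm F V}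
  {a b b0 c e q σ x : G} {P : Subgroup G}

theorem eq_one_of_inv {H : Type*} [Group H] {u : H} (h3 : u ^ 3 = 1) (h2 : u = u⁻¹) : u = 1 := by
  have : u * u = 1 := by nth_rewrite 1 [h2]; exact inv_mul_cancel u
  rwa [pow_succ, sq, this, one_mul] at h3

theorem comm_conj (ea : Commute e a) (ec : e * c * e⁻¹ = c * a) (xa : Commute x a) (xc : Commute x c) :
    Commute (e * x * e⁻¹) a ∧ Commute (e * x * e⁻¹) c := by
  have h1 : Commute (e * x * e⁻¹) a := (ea.mul_left xa).mul_left ea.inv_left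
  have h2 : Commute (e * x * e⁻¹) (e * c * e⁻¹) := xc.map (MulAut.conj e)
  rw [ec] at h2
  exact ⟨h1, by simpa using h2.mul_right h1.inv_right⟩

/-- the decomposition `b = q b₀` -/
structure Dec (z : G) (Q : Subgroup G) (p : G → Γ) (r : Γ →* Module.End F V) (b σ b0 q : G) : Prop where
  ss : σ * σ = 1
  sz : Commute σ z
  rs : r (p σ) = -1
  sc : ∀ g, Commute g (p σ)
  bz : Commute b z
  b0z : Commute b0 z
  b0s : Commute b0 σ
  pb : p b0 = p b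
  qQ : q ∈ Q
  eq : b = q * b0

variable (h : St z Q p φ r β) (d : Dec z Q p r b σ b0 q)
include h

theorem fix_of (bz : Commute b z) (ha : a ∈ Q) (hc : ⁅a, b⁆ ∈ zpowers z) : r (p b) (φ a) = φ a := by
  rw [← h.act b bz a ha, h.φ_eq (h.conj_mem bz ha) ha]
  simpa [commutatorElement_def, mul_assoc] using inv_mem hc

include d

theorem comm_b0 (ha : a ∈ Q) (hf : r (p b) (φ a) = φ a) : Commute a b0 := by
  obtain ⟨a', ha', e1, e2⟩ := h.inv_lift d.ss d.sz (v := φ a) (by rw [d.rs]; rfl)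
  have h1 : b0 * a' * b0⁻¹ * a'⁻¹ ∈ zpowers z :=
    (h.φ_eq (h.conj_mem d.b0z ha') ha').1 (by rw [h.act b0 d.b0z a' ha', d.pb, e1, hf])
  have h2 := h.zc h1 d.sz
  have h3 := h.zc h1 (h.le a' ha')
  have h4 := h.exp _ (h.Z_le h1)
  generalize hw : b0 * a' * b0⁻¹ * a'⁻¹ = w at h1 h2 h3 h4
  have e3 : b0 * a' * b0⁻¹ = w * a' := by rw [← hw]; group
  have e4 : w * a'⁻¹ = (w * a')⁻¹ := calc
    w * a'⁻¹ = (σ * w * σ⁻¹) * (σ * a' * σ⁻¹) := by rw [e2, h2.eq, mul_inv_cancel_right]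
    _ = σ * (b0 * a' * b0⁻¹) * σ⁻¹ := by rw [conj_mul, e3]
    _ = (σ * b0) * a' * (σ * b0)⁻¹ := by group
    _ = b0 * (σ * a' * σ⁻¹) * b0⁻¹ := by rw [← d.b0s.eq]; group
    _ = (w * a')⁻¹ := by rw [e2, ← e3]; group
  rw [← h3.eq, mul_inv_rev, mul_left_inj] at e4
  rw [eq_one_of_inv h4 e4, one_mul] at e3
  have h5 : Commute b0 a' := mul_inv_eq_iff_eq_mul.1 e3
  have h6 := h.zc ((h.φ_eq ha ha').1 e1.symm) d.b0z
  simpa using (h6.mul_right h5).symm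

theorem com_eq (ha : a ∈ Q) (hf : r (p b) (φ a) = φ a) : ⁅a, b⁆ = z ^ (β (φ a) (φ q)).val := by
  rw [← h.com a ha q d.qQ]
  have := (comm_b0 h d ha hf).eq
  calc ⁅a, b⁆ = a * q * (b0 * a⁻¹) * b0⁻¹ * q⁻¹ := by rw [d.eq, commutatorElement_def]; group
    _ = ⁅a, q⁆ := by rw [← (comm_b0 h d ha hf).inv_left.eq, commutatorElement_def]; group

theorem comm_iff' (ha : a ∈ Q) (hf : r (p b) (φ a) = φ a) : Commute a b ↔ β (φ a) (φ q) = 0 := by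
  rw [← commutatorElement_eq_one_iff_commute, com_eq h d ha hf, ← orderOf_dvd_iff_pow_eq_one, h.ord,
    ← ZMod.natCast_eq_zero_iff, ZMod.natCast_zmod_val]

theorem stab (he : e ∈ Q) (eb : e * b * e⁻¹ = b * z) {g : Γ} (hg : Commute g (p b)) {u : V}
    (hu : r g (φ q) - φ q = r (p b) u - u) : ∃ m, Commute m z ∧ Commute m b ∧ p m = g := by
  obtain ⟨m, mz, ms, rfl⟩ := h.cover d.ss d.sz (d.sc g)
  obtain ⟨f, hf, rfl⟩ := h.onto u
  have c1 : Commute (m * b0 * m⁻¹ * b0⁻¹) z := ((mz.mul_left d.b0z).mul_left mz.inv_left).mul_left d.b0z.inv_left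
  have c2 : m * b0 * m⁻¹ * b0⁻¹ ∈ Q :=
    (h.p_eq ((mz.mul_left d.b0z).mul_left mz.inv_left) d.b0z).1 (by
      rw [h.p_conj mz d.b0z, d.pb, hg.eq, mul_inv_cancel_right])
  have c3 := h.mem_Z_of_comm d.sz d.rs c2
    (((ms.mul_left d.b0s).mul_left ms.inv_left).mul_left d.b0s.inv_left).symm
  have k1 := h.conj_mem mz d.qQ
  have k2 := h.conj_mem d.b0z hf
  have k3 := (h.φ_eq (mul_mem k1 c2) (mul_mem (mul_mem (inv_mem hf) d.qQ) k2)).1 (by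
    rw [h.mul _ k1 _ c2, h.φ_Z c3, h.act m mz q d.qQ, h.mul _ (mul_mem (inv_mem hf) d.qQ) _ k2,
      h.mul _ (inv_mem hf) _ d.qQ, h.φ_inv hf, h.act b0 d.b0z f hf, d.pb, add_zero, sub_eq_iff_eq_add.1 hu]
    abel)
  have k4 := h.zc k3 (h.le f hf)
  generalize hw : m * q * m⁻¹ * (m * b0 * m⁻¹ * b0⁻¹) * (f⁻¹ * q * (b0 * f * b0⁻¹))⁻¹ = w at k3 k4
  have k5 : f * m * b * (f * m)⁻¹ = w * b := calc
    f * m * b * (f * m)⁻¹ = f * w * f⁻¹ * b := by rw [← hw, d.eq]; group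
    _ = w * b := by rw [k4.eq, mul_inv_cancel_right]
  obtain ⟨e', he', k6⟩ : ∃ e' ∈ Q, e' * b * e'⁻¹ = w * b := by
    rcases (zp3 h.z3).1 k3 with rfl | rfl | rfl
    · exact ⟨1, one_mem _, by simp⟩
    · exact ⟨e, he, by rw [eb, d.bz.eq]⟩
    · refine ⟨e⁻¹, inv_mem he, ?_⟩
      calc e⁻¹ * b * e⁻¹⁻¹ = e⁻¹ * (b * z) * e * (e⁻¹ * z⁻¹ * e) := by group
        _ = z⁻¹ * b := by rw [← eb, (h.le e he).inv_inv.eq, ← d.bz.inv_right.eq]; group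
  refine ⟨e'⁻¹ * (f * m), (h.le e' he').inv_left.mul_left ((h.le f hf).mul_left mz), mul_inv_eq_iff_eq_mul.1 ?_, ?_⟩
  · calc e'⁻¹ * (f * m) * b * (e'⁻¹ * (f * m))⁻¹ = e'⁻¹ * (f * m * b * (f * m)⁻¹) * e' := by group
      _ = b := by rw [k5, ← k6]; group
  · rw [h.pmul _ _ (h.le e' he').inv_left ((h.le f hf).mul_left mz), h.pmul _ _ (h.le f hf) mz, h.p_Q hf,
      h.p_Q (inv_mem he'), one_mul, one_mul]

theorem cube (b3 : b ^ 3 = 1) : r (p b) (r (p b) (φ q)) + r (p b) (φ q) + φ q = 0 := by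
  have c1 : b0 ^ 3 ∈ Q := (h.pker _ (d.b0z.pow_left 3)).1 (by rw [h.p_pow d.b0z, d.pb, ← h.p_pow d.bz, b3, h.p_one])
  have c2 := h.mem_Z_of_comm d.sz d.rs c1 (d.b0s.pow_left 3).symm
  have k1 := h.conj_mem d.b0z d.qQ
  have k2 := h.conj_mem d.b0z k1
  have e : q * (b0 * q * b0⁻¹) * (b0 * (b0 * q * b0⁻¹) * b0⁻¹) = (b0 ^ 3)⁻¹ := by
    rw [eq_inv_iff_mul_eq_one, ← b3, d.eq, pow_succ, sq, pow_succ, sq]; group
  have := h.φ_Z (e ▸ inv_mem c2)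
  rw [h.mul _ (mul_mem d.qQ k1) _ k2, h.mul _ d.qQ _ k1, h.act _ d.b0z _ k1, h.act _ d.b0z _ d.qQ, d.pb] at this
  rw [← this]; abel

theorem invar (xz : Commute x z) (xb : Commute x b) {v : V} (hv : r (p b) v = v) :
    β (r (p x) v) (φ q) = β v (φ q) := by
  obtain ⟨a, ha, rfl⟩ := h.onto v
  have k1 := com_eq h d ha hv
  have k2 : ⁅x * a * x⁻¹, b⁆ = ⁅a, b⁆ := calc
    ⁅x * a * x⁻¹, b⁆ = ⁅x * a * x⁻¹, x * b * x⁻¹⁆ := by rw [xb.eq, mul_inv_cancel_right]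
    _ = x * ⁅a, b⁆ * x⁻¹ := by rw [conjugate_commutatorElement]
    _ = ⁅a, b⁆ := by rw [k1, (xz.pow_right _).eq, mul_inv_cancel_right]
  have ha' := h.conj_mem xz ha
  have k3 := com_eq h d ha' (fix_of h d.bz ha' (by rw [k2, k1]; exact pow_mem (mem_zpowers z) _))
  rw [k2, k1, h.act x xz a ha] at k3
  exact ZMod.val_injective 3 (pow_injOn_Iio_orderOf (by rw [h.ord]; exact ZMod.val_lt _)
    (by rw [h.ord]; exact ZMod.val_lt _) k3.symm)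

omit d

variable [Finite G] (hP : Mx z P) (zb : Pair z z b) (oz : Om z P z) (ob : Om z P b)
include hP zb oz ob

theorem Qy_le {y : G} (oy : Om z P y) (hx : x ∈ Qy z Q y) (xz : Commute x z) (xb : Commute x b) : x ∈ P :=
  hP.le zb oz ob (A := Qy z Q y ⊓ (centralizer {z} ⊓ centralizer {b}))
    (fun w => ⟨1, Subtype.ext (h.Qy_exp oy.1 w.2.1)⟩)
    (fun x hx w hw => ⟨h.Qy_nrm oy.1 (by rw [(oy.2 x hx).eq, mul_inv_cancel_right]; exact mem_zpowers y) hw.1, by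
      have : x ∈ centralizer {z} ⊓ centralizer {b} :=
        ⟨mem_centralizer_singleton_iff.2 (oz.2 x hx), mem_centralizer_singleton_iff.2 (ob.2 x hx)⟩
      exact Subgroup.mul_mem _ (Subgroup.mul_mem _ this hw.2) (Subgroup.inv_mem _ this)⟩)
    (fun w hw => ⟨mem_centralizer_singleton_iff.1 hw.2.1, mem_centralizer_singleton_iff.1 hw.2.2⟩)
    ⟨hx, mem_centralizer_singleton_iff.2 xz, mem_centralizer_singleton_iff.2 xb⟩

theorem Q_le (hx : x ∈ Q) (xb : Commute x b) : x ∈ P :=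
  Qy_le h hP zb oz ob oz (h.Qy_z.symm ▸ hx) (h.le x hx) xb

theorem max_le [Finite Γ] (P' : Subgroup Γ) (hle : P' ≤ h.im (centralizer {z} ⊓ centralizer {b}))
    (hp : IsPGroup 3 P') : Nat.card P' ≤ Nat.card (h.im P) := by
  let K : Subgroup G := (P'.comap h.ph).map (centralizer {z}).subtype ⊓ centralizer {b}
  have mK : ∀ m, m ∈ K ↔ Commute m z ∧ Commute m b ∧ p m ∈ P' := fun m =>
    ⟨fun ⟨⟨x, h1, h2⟩, h3⟩ => ⟨h2 ▸ mem_centralizer_singleton_iff.1 x.2, mem_centralizer_singleton_iff.1 h3, h2 ▸ h1⟩,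
      fun ⟨h1, h2, h3⟩ => ⟨⟨⟨m, mem_centralizer_singleton_iff.2 h1⟩, h3, rfl⟩, mem_centralizer_singleton_iff.2 h2⟩⟩
  have kz : ∀ m ∈ K, Commute m z := fun m hm => ((mK m).1 hm).1
  have k1 : IsPGroup 3 K := fun m => by
    obtain ⟨n, hn⟩ := hp ⟨p m, ((mK m).1 m.2).2.2⟩
    have : (m : G) ^ 3 ^ n ∈ Q :=
      (h.pker _ ((kz m m.2).pow_left _)).1 (by rw [h.p_pow (kz m m.2)]; exact congrArg Subtype.val hn)
    exact ⟨n + 1, Subtype.ext (by rw [pow_succ, pow_mul]; exact h.exp _ this)⟩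
  have k2 : h.im K = P' := by
    ext γ
    rw [h.mem_im kz]
    refine ⟨fun ⟨m, hm, e⟩ => e ▸ ((mK m).1 hm).2.2, fun hγ => ?_⟩
    obtain ⟨m, hm, rfl⟩ := (h.mem_im fun x hx => mem_centralizer_singleton_iff.1 (mem_inf.1 hx).1).1 (hle hγ)
    exact ⟨m, (mK m).2 ⟨mem_centralizer_singleton_iff.1 hm.1, mem_centralizer_singleton_iff.1 hm.2, hγ⟩, rfl⟩
  have k3 : K ⊓ Q = P ⊓ Q := by
    ext m
    exact ⟨fun hm => ⟨Q_le h hP zb oz ob hm.2 ((mK m).1 hm.1).2.1, hm.2⟩, fun hm =>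
      ⟨(mK m).2 ⟨oz.2 m hm.1, ob.2 m hm.1, h.p_Q hm.2 ▸ one_mem _⟩, hm.2⟩⟩
  have := hP.max z b zb K k1 fun m hm => ⟨kz m hm, ((mK m).1 hm).2.1⟩
  rw [h.card_im kz, h.card_im oz.2, k2, k3] at this
  exact Nat.le_of_mul_le_mul_right this Nat.card_pos

include d in
theorem star (w : WC z Q) (H : ∀ a b, Pair z a b → Om z P a → Om z P b → T2 z Q a b) {v : V}
    (hv : ∀ x ∈ P, r (p b) (r (p x) v - v) = r (p x) v - v ∧ β (r (p x) v - v) (φ q) = 0) : r (p b) v = v := by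
  obtain ⟨e, he, rfl⟩ := h.onto v
  have bQ : b ∉ Q := fun hb => zb.ne (w b hb zb.tb)
  have k1 : ∀ x ∈ P, e * x * e⁻¹ ∈ P := fun x hx => by
    have hx' := inv_mem hx
    have c1 := h.conj_mem (oz.2 _ hx') he
    have c2 := mul_mem c1 (inv_mem he)
    have c3 : φ (x⁻¹ * e * x⁻¹⁻¹ * e⁻¹) = r (p x⁻¹) (φ e) - φ e := by
      rw [h.mul _ c1 _ (inv_mem he), h.act _ (oz.2 _ hx') _ he, h.φ_inv he, sub_eq_add_neg]
    have c4 := Q_le h hP zb oz ob c2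
      ((comm_iff' h d c2 (by rw [c3]; exact (hv _ hx').1)).2 (by rw [c3]; exact (hv _ hx').2))
    simpa [mul_assoc] using mul_mem hx c4
  have k2 : e ∈ normalizer (P : Set G) := mem_normalizer_fintype k1
  have k3 : Om z P (e * b * e⁻¹) := ⟨zb.tb.conj e, fun x hx => by
    have := (ob.2 _ ((mem_normalizer_iff''.1 k2 x).1 hx)).map (MulAut.conj e)
    simpa [mul_assoc] using this⟩
  have c1 := h.conj_mem d.bz (inv_mem he)
  have k4 : e * b * e⁻¹ * b⁻¹ ∈ Q := by simpa [mul_assoc] using mul_mem he c1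
  refine fix_of h d.bz he ?_
  by_cases hb : e * b * e⁻¹ ∈ zpowers b
  · rcases (zp3 (h.T3 zb.tb)).1 (mul_mem hb (inv_mem (mem_zpowers b))) with k | k | k
    · rw [commutatorElement_def, k]; exact one_mem _
    · exact absurd (k ▸ k4) bQ
    · exact absurd (inv_mem_iff.1 (k ▸ k4)) bQ
  · have pr : Pair z b (e * b * e⁻¹) := ⟨zb.tb, k3.1, k3.2 b (h.om_mem' hP zb oz ob ob), hb⟩
    obtain ⟨e', -, k⟩ := H _ _ pr.inv_left ob.inv k3
    exact w _ k4 (by rw [commutatorElement_def, ← k]; exact k3.1.conj e')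

theorem card_le (hD : {v | r (p b) v = v ∧ β v (φ q) = 0}.ncard ≤ 9) (d : Dec z Q p r b σ b0 q) :
    Nat.card ↥(P ⊓ Q) ≤ 27 := by
  have k1 : φ '' (P ⊓ Q : Subgroup G) ⊆ {v | r (p b) v = v ∧ β v (φ q) = 0} := by
    rintro _ ⟨a, ha, rfl⟩
    have c := ob.2 a ha.1
    have f := fix_of h d.bz ha.2 (by rw [c.commutator_eq]; exact one_mem _)
    exact ⟨f, (comm_iff' h d ha.2 f).1 c⟩
  have k2 : Nat.card ↥(P ⊓ Q ⊓ zpowers z) ≤ 3 := h.card_Z ▸ card_le_of_le inf_le_right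
  have k3 : Finite V := Finite.of_surjective (fun a : Q => φ a) fun v => let ⟨a, ha, e⟩ := h.onto v; ⟨⟨a, ha⟩, e⟩
  rw [h.card_φ inf_le_right]
  exact Nat.mul_le_mul ((Set.ncard_le_ncard k1).trans hD) k2

/-- `g` normalizes `P` and acts trivially modulo `D` -/
def Nn (p : G → Γ) (P : Subgroup G) (D : Subgroup Γ) (g : G) : Prop :=
  ∀ x ∈ P, g * x * g⁻¹ ∈ P ∧ p (g * x * g⁻¹) * (p x)⁻¹ ∈ D

omit h hP zb oz ob [Finite G] in
theorem Nn.mul {D : Subgroup Γ} {g g' : G} (h1 : Nn p P D g) (h2 : Nn p P D g') : Nn p P D (g * g') := fun x hx => by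
  rw [show g * g' * x * (g * g')⁻¹ = g * (g' * x * g'⁻¹) * g⁻¹ by group]
  exact ⟨(h1 _ (h2 x hx).1).1, by simpa [mul_assoc] using mul_mem (h1 _ (h2 x hx).1).2 (h2 x hx).2⟩

theorem nn_of {y : G} (oy : Om z P y) (he : e ∈ Qy z Q y) {D : Subgroup Γ} (hD : ∀ m ∈ P, m ∈ Qy z Q y → p m ∈ D)
    (hc : ∀ x ∈ P, Commute (e * x * e⁻¹) z ∧ Commute (e * x * e⁻¹) b) : Nn p P D e := fun x hx => by
  have k1 : e * x * e⁻¹ * x⁻¹ ∈ Qy z Q y := by
    simpa [mul_assoc] using mul_mem he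
      (h.Qy_nrm oy.1 (g := x) (by rw [(oy.2 x hx).eq, mul_inv_cancel_right]; exact mem_zpowers y) (inv_mem he))
  have k2 := Qy_le h hP zb oz ob oy k1 ((hc x hx).1.mul_left (oz.2 x hx).inv_left)
    ((hc x hx).2.mul_left (ob.2 x hx).inv_left)
  refine ⟨by simpa using mul_mem k2 hx, ?_⟩
  rw [← h.p_inv (oz.2 x hx), ← h.pmul _ _ (hc x hx).1 (oz.2 x hx).inv_left]
  exact hD _ k2 k1

omit hP ob [Finite G] in
theorem fin {D : Subgroup Γ} {g : G} (hg : Nn p P D g) (gz : g * z * g⁻¹ = z⁻¹) (gb : g * b * g⁻¹ = b⁻¹) (bQ : b ∉ Q)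
    (H : ∀ S : Subgroup (Γ × Γ), (∀ γ ∈ h.im P, ∃ d ∈ D, (γ, d * γ) ∈ S) → (p b, p b) ∈ S) : False := by
  have bz := zb.cm.symm
  let f : P →* Γ × Γ := MonoidHom.mk' (fun m => (p m, p (g * m * g⁻¹))) fun m m' => Prod.ext
    (h.pmul _ _ (oz.2 _ m.2) (oz.2 _ m'.2))
    ((congrArg p conj_mul.symm).trans (h.pmul _ _ (oz.2 _ (hg _ m.2).1) (oz.2 _ (hg _ m'.2).1)))
  obtain ⟨m, e⟩ := H f.range fun γ hγ => by
    obtain ⟨m, hm, rfl⟩ := (h.mem_im oz.2).1 hγ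
    exact ⟨_, (hg m hm).2, ⟨m, hm⟩, Prod.ext rfl (by simp [f])⟩
  have e1 : p m = p b := congrArg Prod.fst e
  have e2 : p (g * m * g⁻¹) = p b := congrArg Prod.snd e
  have k1 := h.nrm g (gz ▸ inv_mem (mem_zpowers z)) _ ((h.p_eq (oz.2 _ m.2) bz).1 e1)
  have k2 : p (g * m * g⁻¹) = p b⁻¹ := (h.p_eq (oz.2 _ (hg _ m.2).1) bz.inv_left).2 (by
    rw [← gb]; simpa [mul_assoc] using k1)
  rw [e2, h.p_inv bz] at k2
  exact bQ ((h.pker b bz).1 (eq_one_of_inv (by rw [← h.p_pow bz, h.T3 zb.tb, h.p_one]) k2))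

end T2J

open T2J in
theorem t2Thm (hT : TrThm.{u}) : T2Thm.{u} := by
  intro G Γ V L _ _ _ _ _ _ _ _ z Q p φ r β R s π h A Good gf w P b hP zb oz ob H
  have bz := zb.cm.symm
  have bQ : b ∉ Q := fun hb => zb.ne (w b hb zb.tb)
  have b3 := h.T3 zb.tb
  have bP := h.om_mem' hP zb oz ob ob
  obtain ⟨e0, he0, f0⟩ := H z b zb oz ob
  obtain ⟨e1, he1, f1⟩ := H b z (h.pair_symm zb) ob oz
  have he0' := h.Qy_z ▸ he0
  have e0z := h.le e0 he0'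
  have e1b := h.Qy_comm zb.tb he1
  obtain ⟨σ, ss, sz, ps⟩ := h.lift2 A.ss
  obtain ⟨b0, b0z, b0s, pb⟩ := h.cover ss sz (γ := p b) (ps ▸ A.sc _)
  have d : Dec z Q p r b σ b0 (b * b0⁻¹) :=
    ⟨ss, sz, ps ▸ gf.rs, ps ▸ A.sc, bz, b0z, b0s, pb, (h.p_eq bz b0z).1 pb.symm, by group⟩
  generalize b * b0⁻¹ = q at d
  have mP {γ} := h.mem_im oz.2 (γ := γ)
  have cz : ∀ x ∈ centralizer {z} ⊓ centralizer {b}, Commute x z := fun x hx =>
    mem_centralizer_singleton_iff.1 (mem_inf.1 hx).1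
  have c0 : ⁅e0, b⁆ = z := by rw [commutatorElement_def, f0, bz.eq, mul_inv_cancel_right]
  have c1 := fix_of h bz he0' (c0 ▸ mem_zpowers z)
  obtain ⟨k1, k2, k3⟩ := gf.b5 (h.im P) (h.im (centralizer {z} ⊓ centralizer {b})) (p b) (φ q)
    ⟨h.im_pg hP.pg, mP.2 ⟨b, bP, rfl⟩, by rw [← h.p_pow bz, b3, h.p_one], fun e => bQ ((h.pker b bz).1 e),
      fun γ hγ => by obtain ⟨x, hx, rfl⟩ := mP.1 hγ; exact h.p_comm (oz.2 x hx) bz (ob.2 x hx)⟩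
    (fun γ hγ => by
      obtain ⟨x, hx, rfl⟩ := mP.1 hγ
      exact (h.mem_im cz).2 ⟨x, ⟨mem_centralizer_singleton_iff.2 (oz.2 x hx),
        mem_centralizer_singleton_iff.2 (ob.2 x hx)⟩, rfl⟩)
    (max_le h hP zb oz ob)
    (fun g hg ⟨u, hu⟩ => by
      obtain ⟨m, h1, h2, rfl⟩ := stab h d he0' f0 hg hu
      exact (h.mem_im cz).2 ⟨m, ⟨mem_centralizer_singleton_iff.2 h1, mem_centralizer_singleton_iff.2 h2⟩, rfl⟩)
    (cube h d b3)
    (fun γ hγ v hv => by obtain ⟨x, hx, rfl⟩ := mP.1 hγ; exact invar h d (oz.2 x hx) (ob.2 x hx) hv)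
    (fun v hv => star h d hP zb oz ob w H fun x hx => hv _ (mP.2 ⟨x, hx, rfl⟩))
    ⟨_, c1, fun e => h.z1 (c0 ▸ ((comm_iff' h d he0' c1).2 e).commutator_eq)⟩
  obtain ⟨n, n1, n2⟩ := hT G Γ V L z Q p φ r β R s π h A P z b hP zb oz ob
  have q1 : Qy z Q b = Qy z Q (n * z * n⁻¹) := by
    rcases (zp3 b3).1 n2 with e | e | e
    · exact absurd e (h.T1 (T.refl.conj n))
    · rw [e]
    · rw [e, Qy_inv]
  have q2 : P ⊓ Qy z Q b = cjg n (P ⊓ Q) := by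
    ext x
    rw [mem_cjg, mem_inf, mem_inf, q1, h.mem_Qy_conj, n1 (n⁻¹ * x * n), show n * (n⁻¹ * x * n) * n⁻¹ = x by group]
  have fx : ∀ a ∈ P ⊓ Q, r (p b) (φ a) = φ a := fun a ha =>
    fix_of h bz ha.2 (by rw [(ob.2 a ha.1).commutator_eq]; exact one_mem _)
  have q3 : ∀ x ∈ P ⊓ Qy z Q b, ∀ y ∈ P ⊓ Qy z Q b, Commute x y := by
    rw [q2]
    rintro _ ⟨x, hx, rfl⟩ _ ⟨y, hy, rfl⟩
    exact ((h.comm_iff hx.2 hy.2).2 (k2 _ _ (fx x hx) (fx y hy))).map _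
  have q4 : Nat.card ↥(P ⊓ Qy z Q b) ≤ 27 := by rw [q2, card_cjg]; exact card_le h hP zb oz ob k1 d
  have q5 : ∀ x ∈ P, ∀ m ∈ P ⊓ Qy z Q b, x * m * x⁻¹ ∈ P ⊓ Qy z Q b := fun x hx m hm =>
    ⟨P.mul_mem (P.mul_mem hx hm.1) (P.inv_mem hx),
      h.Qy_nrm zb.tb (by rw [(ob.2 x hx).eq, mul_inv_cancel_right]; exact mem_zpowers b) hm.2⟩
  have az : ∀ x ∈ P ⊓ Qy z Q b, Commute x z := fun x hx => oz.2 x hx.1
  have mD {γ} := h.mem_im az (γ := γ)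
  have N0 : Nn p P (h.im (P ⊓ Qy z Q b)) e0 := nn_of h hP zb oz ob oz he0
    (fun m _ hm => h.p_Q (h.Qy_z ▸ hm) ▸ one_mem _) fun x hx => comm_conj e0z f0 (oz.2 x hx) (ob.2 x hx)
  have N1 : Nn p P (h.im (P ⊓ Qy z Q b)) e1 := nn_of h hP zb oz ob ob he1
    (fun m h1 h2 => mD.2 ⟨m, ⟨h1, h2⟩, rfl⟩) fun x hx => (comm_conj e1b f1 (ob.2 x hx) (oz.2 x hx)).symm
  have w1 : e0 * e1 * z * (e0 * e1)⁻¹ = z * (b * z) := calc
    e0 * e1 * z * (e0 * e1)⁻¹ = e0 * (e1 * z * e1⁻¹) * e0⁻¹ := by group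
    _ = z * (b * z) := by rw [f1, ← conj_mul, f0, e0z.eq, mul_inv_cancel_right]
  have w2 : e0 * e1 * b * (e0 * e1)⁻¹ = b * z := calc
    e0 * e1 * b * (e0 * e1)⁻¹ = e0 * (e1 * b * e1⁻¹) * e0⁻¹ := by group
    _ = b * z := by rw [e1b.eq, mul_inv_cancel_right, f0]
  have N := N0.mul N1
  generalize e0 * e1 = g at w1 w2 N
  have sw : ∀ x, b * (z * x) = z * (b * x) := fun x => by rw [← mul_assoc, bz.eq, mul_assoc]
  have z3 : ∀ x, z * (z * (z * x)) = x := fun x => by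
    rw [← mul_assoc, ← mul_assoc, ← pow_three', h.z3, one_mul]
  have b3' : b * (b * b) = 1 := by rw [← pow_three, b3]
  refine fin h zb oz (N.mul N) ?_ ?_ bQ (k3 _ ?_ ?_ ?_ ?_)
  · rw [show g * g * z * (g * g)⁻¹ = g * (g * z * g⁻¹) * g⁻¹ by group, w1, ← conj_mul, ← conj_mul, w1, w2,
      eq_inv_iff_mul_eq_one]
    simp only [mul_assoc, sw, bz.eq, z3, b3', one_mul]
    rw [← pow_three, h.z3]
  · rw [show g * g * b * (g * g)⁻¹ = g * (g * b * g⁻¹) * g⁻¹ by group, w2, ← conj_mul, w1, w2, eq_inv_iff_mul_eq_one]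
    simp only [mul_assoc, sw, bz.eq, z3, b3']
  · intro γ hγ
    obtain ⟨x, hx, rfl⟩ := mD.1 hγ
    exact mP.2 ⟨x, hx.1, rfl⟩
  · intro γ hγ γ' hγ'
    obtain ⟨x, hx, rfl⟩ := mD.1 hγ
    obtain ⟨y, hy, rfl⟩ := mD.1 hγ'
    exact h.p_comm (az x hx) (az y hy) (q3 x hx y hy)
  · intro γ hγ γ' hγ'
    obtain ⟨x, hx, rfl⟩ := mP.1 hγ
    obtain ⟨y, hy, rfl⟩ := mD.1 hγ'
    exact mD.2 ⟨_, q5 x hx y hy, h.p_conj (oz.2 x hx) (az y hy)⟩
  · by_cases hb : ∀ m ∈ P ⊓ Qy z Q b, m ∈ Q → m = 1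
    · refine .inr fun γ hγ v hv hv' => ?_
      obtain ⟨x, hx, rfl⟩ := mD.1 hγ
      obtain ⟨a, ha, rfl⟩ := h.onto v
      have aP := Q_le h hP zb oz ob ha ((comm_iff' h d ha hv).2 hv')
      have := hb (x * a * x⁻¹ * a⁻¹) (by simpa [mul_assoc] using mul_mem hx (q5 a aP _ (inv_mem hx)))
        (mul_mem (h.conj_mem (az x hx) ha) (inv_mem ha))
      rw [← h.act x (az x hx) a ha, mul_inv_eq_one.1 this]
    · push Not at hb
      obtain ⟨m, h1, h2, h3⟩ := hb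
      have := Nat.le_of_dvd Nat.card_pos (orderOf_dvd_natCard (⟨m, h1, h2⟩ : ↥(P ⊓ Qy z Q b ⊓ Q)))
      rw [← orderOf_coe, orderOf_eq_prime (h.exp m h2) h3] at this
      rw [h.card_im az] at q4
      exact .inl (by nlinarith)

end CL.F3C
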