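/-
Groups with a `3`-centralizer of shape `3^(1+8).2^(1+6).L`: the case that `⟨z⟩` is not weakly closed in `Q`.
-/
import Cfsg.Agent.F3C.Bas

set_option autoImplicit false
set_option linter.unusedSectionVars false

namespace CL.F3C

open Subgroup
open scoped commutatorElement

universe u

namespace TwoAux

variable {G Γ V L : Type*} [Group G] [Finite G] [Group Γ] [Finite Γ] [AddCommGroup V] [Module F V] [Finite V] [Group L]
  {z : G} {Q Q' : Subgroup G} {p p' : G → Γ} {φ φ' : G → V} {r : Γ →* Module.End F V} {β : LinearMap.BilinForm F V}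
  {R : Subgroup Γ} {s : Γ} {π : Γ →* L} {x y t : G}

/-- transport of the data along a conjugation -/
theorem st_conj (h : St z Q p φ r β) (g : G) :
    St (g * z * g⁻¹) (cjg g Q) (fun x => p (g⁻¹ * x * g)) (fun x => φ (g⁻¹ * x * g)) r β := by
  have c : ∀ {a}, Commute a (g * z * g⁻¹) → Commute (g⁻¹ * a * g) z := fun e => by
    simpa [mul_assoc] using e.map (MulAut.conj g⁻¹)
  have c' : ∀ {a}, Commute a z → Commute (g * a * g⁻¹) (g * z * g⁻¹) := fun e => e.map (MulAut.conj g)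
  have m : ∀ a b : G, g⁻¹ * (a * b) * g = g⁻¹ * a * g * (g⁻¹ * b * g) := fun a b => by group
  have zp : ∀ a, g⁻¹ * a * g ∈ zpowers z ↔ a ∈ zpowers (g * z * g⁻¹) := fun a => by
    rw [← conj_zp_iff g, show g * (g⁻¹ * a * g) * g⁻¹ = a by group]
  refine ⟨h.Tord ⟨g, .inl rfl⟩, mem_cjg.2 (by simpa [mul_assoc] using h.zQ), fun a ha => ?_, fun k hk a ha => ?_,
    fun a b ha hb => by rw [m, h.pmul _ _ (c ha) (c hb)], fun γ => ?_, fun a ha => by rw [h.pker _ (c ha), mem_cjg],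
    fun a ha b hb => by rw [m, h.mul _ (mem_cjg.1 ha) _ (mem_cjg.1 hb)], fun v => ?_,
    fun a ha => by rw [h.zero _ (mem_cjg.1 ha), zp], fun k hk a ha => ?_, fun a ha b hb => ?_, fun a ha => ?_⟩
  · simpa [mul_assoc] using c' (h.le _ (mem_cjg.1 ha))
  · have := h.nrm (g⁻¹ * k * g) (by simpa [mul_assoc] using (zp _).2 hk) _ (mem_cjg.1 ha)
    exact mem_cjg.2 (by simpa [mul_assoc] using this)
  · obtain ⟨k, h1, h2⟩ := h.psurj γ
    exact ⟨g * k * g⁻¹, c' h1, by simpa [mul_assoc] using h2⟩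
  · obtain ⟨a, h1, h2⟩ := h.onto v
    exact ⟨g * a * g⁻¹, mem_cjg.2 (by simpa [mul_assoc] using h1), by simpa [mul_assoc] using h2⟩
  · rw [← h.act _ (c hk) _ (mem_cjg.1 ha)]
    congr 1
    group
  · rw [conj_pow, ← h.com _ (mem_cjg.1 ha) _ (mem_cjg.1 hb)]
    simp [commutatorElement_def, mul_assoc]
  · have := h.exp _ (mem_cjg.1 ha)
    rw [show g⁻¹ * a * g = g⁻¹ * a * g⁻¹⁻¹ by simp, conj_pow] at this
    simpa [mul_assoc] using congrArg (g * · * g⁻¹) this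

theorem card_cent (h : St z Q p φ r β) (A : GA r β R s π) (hx : x ∈ Q) :
    3 ^ 8 ≤ Nat.card ↥(Q ⊓ centralizer {x}) := by
  let f : Q →* Multiplicative F := MonoidHom.mk' (fun a => Multiplicative.ofAdd (β (φ a) (φ x))) fun a b => by
    rw [← ofAdd_add, Subgroup.coe_mul, h.mul _ a.2 _ b.2, map_add, LinearMap.add_apply]
  have h2 : f.ker = (Q ⊓ centralizer {x}).subgroupOf Q := by
    ext a
    rw [MonoidHom.mem_ker, mem_subgroupOf, mem_inf, mem_centralizer_singleton_iff]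
    exact (h.comm_iff a.2 hx).symm.trans ⟨fun e => ⟨a.2, e⟩, And.right⟩
  have h3 := card_eq_card_quotient_mul_card_subgroup f.ker
  have h4 : Nat.card f.range ≤ 3 := (card_le_card_group _).trans (by simp)
  rw [h.card_Q A, Nat.card_congr (QuotientGroup.quotientKerEquivRange f).toEquiv, h2,
    Nat.card_congr (subgroupOfEquivOfLe (inf_le_left : Q ⊓ centralizer {x} ≤ Q)).toEquiv] at h3
  have := Nat.mul_le_mul_right (Nat.card ↥(Q ⊓ centralizer {x})) h4
  omega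

theorem card_le (h : St z Q p φ r β) {D : Subgroup G} (hD : D ≤ Q) {n : ℕ} (hn : (φ '' D).ncard ≤ n) :
    Nat.card D ≤ n * 3 := by
  rw [h.card_φ hD, ← h.card_Z]
  exact Nat.mul_le_mul hn (card_le_of_le inf_le_right)

theorem card_zen (h : St z Q p φ r β) (A : GA r β R s π) (hx : x ∈ Q) (hz : x ∉ zpowers z) {D : Subgroup G}
    (hD : D ≤ Q) (hc : ∀ d ∈ D, ∀ a ∈ Q, Commute x a → Commute d a) : Nat.card D ≤ 3 * 3 := by
  obtain ⟨u, hu⟩ : ∃ u, β (φ x) u ≠ 0 := by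
    by_contra k
    exact hz ((h.zero x hx).1 (A.nd _ (by simpa using k)))
  refine card_le h hD ((Set.ncard_le_ncard (t := (fun c : F => c • φ x) '' Set.univ) ?_).trans
    ((Set.ncard_image_le).trans (by simp [Set.ncard_univ])))
  rintro _ ⟨d, hd, rfl⟩
  refine ⟨β (φ d) u / β (φ x) u, trivial, sub_eq_zero.1 (A.nd _ fun v => ?_)⟩
  obtain ⟨a, ha, e⟩ := h.onto (v - (β (φ x) v / β (φ x) u) • u)
  have h1 := (h.comm_iff (hD hd) ha).1 (hc d hd a ha ((h.comm_iff hx ha).2 (by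
    rw [e, map_sub, map_smul, smul_eq_mul, div_mul_cancel₀ _ hu, sub_self])))
  rw [e, map_sub, map_smul, smul_eq_mul, sub_eq_zero] at h1
  rw [map_sub, map_smul, LinearMap.sub_apply, LinearMap.smul_apply, smul_eq_mul, h1]
  ring

theorem card_ab (h : St z Q p φ r β) (A : GA r β R s π) {D : Subgroup G} (hD : D ≤ Q)
    (hc : ∀ a ∈ D, ∀ b ∈ D, Commute a b) : Nat.card D ≤ 3 ^ 4 * 3 := by
  have hV : Module.finrank F V = 8 := by
    have := A.card
    rw [Module.natCard_eq_pow_finrank (K := F), Nat.card_zmod] at this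
    exact Nat.pow_right_injective (by norm_num) this
  have hI : Submodule.span F (φ '' D) ≤ β.orthogonal (Submodule.span F (φ '' D)) := by
    refine Submodule.span_le.2 ?_
    rintro _ ⟨b, hb, rfl⟩ n hn
    refine (Submodule.span_le (p := LinearMap.ker (β.flip (φ b)))).2 ?_ hn
    rintro _ ⟨a, ha, rfl⟩
    exact (h.comm_iff (hD ha) (hD hb)).1 (hc a ha b hb)
  have h1 := Submodule.finrank_mono hI
  rw [LinearMap.BilinForm.finrank_orthogonal ⟨A.nd, fun u hu => A.nd u fun v => by rw [A.skew, hu v, neg_zero]⟩, hV] at h1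
  refine card_le h hD ((Set.ncard_le_ncard (Submodule.subset_span (R := F))).trans ?_)
  change Nat.card (Submodule.span F (φ '' D)) ≤ _
  rw [Module.natCard_eq_pow_finrank (K := F), Nat.card_zmod]
  exact Nat.pow_le_pow_right (by norm_num) (by omega)

theorem dvd_im (h : St z Q p φ r β) (h' : St y Q' p' φ' r β) (A : GA r β R s π) (hz : z ∈ Q') {k : ℕ} (hk : k ≤ 8)
    (hc : Nat.card ↥(Q' ⊓ centralizer {z} ⊓ Q) ≤ 3 ^ k) : 3 ^ (8 - k) ∣ Nat.card (h.im (Q' ⊓ centralizer {z})) := by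
  obtain ⟨n, hn⟩ := (h.im_pg (h'.isPGroup.to_le (inf_le_left : Q' ⊓ centralizer {z} ≤ Q'))).exists_card_eq
  have h1 := card_cent h' A hz
  rw [h.card_im (P := Q' ⊓ centralizer {z}) fun a ha => mem_centralizer_singleton_iff.1 ha.2, hn] at h1
  have h2 := h1.trans (Nat.mul_le_mul_left _ hc)
  rw [← pow_add, Nat.pow_le_pow_iff_right (by norm_num)] at h2
  rw [hn]
  exact pow_dvd_pow 3 (by omega)

theorem symm (h : St z Q p φ r β) (h' : St y Q' p' φ' r β) (A : GA r β R s π) (hs : ¬ 3 ^ 5 ∣ Nat.card Γ)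
    (hz : z ∈ Q') (hn : z ∉ zpowers y) : y ∈ Q := by
  by_contra hy
  refine hs (((pow_dvd_pow 3 (by norm_num)).trans (dvd_im h h' A hz (k := 2) (by norm_num) ?_)).trans
    (card_subgroup_dvd_card _))
  refine card_zen h' A hz hn (inf_le_left.trans inf_le_left) fun d hd a ha e => ?_
  have h1 : ⁅d, a⁆ ∈ Q := by
    rw [commutatorElement_def, mul_assoc, mul_assoc, ← mul_assoc a]
    exact mul_mem hd.2 (h.conj_mem e.symm (inv_mem hd.2))
  rcases (zp3 h'.z3).1 (h'.com_mem hd.1.1 ha) with k | k | k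
  · exact commutatorElement_eq_one_iff_commute.1 k
  · exact absurd (k ▸ h1) hy
  · exact absurd (inv_mem_iff.1 (k ▸ h1)) hy

theorem avg (h : St z Q p φ r β) (A : GA r β R s π) (hy : y ∈ Q) (hn : y ∉ zpowers z) (tt : t * t = 1)
    (tz : Commute t z) (ty : Commute t y) : ∃ e ∈ Q, Commute e t ∧ e * y * e⁻¹ = y * z := by
  obtain ⟨u, hu⟩ : ∃ u, β (φ y) u ≠ 0 := by
    by_contra k
    exact hn ((h.zero y hy).1 (A.nd _ (by simpa using k)))
  obtain ⟨a, ha, ea⟩ := h.onto ((β (φ y) u)⁻¹ • u)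
  have h1 : β (φ a) (φ y) = -1 := by rw [A.skew, ea, map_smul, smul_eq_mul, inv_mul_cancel₀ hu]
  have ha' := h.conj_mem tz ha
  have e2 : t * (t * a * t⁻¹) * t⁻¹ = a := by
    rw [show t * (t * a * t⁻¹) * t⁻¹ = (t * t) * a * (t * t)⁻¹ by group, tt]; group
  have h2 : β (φ (t * a * t⁻¹)) (φ y) = -1 := by
    rw [← h1, ← A.inv (p t) (φ a), ← h.act t tz a ha, ← h.act t tz y hy, ty.eq, mul_inv_cancel_right]
  have h3 : Commute a (t * a * t⁻¹) := by
    have := A.inv (p t) (φ a) (φ (t * a * t⁻¹))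
    rw [← h.act t tz a ha, ← h.act t tz _ ha', e2, A.skew] at this
    refine (h.comm_iff ha ha').2 ?_
    generalize β (φ a) (φ (t * a * t⁻¹)) = c at this
    revert c
    decide
  refine ⟨a * (t * a * t⁻¹), mul_mem ha ha', (mul_inv_eq_iff_eq_mul.1 ?_ : Commute t _).symm, ?_⟩
  · rw [← conj_mul, e2, h3.eq]
  · have := h.com _ (mul_mem ha ha') y hy
    rw [h.mul _ ha _ ha', map_add, LinearMap.add_apply, h1, h2, show ((-1 + -1 : F)).val = 1 from rfl, pow_one,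
      commutatorElement_def, mul_inv_eq_iff_eq_mul] at this
    rw [this, (h.le y hy).eq]

end TwoAux

open TwoAux in
theorem twoThm : TwoThm.{u} := by
  intro G Γ V L _ _ _ _ _ _ _ _ z Q p φ r β R s π h A Good f hw
  obtain ⟨y, hy, g, hn⟩ : ∃ y ∈ Q, ∃ g, y ∉ zpowers z ∧ g * z * g⁻¹ = y := by
    simp only [WC, not_forall] at hw
    obtain ⟨y, hy, ⟨g, e | e⟩, hn⟩ := hw
    · exact ⟨y, hy, g, hn, e⟩
    · exact ⟨y⁻¹, inv_mem hy, g, by simpa using hn, e⟩
  obtain ⟨hn, e⟩ := hn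
  obtain ⟨Q', p', φ', h'⟩ : ∃ Q' p' φ', St y Q' p' φ' r β := ⟨_, _, _, e ▸ st_conj h g⟩
  have hz : z ∈ Q' := symm h' h A f.syl hy hn
  have hn' : z ∉ zpowers y := fun k => hn (h'.zp_symm T.refl k h.z1)
  have hB : ∀ a ∈ Q' ⊓ centralizer {z}, Commute a z := fun a ha => mem_centralizer_singleton_iff.1 ha.2
  obtain ⟨K, hK⟩ := Sylow.exists_subgroup_card_pow_prime 3 (dvd_im h h' A hz (k := 5) (by norm_num)
    (card_ab h A inf_le_right fun a ha b hb => by
      by_contra k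
      exact hn (h'.zp_symm T.refl (h'.com_mem ha.1.1 hb.1.1) (mt commutatorElement_eq_one_iff_commute.1 k) |> fun e =>
        zpowers_le.2 (h.com_mem ha.2 hb.2) e)))
  have hM : ∀ γ ∈ K.map (Subgroup.subtype _), ∃ a ∈ Q' ⊓ centralizer {z}, p a = γ := fun γ hγ =>
    (h.mem_im hB).1 (map_subtype_le K hγ)
  obtain ⟨τ, τ2, hg, hτ⟩ := f.b6 (K.map (Subgroup.subtype _)) (φ y)
    (by rw [card_map_of_injective (subtype_injective _), hK]; rfl)
    (fun γ hγ δ hδ => by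
      obtain ⟨a, ha, rfl⟩ := hM γ hγ
      obtain ⟨b, hb, rfl⟩ := hM δ hδ
      rw [Commute, SemiconjBy, ← h.pmul _ _ (hB a ha) (hB b hb), ← h.pmul _ _ (hB b hb) (hB a ha),
        h.p_eq ((hB a ha).mul_left (hB b hb)) ((hB b hb).mul_left (hB a ha)), mul_inv_rev, ← mul_assoc]
      exact zpowers_le.2 hy (h'.com_mem ha.1 hb.1))
    (fun γ hγ => by
      obtain ⟨a, ha, rfl⟩ := hM γ hγ
      rw [← h.p_pow (hB a ha), h'.exp a ha.1, h.p_one])
    (fun γ hγ => by
      obtain ⟨a, ha, rfl⟩ := hM γ hγ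
      rw [← h.act a (hB a ha) y hy, (h'.le a ha.1).eq, mul_inv_cancel_right])
  obtain ⟨t, tt, tz, rfl⟩ := h.lift2 τ2
  have ty := h.comm_of_fix tt tz hy hτ
  obtain ⟨e₁, h1, h2, h3⟩ := avg h A hy hn tt tz ty
  obtain ⟨e₂, h4, h5, h6⟩ := avg h' A hz hn' tt ty tz
  exact ⟨t, y, e₁, e₂, ⟨tt, tz, ty, (h.le y hy).symm, hn, h'.z3, h2, h5, h.exp _ h1, h'.exp _ h4, h.le _ h1, h3,
    h'.le _ h4, h6⟩, hg⟩

end CL.F3C
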