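/-
Groups with a `3`-centralizer of shape `3^(1+8).2^(1+6).L`: the common part of the assembly.
-/
import Cfsg.Agent.F3C.B
import Cfsg.Agent.F3C.Fr0
import Cfsg.Agent.F3C.Fr1
import Cfsg.Agent.F3C.T1
import Cfsg.Agent.F3C.T2
import Cfsg.Agent.F3C.Two

set_option autoImplicit false

namespace CL.F3C

open Subgroup

universe u

theorem CT.conj {L : Type*} [Group L] {τ : L} (h : CT τ) (g : L) : CT (g * τ * g⁻¹) := by
  have e : ∀ x, Commute x (g * τ * g⁻¹) ↔ Commute (g⁻¹ * x * g) τ := fun x => by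
    constructor
    · intro hx
      have := hx.conj g⁻¹
      simpa [mul_assoc] using this
    · intro hx
      have := hx.conj g
      simpa [mul_assoc] using this
  obtain ⟨h1, ⟨D, hD, hc, hn⟩, h3⟩ := h
  refine ⟨?_, ⟨cjg g D, by rw [card_cjg, hD], fun d hd => (e d).2 (hc _ (mem_cjg.1 hd)), fun x hx d hd => ?_⟩,
    fun K hK x hx => ?_⟩
  · rw [← h1, ← card_cjg (P := centralizer {τ}) g]
    congr 2
    ext x
    rw [mem_cjg, mem_centralizer_singleton_iff, mem_centralizer_singleton_iff]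
    exact e x
  · have := hn _ ((e x).1 hx) _ (mem_cjg.1 hd)
    rw [mem_cjg]
    simpa [mul_assoc] using this
  · have := h3 (cjg g⁻¹ K) (fun w hw w3 => mem_cjg.2 (hK _ ((e _).2 (by simpa [mul_assoc] using hw))
      (by rw [inv_inv, conj_pow, w3]; simp))) _ ((e x).1 hx)
    rw [mem_cjg] at this
    simpa [mul_assoc] using this

section
variable {G Γ V L : Type u} [Group G] [Finite G] [Group Γ] [Finite Γ] [AddCommGroup V] [Module F V] [Finite V] [Group L]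
  {z : G} {Q : Subgroup G} {p : G → Γ} {φ : G → V} {r : Γ →* Module.End F V} {β : LinearMap.BilinForm F V}
  {R : Subgroup Γ} {s : Γ} {π : Γ →* L}

omit [Finite V] [Finite Γ] in
/-- the order of `Γ` is not divisible by `3^5` -/
theorem GA.syl (A : GA r β R s π) (h : ¬ 3 ^ 5 ∣ Nat.card L) : ¬ 3 ^ 5 ∣ Nat.card Γ := by
  have hk : π.ker = R := by ext g; exact A.ker g
  have e : Nat.card Γ = Nat.card L * 128 := by
    rw [card_eq_card_quotient_mul_card_subgroup π.ker, Nat.card_congr (QuotientGroup.quotientKerEquivOfSurjective π A.surj).toEquiv,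
      hk, A.cardR]
  rw [e]
  exact fun hd => h (Nat.Coprime.dvd_of_dvd_mul_right (by norm_num) hd)

omit [Finite V] [Finite Γ] in
/-- a pair exists if `⟨z⟩` is not weakly closed in a Sylow subgroup -/
theorem St.exists_pair (h : St z Q p φ r β) (A : GA r β R s π) (S : Sylow 3 G) (hz : z ∈ (S : Subgroup G)) {g : G}
    (hg : g * z * g⁻¹ ∈ (S : Subgroup G)) (hn : g * z * g⁻¹ ∉ zpowers z) : ∃ a b, Pair z a b := by
  obtain ⟨S', hS'⟩ := h.isPGroup.exists_le_sylow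
  have : Nontrivial (S' : Subgroup G) := ⟨⟨⟨z, hS' h.zQ⟩, 1, fun e => h.z1 (congrArg Subtype.val e)⟩⟩
  have := S'.isPGroup'.center_nontrivial
  obtain ⟨⟨w, hw⟩, w1⟩ := exists_ne (1 : center (S' : Subgroup G))
  have wc : ∀ x ∈ (S' : Subgroup G), Commute (w : G) x := fun x hx =>
    (congrArg Subtype.val (mem_center_iff.1 hw ⟨x, hx⟩)).symm
  have wz : (w : G) ∈ zpowers z := h.cent A fun a ha => wc a (hS' ha)
  have zw : z ∈ zpowers (w : G) := h.zp_symm T.refl wz fun e => w1 (Subtype.ext (Subtype.ext e))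
  have zc : ∀ x ∈ (S' : Subgroup G), Commute z x := fun x hx => by
    obtain ⟨n, hn⟩ := mem_zpowers_iff.1 zw
    rw [← hn]; exact (wc x hx).zpow_left n
  obtain ⟨k, hk⟩ := MulAction.exists_smul_eq G S' S
  have ac : ∀ x ∈ (S : Subgroup G), Commute (k * z * k⁻¹) x := fun x hx => by
    rw [← hk] at hx
    obtain ⟨x', hx', rfl⟩ : ∃ x' ∈ (S' : Subgroup G), k * x' * k⁻¹ = x := hx
    exact (zc x' hx').conj k
  have ta : T z (k * z * k⁻¹) := T.refl.conj k
  by_cases h1 : z ∈ zpowers (k * z * k⁻¹)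
  · refine ⟨k * z * k⁻¹, g * z * g⁻¹, ta, T.refl.conj g, ac _ hg, fun h2 => hn ?_⟩
    exact zpowers_le.2 (h.zp_symm ta h1 h.z1) h2
  · exact ⟨k * z * k⁻¹, z, ta, T.refl, ac _ hz, h1⟩

/-- `⟨z⟩` is not weakly closed in `Q` -/
theorem St.not_wc (h : St z Q p φ r β) (A : GA r β R s π) {Good : Γ → Prop} (gf : GF r β s Good)
    (hp : ∃ a b, Pair z a b) : ¬ WC z Q := fun W => by
  obtain ⟨a0, b0, h0⟩ := hp
  obtain ⟨⟨a, b, P⟩, ⟨hab, hP, hc⟩, hm⟩ := Set.exists_max_image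
    {x : G × G × Subgroup G | Pair z x.1 x.2.1 ∧ IsPGroup 3 x.2.2 ∧ ∀ w ∈ x.2.2, Commute w x.1 ∧ Commute w x.2.1}
    (fun x => Nat.card x.2.2) (Set.toFinite _)
    ⟨(a0, b0, ⊥), h0, IsPGroup.of_bot, fun w hw => by rw [mem_bot.1 hw]; exact ⟨Commute.one_left _, Commute.one_left _⟩⟩
  have mx : Mx z P := ⟨hP, fun a' b' h' P' h1 h2 => hm (a', b', P') ⟨h', h1, h2⟩⟩
  have key : ∀ a, Pair z a b → Om z P a → ∀ g, a = g * z * g⁻¹ → False := fun a hab ha g e => by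
    have e' : g⁻¹ * a * g⁻¹⁻¹ = z := by rw [e]; group
    have p1 := hab.conj g⁻¹
    have o1 := ha.conj g⁻¹
    rw [e'] at p1 o1
    exact t2Thm trThm G Γ V L z Q p φ r β R s π h A Good gf W _ _ (mx.conj g⁻¹) p1 o1
      (Om.conj ⟨hab.tb, fun x hx => (hc x hx).2⟩ g⁻¹)
      (t1Thm trThm G Γ V L z Q p φ r β R s π h A Good gf W _ · · (mx.conj g⁻¹))
  have oa : Om z P a := ⟨hab.ta, fun x hx => (hc x hx).1⟩
  obtain ⟨g, e | e, -⟩ := h.T_cases hab.ta
  · exact key a hab oa g e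
  · exact key a⁻¹ hab.inv_left oa.inv g (inv_eq_iff_eq_inv.2 e)

/-- the local analysis for every top group -/
theorem St.two (h : St z Q p φ r β) (A : GA r β R s π) {Good : Γ → Prop} (gf : GF r β s Good) (S : Sylow 3 G)
    (hZS : zpowers z ≤ (S : Subgroup G))
    (hwc : ∃ g : G, (zpowers z).map (MulAut.conj g).toMonoidHom ≤ (S : Subgroup G) ∧
      (zpowers z).map (MulAut.conj g).toMonoidHom ≠ zpowers z) : ∃ t y e e' : G, Two z t y e e' ∧ Good (p t) := by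
  obtain ⟨g, h1, h2⟩ := hwc
  rw [MonoidHom.map_zpowers] at h1 h2
  refine twoThm G Γ V L z Q p φ r β R s π h A Good gf (h.not_wc A gf
    (h.exists_pair A S (hZS (mem_zpowers z)) (g := g) (h1 (mem_zpowers _)) fun hn => h2 ?_))
  exact le_antisymm (zpowers_le.2 hn) (zpowers_le.2 (h.zp_symm T.refl hn (h.T1 (T.refl.conj g))))

end

/-- the facts on `Γ` for every top group, up to `B4` -/
theorem gf_of {Γ V L : Type u} [Group Γ] [Finite Γ] [AddCommGroup V] [Module F V] [Finite V] [Group L] [Finite L]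
    {r : Γ →* Module.End F V} {β : LinearMap.BilinForm F V} {R : Subgroup Γ} {s : Γ} {π : Γ →* L}
    (A : GA r β R s π) {X : Subgroup L → L → L → L → L → Prop} (hL : LT L X) (h4 : B4 r β) {Good : Γ → Prop}
    (hG : ∀ (i j c : Fin 3 → Γ) (ρ t : Γ) (v0 : V) (J : Subgroup L) (c₀ j₀ ρ₀ τ₀ : L), Fr r R s i j c ρ t v0 →
      LF J c₀ j₀ ρ₀ τ₀ → X J c₀ j₀ ρ₀ τ₀ → Fit π J c₀ j₀ ρ₀ τ₀ ⊥ c ρ t → Good t) : GF r β s Good := by
  have hF := frThm.{u} fr0Thm
  obtain ⟨h1, h3⟩ := b3Thm hF Γ V L r β R s π A X hL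
  refine ⟨h1, A.syl hL.syl, h3, h4, b5Thm hF Γ V L r β R s π A X hL, fun D v a1 a2 a3 a4 => ?_⟩
  obtain ⟨t, tt, ⟨i, j, c, ρ, v0, J, c₀, j₀, ρ₀, τ₀, f, lf, x, ft⟩, tv⟩ := b6Thm hF Γ V L r β R s π A X hL D v a1 a2 a3 a4
  exact ⟨t, tt, hG i j c ρ t v0 J c₀ j₀ ρ₀ τ₀ f lf x ft, tv⟩

end CL.F3C
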