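/-
Groups with a `3`-centralizer of shape `3^(1+8).2^(1+6).L`: the module setup.
-/
import Cfsg.Agent.F3C.Bas
import Cfsg.Agent.Loc.FStar
import Cfsg.Agent.Odd.RelBasic

set_option autoImplicit false

namespace CL.F3C

open Subgroup Cfsg CL.Grp
open scoped commutatorElement

universe u

namespace SetJ

section
variable {E V : Type*} [Group E] [AddCommGroup V] [Module F V] (H : Heis 3 E V)

theorem π_map (α : MulAut E) (hα : ∀ s, α (H.ι s) = H.ι s) (a : E) : H.π (α (H.σ (H.π a))) = H.π (α a) := by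
  obtain ⟨s, e⟩ := H.π_eq_iff.1 (H.π_σ (H.π a))
  rw [e, map_mul, hα, H.π_mul_ι]

/-- the linear map induced by an automorphism -/
noncomputable def lin (α : MulAut E) (hα : ∀ s, α (H.ι s) = H.ι s) : Module.End F V :=
  AddMonoidHom.toZModLinearMap 3 (AddMonoidHom.mk' (fun v => H.π (α (H.σ v))) fun v w => by
    obtain ⟨a, rfl⟩ := H.π_surj v
    obtain ⟨b, rfl⟩ := H.π_surj w
    rw [← H.π_mul, π_map H α hα, π_map H α hα, π_map H α hα, map_mul, H.π_mul])

theorem lin_π (α : MulAut E) (hα : ∀ s, α (H.ι s) = H.ι s) (a : E) : lin H α hα (H.π a) = H.π (α a) :=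
  π_map H α hα a

end

theorem exists_rep {M V : Type*} [Group M] {N : Subgroup M} [N.Normal] [AddCommGroup V] [Module F V]
    (H : Heis 3 N V) (hα : ∀ (m : M) s, MulAut.conjNormal m (H.ι s) = H.ι s) :
    ∃ r : M ⧸ N →* Module.End F V, ∀ (m : M) (a : N), r m (H.π a) = H.π (MulAut.conjNormal m a) := by
  let ρ : M →* Module.End F V :=
    { toFun := fun m => lin H (MulAut.conjNormal m) (hα m)
      map_one' := LinearMap.ext fun v => by
        obtain ⟨a, rfl⟩ := H.π_surj v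
        rw [lin_π, map_one]; rfl
      map_mul' := fun m n => LinearMap.ext fun v => by
        obtain ⟨a, rfl⟩ := H.π_surj v
        rw [Module.End.mul_apply, lin_π, lin_π, lin_π, map_mul]; rfl }
  refine ⟨QuotientGroup.lift N ρ fun m hm => LinearMap.ext fun v => ?_, fun m a => lin_π H _ (hα m) a⟩
  obtain ⟨a, rfl⟩ := H.π_surj v
  exact (lin_π H _ (hα m) a).trans (H.π_conj ⟨m, hm⟩ a)

theorem mem_of_comm {M : Type*} [Group M] [Finite M] {N : Subgroup M} {p : ℕ} [Fact p.Prime]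
    (hE : IsExtraspecial p N) (hC : centralizer (N : Set M) ≤ N) {g : M}
    (h : ∀ a : N, ∃ c ∈ center N, ⁅g, (a : M)⁆ = c) : g ∈ N :=
  sup_le le_rfl hC (extra_mem_sup_centralizer hE fun x hx => by
    obtain ⟨c, hc, e⟩ := h ⟨x, hx⟩
    exact e ▸ ⟨c.2, fun y hy => congrArg Subtype.val (mem_center_iff.1 hc ⟨y, hy⟩)⟩)

theorem exists_s {Γ : Type*} [Group Γ] [Finite Γ] {R : Subgroup Γ} [R.Normal] (hE : IsExtraspecial 2 R)
    (hC : centralizer (R : Set Γ) ≤ R) : ∃ s : Γ, s ≠ 1 ∧ s * s = 1 ∧ s ∈ R ∧ (∀ g, Commute g s) ∧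
      (∀ a ∈ R, a * a = 1 ∨ a * a = s) ∧ (∀ a ∈ R, ∀ b ∈ R, a * b = b * a ∨ a * b = s * (b * a)) ∧
      (∀ g, (∀ a ∈ R, g * a = a * g ∨ g * a = s * (a * g)) → g ∈ R) ∧
      ∀ g ∈ R, (∀ a ∈ R, g * a = a * g) → g = 1 ∨ g = s := by
  obtain ⟨s, h1, h2⟩ := (Nat.card_eq_two_iff' (1 : center R)).1 (extra_card_center hE)
  have h3 : ∀ c ∈ center R, (c : Γ) = 1 ∨ (c : Γ) = s := fun c hc => by
    by_cases e : c = 1
    · exact .inl (congrArg Subtype.val e)
    · exact .inr (congrArg (fun x : center R => ((x : R) : Γ)) (h2 ⟨c, hc⟩ fun e' => e (congrArg Subtype.val e')))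
  have h4 : ((s : R) : Γ) ≠ 1 := fun e => h1 (Subtype.ext (Subtype.ext e))
  refine ⟨(s : R), h4, ?_, (s : R).2, fun g => ?_, fun a ha => ?_, fun a ha b hb => ?_,
    fun g hg => mem_of_comm hE hC fun a => ?_,
    fun g hg h => h3 ⟨g, hg⟩ (mem_center_iff.2 fun a => Subtype.ext (h a a.2).symm)⟩
  · simpa [sq] using congrArg Subtype.val (extra_pow_eq_one_of_mem_center hE s.2)
  · refine mul_inv_eq_iff_eq_mul.1 ((h3 (MulAut.conjNormal g s) (mem_center_iff.2 fun a => ?_)).resolve_left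
      fun e => h4 (CL.Odd.conj_eq_one_iff'.1 e))
    obtain ⟨a, rfl⟩ := (MulAut.conjNormal g).surjective a
    rw [← map_mul, ← map_mul, mem_center_iff.1 s.2]
  · simpa [sq] using h3 _ (extra_pow_mem_center hE ⟨a, ha⟩)
  · refine (h3 _ (extra_comm_mem_center hE ⟨a, ha⟩ ⟨b, hb⟩)).imp (fun e => ?_) fun e => ?_
    · exact commutatorElement_eq_one_iff_mul_comm.1 e
    · rw [← e]; simp [commutatorElement_def, mul_assoc]
  · rcases hg a a.2 with e | e
    · exact ⟨1, one_mem _, commutatorElement_eq_one_iff_mul_comm.2 e⟩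
    · exact ⟨s, s.2, by rw [commutatorElement_def, e]; group⟩

end SetJ

open SetJ in
theorem setThm : SetThm.{u} := by
  intro G _ _ Z hZ hE hc _ hx hF hR hRc _
  classical
  haveI := isCyclic_of_prime_card hZ
  obtain ⟨⟨z, hz⟩, hg⟩ := IsCyclic.exists_generator (α := Z)
  have ho : orderOf z = 3 := (orderOf_coe (⟨z, hz⟩ : Z)).trans ((orderOf_eq_card_of_forall_mem_zpowers hg).trans hZ)
  obtain rfl : Z = zpowers z := le_antisymm (fun g h => let ⟨n, e⟩ := hg ⟨g, h⟩; ⟨n, congrArg Subtype.val e⟩)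
    (zpowers_le.2 hz)
  have hM : ∀ m, Commute m z ↔ m ∈ centralizer (zpowers z : Set G) := fun m =>
    ⟨fun h => by rintro _ ⟨n, rfl⟩; exact (h.zpow_right n).symm.eq, fun h => (h z hz).symm⟩
  have hnrm : ∀ g, g * z * g⁻¹ ∈ zpowers z → g ∈ normalizer (centralizer (zpowers z : Set G) : Set G) := fun g h =>
    CL.Odd.norm_le_norm_cent _ (mem_normalizer_fintype (by
      rintro _ ⟨n, rfl⟩
      simpa only [conj_zpow, SetLike.mem_coe] using zpow_mem h n))
  generalize centralizer (zpowers z : Set G) = M at *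
  have hC := CL.Loc.centralizer_fstar_le (G := M)
  have hQ := CL.Loc.normalizer_le_normalizer_fstarOf M
  unfold CL.Loc.fstarOf at hQ
  have hC2 := CL.Loc.centralizer_fstar_le (G := M ⧸ generalizedFittingSubgroup M)
  rw [hF] at hC2
  clear hF
  generalize generalizedFittingSubgroup M = N at *
  let z1 : M := ⟨z, (hM z).1 (Commute.refl z)⟩
  have c1 : ∀ m : M, m * z1 = z1 * m := fun m => Subtype.ext ((hM m).2 m.2).eq
  let z2 : N := ⟨z1, hC fun m _ => c1 m⟩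
  have c2 : z2 ∈ center N := mem_center_iff.2 fun a => Subtype.ext (c1 a)
  have o2 : orderOf z2 = 3 := by rw [← orderOf_coe, ← orderOf_coe]; exact ho
  have e2 := extra_zpowers_eq_center hE c2 (fun e => by rw [e, orderOf_one] at o2; omega)
  obtain ⟨V, _, _, H, hι⟩ := exists_heis c2 o2 (fun a b => e2 ▸ extra_comm_mem_center hE a b)
    fun a => e2 ▸ extra_pow_mem_center hE a
  have hZ2 : H.Z = center N := by rw [H.Z_eq_zpowers, hι, e2]
  have hα : ∀ (m : M) s, MulAut.conjNormal m (H.ι s) = H.ι s := fun m s => by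
    rw [H.ι_eq_pow_val, map_pow, hι]
    exact congrArg (· ^ s.val) (Subtype.ext (mul_inv_eq_iff_eq_mul.2 (c1 m)))
  obtain ⟨r, hr⟩ := exists_rep H hα
  obtain ⟨s, s1, s2, s3, s4, s5, s6, s7, s8⟩ := exists_s hR hC2
  let p : G → M ⧸ N := fun g => if h : g ∈ M then ((⟨g, h⟩ : M) : M ⧸ N) else 1
  have hp : ∀ m : M, p m = m := fun m => dif_pos m.2
  let φ : G → V := fun g => if h : ∃ a : N, ((a : M) : G) = g then H.π h.choose else 0
  have hφ : ∀ a : N, φ (a : M) = H.π a := fun a => by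
    have h : ∃ b : N, ((b : M) : G) = (a : M) := ⟨a, rfl⟩
    exact (dif_pos h).trans (congrArg H.π (Subtype.ext (Subtype.ext h.choose_spec)))
  have hq : ∀ {P : G → Prop}, (∀ a : N, P (a : M)) → ∀ a ∈ N.map M.subtype, P a := fun h _ ⟨a, ha, e⟩ => e ▸ h ⟨a, ha⟩
  have hm : ∀ {P : G → Prop}, (∀ m : M, P m) → ∀ m, Commute m z → P m := fun h m e => h ⟨m, (hM m).1 e⟩
  refine ⟨z, N.map M.subtype, V, inferInstance, inferInstance, H.finite_V, p, φ, r, H.B, s, rfl,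
    ⟨ho, ⟨z1, z2.2, rfl⟩, hq fun a => (hM _).2 (a : M).2,
      fun g h a ha => CL.Odd.conj_mem_of_norm (hQ (hnrm g h)) ha, fun a b ha hb => ?_, fun γ => ?_, hm fun m => ?_,
      hq fun a => hq fun b => ?_, fun v => ?_, hq fun a => ?_, hm fun m => hq fun a => ?_, hq fun a => hq fun b => ?_,
      hq fun a => congrArg Subtype.val (hx a a.2)⟩,
    ⟨(injective_iff_map_eq_one _).2 fun γ e => ?_, ?_, H.B_self, fun u hu => ?_, fun γ u v => ?_,
      QuotientGroup.mk'_surjective _, fun g => QuotientGroup.eq_one_iff g, hRc, s1, s2, s3, s4, s5, s6, s7, s8⟩⟩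
  · exact (hp (⟨a, (hM a).1 ha⟩ * ⟨b, (hM b).1 hb⟩)).trans (by rw [QuotientGroup.mk_mul, ← hp, ← hp])
  · obtain ⟨m, rfl⟩ := QuotientGroup.mk_surjective γ
    exact ⟨m, (hM _).2 m.2, hp m⟩
  · rw [hp, QuotientGroup.eq_one_iff]
    exact ⟨fun h => ⟨m, h, rfl⟩, fun ⟨a, ha, e⟩ => Subtype.ext e ▸ ha⟩
  · exact (hφ (a * b)).trans (by rw [H.π_mul, hφ, hφ])
  · exact ⟨_, ⟨_, (H.σ v).2, rfl⟩, (hφ _).trans (H.π_σ v)⟩
  · rw [hφ, ← H.mem_Z, hZ2, ← e2]
    exact ⟨fun ⟨n, e⟩ => ⟨n, congrArg (fun x : N => ((x : M) : G)) e⟩,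
      fun ⟨n, e⟩ => ⟨n, Subtype.ext (Subtype.ext e)⟩⟩
  · rw [hp, hφ, hr, ← hφ]; rfl
  · rw [hφ, hφ]
    have := H.comm_eq a b
    rw [H.ι_eq_pow_val, hι] at this
    exact congrArg (fun x : N => ((x : M) : G)) this
  · obtain ⟨m, rfl⟩ := QuotientGroup.mk_surjective γ
    refine (QuotientGroup.eq_one_iff m).2 (mem_of_comm hE hC fun a => ⟨MulAut.conjNormal m a * a⁻¹, ?_, rfl⟩)
    rw [← hZ2, H.mem_Z, H.π_mul, H.π_inv, ← hr, e, Module.End.one_apply, add_neg_cancel]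
  · have := H.card_eq
    rw [hc] at this
    omega
  · obtain ⟨a, rfl⟩ := H.π_surj u
    exact H.mem_Z.1 (hZ2 ▸ H.mem_center_iff.2 hu)
  · obtain ⟨m, rfl⟩ := QuotientGroup.mk_surjective γ
    obtain ⟨a, rfl⟩ := H.π_surj u
    obtain ⟨b, rfl⟩ := H.π_surj v
    rw [hr, hr, H.B_eq_iff, ← map_commutatorElement, H.comm_eq, hα]

end CL.F3C
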