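/-
The recognition of `Fi₂₃` from a `3`-centralizer, from the recognition of `Fi₂₂`.
-/
import Cfsg.Agent.F3C.Loc
import Cfsg.Agent.F3C.Set
import Cfsg.Agent.F3C.KK
import Cfsg.Agent.F3C.Fin

set_option autoImplicit false

namespace CL.F3C

open Subgroup

universe u

theorem s2914_of (hL : LThm.{u}) (hG : GoodThm.{u}) (h22 : type_of% @Cfsg.CfsgFrozen.S3368.{u}) :
    type_of% @Cfsg.CfsgFrozen.S2914.{u} := by
  intro G _ _ _ S Z hZS hZ hQ hQc _ hexp hFR hR hRc _ _ hTop hwc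
  obtain ⟨z, Q, V, _, _, _, p, φ, r, β, s, rfl, h, A⟩ := setThm G Z hZ hQ hQc hexp hFR hR hRc
  obtain ⟨K, _, _, x, k1, k2, k3, k4⟩ := hTop
  have lt := hL _ K x k1 k2 k3 k4
  have gf : GF r β s (Good23 r β) := gf_of A lt (b4Thm (frThm fr0Thm) _ V _ r β _ s _ A lt)
    fun i j c ρ t v0 J c₀ j₀ ρ₀ τ₀ f _ hx ft => by
      obtain ⟨g, -, e⟩ := ft.ht
      exact hG _ V _ r β _ s _ A i j c ρ t v0 f (e ▸ hx.1.conj g)
  obtain ⟨t, y, e, e', two, good⟩ := h.two A gf S hZS hwc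
  exact finThm G _ V _ z Q p φ r β _ s _ h A t y e e' two good
    (kThm h22 G _ V _ z Q p φ r β _ s _ h A t y e e' two good)

end CL.F3C
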