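/-
The recognition of `Fi₂₃` from a `3`-centralizer, conditional only on the recognition of `Fi₂₂`.
-/
import Cfsg.Agent.F3C.Main
import Cfsg.Agent.F3C.LT
import Cfsg.Agent.F3C.Good

set_option autoImplicit false

namespace CL.F3C

universe u

theorem s2914_of_s3368 (h22 : type_of% @Cfsg.CfsgFrozen.S3368.{u}) : type_of% @Cfsg.CfsgFrozen.S2914.{u} :=
  @s2914_of lThm goodThm @h22

end CL.F3C
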