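/-
Groups with a `3`-centralizer of shape `3^(1+8).2^(1+6).PSp₄(3)`: the facts on the swap involution.
-/
import Cfsg.Agent.F3C.Bas

set_option autoImplicit false

namespace CL.F3B

open Subgroup CL.F3C
open scoped commutatorElement

/-- the quaternion group of order eight -/
abbrev Q8 : Type := QuaternionGroup 2

variable {Γ V : Type*} [Group Γ] [AddCommGroup V] [Module F V]

/-- the facts on the involution `t` that give the hypotheses of the recognition of `²E₆(2)` -/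
structure GB (r : Γ →* Module.End F V) (β : LinearMap.BilinForm F V) (t : Γ) (D : Subgroup Γ) : Prop where
  cF : {v | r t v = v}.ncard = 729
  ndF : ∀ u, r t u = u → (∀ v, r t v = v → β u v = 0) → u = 0
  t1 : t ≠ 1
  Dt : ∀ d ∈ D, Commute d t
  Dn : ∀ g, Commute g t → ∀ d ∈ D, g * d * g⁻¹ ∈ D
  tD : t ∈ D
  q8 : ∃ θ : D →* Q8 × Q8 × Q8, Function.Surjective θ ∧ ∀ d, θ d = 1 ↔ (d : Γ) ∈ zpowers t
  max : ∀ X : Subgroup Γ, (∀ x ∈ X, Commute x t) → (∀ g, Commute g t → ∀ x ∈ X, g * x * g⁻¹ ∈ X) →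
    (∀ x ∈ X, ∃ n : ℕ, x ^ 2 ^ n ∈ zpowers t) → X ≤ D
  fth : ∀ g, Commute g t → (∀ v, r t v = v → r g v = v) → g = 1 ∨ g = t
  o3 : ∀ X : Subgroup Γ, (∀ x ∈ X, Commute x t) → (∀ g, Commute g t → ∀ x ∈ X, g * x * g⁻¹ ∈ X) →
    (∀ x ∈ X, ∃ n : ℕ, x ^ 3 ^ n ∈ zpowers t) → X ≤ zpowers t
  com : ∃ a ∈ D, ∃ b ∈ D, ⁅a, b⁆ = t

/-- the involution is good -/
def GoodB (r : Γ →* Module.End F V) (β : LinearMap.BilinForm F V) (t : Γ) : Prop := ∃ D, GB r β t D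

end CL.F3B
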