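/-
Groups with a `3`-centralizer of shape `3^(1+8).2^(1+6).PSp₄(3)`: the quotient `C(t) / ⟨t⟩`.
-/
import Cfsg.Agent.F3C.BDefs
import Cfsg.Agent.F3C.KK
import Cfsg.Statements.S3337

set_option autoImplicit false
set_option linter.unusedSectionVars false

namespace CL.F3B

open Subgroup Cfsg CL.Grp CL.Loc CL.F3C CL.F3C.KK
open scoped commutatorElement

universe u

section

variable {G Γ V H : Type*} [Group G] [Group Γ] [AddCommGroup V] [Module F V] [Group H]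
  {z : G} {Q : Subgroup G} {p : G → Γ} {φ : G → V} {r : Γ →* Module.End F V} {β : LinearMap.BilinForm F V}
  {t a : G} {D : Subgroup Γ} {U U' : Submodule F V}

/-- the data for the quotient `C(t) / ⟨t⟩` -/
structure Cy (z : G) (Q : Subgroup G) (p : G → Γ) (φ : G → V) (r : Γ →* Module.End F V)
    (β : LinearMap.BilinForm F V) (t : G) (D : Subgroup Γ) (ψ : NN t z →* H) : Prop where
  h : St z Q p φ r β
  tt : t * t = 1
  tz : Commute t z
  g : GB r β (p t) D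
  hs : Function.Surjective ψ
  hk : ∀ n, ψ n = 1 ↔ (n : G) ∈ zpowers t

namespace Cy

variable {ψ : NN t z →* H} (c : Cy z Q p φ r β t D ψ)
include c

theorem pt1 : p t ≠ 1 := c.g.t1

theorem zt {x : G} (hx : x ∈ zpowers t) : x = 1 ∨ x = t := by
  obtain ⟨n, rfl⟩ := hx
  have h2 : t ^ (2 : ℤ) = 1 := by rw [zpow_two, c.tt]
  rcases Int.even_or_odd' n with ⟨k, rfl | rfl⟩ <;> simp [zpow_add, zpow_mul, h2]

theorem eq_one (ha : a ∈ Q) (h : a ∈ zpowers t) : a = 1 :=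
  (c.zt h).resolve_right fun e => c.pt1 (c.h.p_Q (e ▸ ha))

theorem inj {n m : NN t z} (hn : (n : G) ∈ Q) (hm : (m : G) ∈ Q) (e : ψ n = ψ m) : n = m := by
  have h1 : ψ (n * m⁻¹) = 1 := by rw [map_mul, map_inv, e, mul_inv_cancel]
  exact Subtype.ext (mul_inv_eq_one.1 (c.eq_one (Q.mul_mem hn (Q.inv_mem hm)) ((c.hk _).1 h1)))

theorem mem_bar {A : Subgroup G} (hA : A ≤ Q) {n : NN t z} (hn : (n : G) ∈ Q) : ψ n ∈ bar ψ A ↔ (n : G) ∈ A :=
  ⟨fun ⟨_, hm, e⟩ => c.inj (hA hm) hn e ▸ hm, fun e => ⟨n, e, rfl⟩⟩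

theorem equiv {A : Subgroup G} (hA : A ≤ Q) (hN : A ≤ NN t z) : Nonempty (A ≃* bar ψ A) := by
  let f : A →* bar ψ A := (ψ.comp (inclusion hN)).codRestrict _ fun x => ⟨inclusion hN x, x.2, rfl⟩
  refine ⟨MulEquiv.ofBijective f ⟨fun x y e => ?_, ?_⟩⟩
  · exact inclusion_injective hN (c.inj (hA x.2) (hA y.2) (congrArg Subtype.val e))
  · rintro ⟨_, n, hn, rfl⟩
    exact ⟨⟨n, hn⟩, rfl⟩

variable [Finite G]

theorem QU_le (hU : U ≤ Fx r (p t)) : QU c.h U ≤ NN t z := fun _ ha =>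
  memN (c.h.comm_of_fix c.tt c.tz ha.1 (mem_Fx.1 (hU ha.2))).symm (c.h.le _ ha.1)

theorem mem_QF (n : NN t z) (hn : (n : G) ∈ Q) : (n : G) ∈ QU c.h (Fx r (p t)) :=
  ⟨hn, mem_Fx.2 (by rw [← c.h.act t c.tz _ hn, ← (nt n).eq, mul_inv_cancel_right])⟩

theorem ndF : ∀ u ∈ Fx r (p t), (∀ v ∈ Fx r (p t), β u v = 0) → u = 0 := fun u hu h =>
  c.g.ndF u (mem_Fx.1 hu) fun v hv => h v (mem_Fx.2 hv)

theorem cF : Nat.card (Fx r (p t)) = 729 := by
  rw [← c.g.cF, ← Nat.card_coe_set_eq]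
  exact Nat.card_congr (Equiv.subtypeEquivRight fun _ => mem_Fx)

theorem card_bar (hU : U ≤ Fx r (p t)) : Nat.card (bar ψ (QU c.h U)) = Nat.card U * 3 := by
  obtain ⟨e⟩ := c.equiv (A := QU c.h U) (fun _ ha => ha.1) (c.QU_le hU)
  rw [← Nat.card_congr e.toEquiv, card_QU]

theorem extra_bar (hU : U ≤ Fx r (p t)) (nd : ∀ u ∈ U, (∀ v ∈ U, β u v = 0) → u = 0) (h1 : 1 < Nat.card U) :
    IsExtraspecial 3 (bar ψ (QU c.h U)) := by
  obtain ⟨e⟩ := c.equiv (A := QU c.h U) (fun _ ha => ha.1) (c.QU_le hU)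
  exact extra_of_mulEquiv (extra_QU c.h nd h1) e

theorem normal : (bar ψ (QU c.h (Fx r (p t)))).Normal := by
  refine Normal.map ⟨fun n hn m => ?_⟩ _ c.hs
  exact c.mem_QF (m * n * m⁻¹) (c.h.conj_mem (nz m) hn.1)

/-- the kernel of the map onto `H / Q̃` -/
theorem mem_Qb {n : NN t z} : ψ n ∈ bar ψ (QU c.h (Fx r (p t))) ↔ p n ∈ zpowers (p t) := by
  constructor
  · rintro ⟨m, hm, e⟩
    have h1 : ψ (m⁻¹ * n) = 1 := by rw [map_mul, map_inv, e, inv_mul_cancel]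
    have h2 : (n : G) = m * (m⁻¹ * n : NN t z) := by simp
    rw [h2, c.h.pmul _ _ (nz m) (nz _), c.h.p_Q (show (m : G) ∈ Q from hm.1), one_mul]
    rcases c.zt ((c.hk _).1 h1) with e' | e' <;> rw [e']
    exacts [c.h.p_one ▸ one_mem _, mem_zpowers _]
  · rintro ⟨k, hk⟩
    let t' : NN t z := ⟨t, memN (Commute.refl t) c.tz⟩
    have h1 : p (t' ^ k : NN t z) = p t ^ k :=
      map_zpow (c.h.ph.comp (inclusion (inf_le_right : NN t z ≤ _))) t' k
    have h2 : ((n * (t' ^ k)⁻¹ : NN t z) : G) ∈ Q := (c.h.p_eq (nz n) (nz _)).1 (hk.symm.trans h1.symm)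
    refine ⟨n * (t' ^ k)⁻¹, c.mem_QF _ h2, ?_⟩
    rw [map_mul, map_inv, (c.hk (t' ^ k)).2 ⟨k, rfl⟩, inv_one, mul_one]

theorem conj_eq {n m : NN t z} (hm : (m : G) ∈ Q) (e : ψ m * ψ n = ψ n * ψ m) : (n : G) * m * (n : G)⁻¹ = m :=
  congrArg Subtype.val (c.inj (n := n * m * n⁻¹) (c.h.conj_mem (nz n) hm) hm
    (by rw [map_mul, map_mul, map_inv, ← e, mul_inv_cancel_right]))

theorem cent_le : centralizer (bar ψ (QU c.h (Fx r (p t))) : Set H) ≤ bar ψ (QU c.h (Fx r (p t))) := fun x hx => by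
  obtain ⟨n, rfl⟩ := c.hs x
  rcases c.g.fth (p n) (c.h.p_comm (nz n) c.tz (nt n)) (fun v hv => by
    obtain ⟨a, ha, rfl⟩ := c.h.onto v
    have h1 : a ∈ QU c.h (Fx r (p t)) := ⟨ha, mem_Fx.2 hv⟩
    rw [← c.h.act _ (nz n) _ ha, c.conj_eq (m := ⟨a, c.QU_le le_rfl h1⟩) ha (hx _ ⟨_, h1, rfl⟩)]) with e | e
  · exact c.mem_Qb.2 (e ▸ one_mem _)
  · exact c.mem_Qb.2 (e ▸ mem_zpowers _)

theorem cen_le {x : H} (hx : x ∈ centralizer (bar ψ (QU c.h (Fx r (p t))) : Set H)) : x ∈ bar ψ (zpowers z) := by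
  obtain ⟨n, hn, rfl⟩ := c.cent_le hx
  refine ⟨n, cen_QU c.h c.ndF hn fun b hb => ?_, rfl⟩
  exact mul_inv_eq_iff_eq_mul.1 (c.conj_eq (m := ⟨b, c.QU_le le_rfl hb⟩) hb.1 (hx _ ⟨_, hb, rfl⟩))

theorem center_eq : center H = bar ψ (zpowers z) := by
  refine le_antisymm (fun x hx => c.cen_le fun y _ => mem_center_iff.1 hx y) ?_
  rintro _ ⟨n, hn, rfl⟩
  refine mem_center_iff.2 fun y => ?_
  obtain ⟨m, rfl⟩ := c.hs y
  rw [← map_mul, ← map_mul]
  exact congrArg ψ (Subtype.ext (c.h.zc hn (nz m)).eq)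

theorem center_le : center H ≤ bar ψ (QU c.h U) := c.center_eq ▸ map_mono (comap_mono (Z_le_QU c.h U))

theorem hZZ : (center (bar ψ (QU c.h (Fx r (p t))))).map (Subgroup.subtype _) = center H := by
  refine le_antisymm ?_ fun x hx => ⟨⟨x, c.center_le hx⟩,
    mem_center_iff.2 fun y => Subtype.ext (mem_center_iff.1 hx y), rfl⟩
  rintro _ ⟨x, hx, rfl⟩
  rw [c.center_eq]
  exact c.cen_le fun y hy => congrArg Subtype.val (mem_center_iff.1 hx ⟨y, hy⟩)

theorem core_eq : pCore 3 H = bar ψ (QU c.h (Fx r (p t))) := by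
  have := c.normal
  refine le_antisymm (fun x hx => ?_) (le_pCore (IsPGroup.map
    ((c.h.isPGroup.to_le (H := QU c.h (Fx r (p t))) fun _ ha => ha.1).comap_subtype) ψ))
  obtain ⟨n, rfl⟩ := c.hs x
  let p' := c.h.ph.comp (inclusion (inf_le_right : NN t z ≤ _))
  refine c.mem_Qb.2 (c.g.o3 (((pCore 3 H).comap ψ).map p') ?_ ?_ ?_ ⟨n, hx, rfl⟩)
  · rintro _ ⟨m, -, rfl⟩
    exact c.h.p_comm (nz m) c.tz (nt m)
  · rintro g hg _ ⟨m, hm, rfl⟩
    obtain ⟨k, h1, h2, rfl⟩ := c.h.cover c.tt c.tz hg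
    refine ⟨⟨k, memN h2 h1⟩ * m * ⟨k, memN h2 h1⟩⁻¹, Normal.conj_mem inferInstance m hm _, ?_⟩
    rw [map_mul, map_mul, map_inv]; rfl
  · rintro _ ⟨m, hm, rfl⟩
    obtain ⟨k, hk⟩ := pCore_isPGroup 3 H ⟨ψ m, hm⟩
    refine ⟨k, ?_⟩
    rw [← map_pow]
    exact c.mem_Qb.1 (by rw [map_pow, show ψ m ^ 3 ^ k = 1 from congrArg Subtype.val hk]; exact one_mem _)

theorem fstar_eq : bar ψ (QU c.h (Fx r (p t))) = generalizedFittingSubgroup H := by
  have := Finite.of_surjective _ c.hs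
  rw [fstar_eq_pCore_iff.2 (by rw [c.core_eq]; exact c.cent_le), c.core_eq]

theorem core_two [(bar ψ (QU c.h (Fx r (p t)))).Normal] :
    Nonempty (pCore 2 (H ⧸ bar ψ (QU c.h (Fx r (p t)))) ≃* Q8 × Q8 × Q8) := by
  have := Finite.of_surjective _ c.hs
  let p' := c.h.ph.comp (inclusion (inf_le_right : NN t z ≤ _))
  let χ := (QuotientGroup.mk' (bar ψ (QU c.h (Fx r (p t))))).comp ψ
  have hχ : Function.Surjective χ := (QuotientGroup.mk'_surjective _).comp c.hs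
  have hker : ∀ n, χ n = 1 ↔ p' n ∈ zpowers (p t) := fun n => (QuotientGroup.eq_one_iff _).trans c.mem_Qb
  obtain ⟨θ, h1, h2⟩ := c.g.q8
  let E := D.comap p'
  let α : E →* Q8 × Q8 × Q8 := θ.comp ((p'.comp E.subtype).codRestrict D fun n => n.2)
  let γ := χ.comp E.subtype
  have hα : Function.Surjective α := fun x => by
    obtain ⟨⟨d, hd⟩, rfl⟩ := h1 x
    obtain ⟨k, k1, k2, rfl⟩ := c.h.cover c.tt c.tz (c.g.Dt d hd)
    exact ⟨⟨⟨k, memN k2 k1⟩, hd⟩, rfl⟩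
  have hk : γ.ker = α.ker := Subgroup.ext fun n => (hker n).trans (h2 ⟨_, n.2⟩).symm
  have e : γ.range ≃* Q8 × Q8 × Q8 := (QuotientGroup.quotientKerEquivRange γ).symm.trans
    ((QuotientGroup.quotientMulEquivOfEq hk).trans (QuotientGroup.quotientKerEquivOfSurjective α hα))
  have hr : γ.range = E.map χ := by rw [MonoidHom.range_comp, range_subtype]
  have hn : E.Normal := ⟨fun n hn m => by
    rw [mem_comap, map_mul, map_mul, map_inv]
    exact c.g.Dn _ (c.h.p_comm (nz m) c.tz (nt m)) _ hn⟩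
  have : γ.range.Normal := hr ▸ hn.map χ hχ
  refine ⟨(MulEquiv.subgroupCongr (le_antisymm (fun x hx => ?_) (le_pCore (IsPGroup.of_card (n := 9) ?_)))).trans e⟩
  · obtain ⟨n, rfl⟩ := hχ x
    refine ⟨⟨n, c.g.max (((pCore 2 _).comap χ).map p') ?_ ?_ ?_ ⟨n, hx, rfl⟩⟩, rfl⟩
    · rintro _ ⟨m, -, rfl⟩
      exact c.h.p_comm (nz m) c.tz (nt m)
    · rintro g hg _ ⟨m, hm, rfl⟩
      obtain ⟨k, h1, h2, rfl⟩ := c.h.cover c.tt c.tz hg
      refine ⟨⟨k, memN h2 h1⟩ * m * ⟨k, memN h2 h1⟩⁻¹, Normal.conj_mem inferInstance m hm _, ?_⟩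
      rw [map_mul, map_mul, map_inv]; rfl
    · rintro _ ⟨m, hm, rfl⟩
      obtain ⟨k, hk⟩ := pCore_isPGroup 2 _ ⟨χ m, hm⟩
      exact ⟨k, by rw [← map_pow, ← hker, map_pow]; exact congrArg Subtype.val hk⟩
  · rw [Nat.card_congr e.toEquiv]
    simp [QuaternionGroup.card]

end Cy

end

/-- the conclusion of the recognition of `²E₆(2)` -/
def E6c (X : Type*) [Group X] : Prop := ∃ N : Subgroup X, N.Normal ∧
  (∃ (K : Type) (_ : Field K) (_ : Fintype K), Fintype.card K = 4 ∧ Nonempty (N ≃* Cfsg.Lie.twistedE6 K 2)) ∧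
  centralizer (N : Set X) = ⊥ ∧ N.index ∣ 6

theorem kB (hS : type_of% @Cfsg.CfsgFrozen.S3337.{u}) {G : Type u} {Γ V : Type*} [Group G] [Finite G] [Group Γ]
    [AddCommGroup V] [Module F V] {z : G} {Q : Subgroup G} {p : G → Γ} {φ : G → V} {r : Γ →* Module.End F V}
    {β : LinearMap.BilinForm F V} (h : St z Q p φ r β) {t y e e' : G} (tw : Two z t y e e') {D : Subgroup Γ}
    (g : GB r β (p t) D) [((zpowers t).subgroupOf (centralizer {t})).Normal] :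
    E6c (centralizer ({t} : Set G) ⧸ (zpowers t).subgroupOf (centralizer {t})) := by
  let mk := QuotientGroup.mk' ((zpowers t).subgroupOf (centralizer {t}))
  let f : NN t z →* _ := mk.comp (inclusion inf_le_left)
  have hf : ∀ n, f n = 1 ↔ (n : G) ∈ zpowers t := fun n => QuotientGroup.eq_one_iff _
  have c : Cy z Q p φ r β t D f.rangeRestrict := ⟨h, tw.tt, tw.tz, g, f.rangeRestrict_surjective,
    fun n => Subtype.ext_iff.trans (hf n)⟩
  have := c.normal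
  obtain ⟨h1⟩ := c.core_two
  let z' : NN t z := ⟨z, memN tw.tz.symm (Commute.refl z)⟩
  have hZ : (center f.range).map f.range.subtype = zpowers (f z') := by
    have h3 : (zpowers z).subgroupOf (NN t z) = zpowers z' := Subgroup.ext fun n =>
      ⟨fun ⟨k, hk⟩ => ⟨k, Subtype.ext hk⟩, fun ⟨k, hk⟩ => ⟨k, congrArg Subtype.val hk⟩⟩
    rw [c.center_eq, bar, h3, MonoidHom.map_zpowers, MonoidHom.map_zpowers]; rfl
  have key : ∀ x : G, x ^ 3 = 1 → ∀ a : G, Commute a t → a ^ 3 = 1 → x * a⁻¹ ∈ zpowers t → x = a :=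
    fun x hx a ha ha3 hm => by
    rcases c.zt hm with e | e
    · exact mul_inv_eq_one.1 e
    · rw [mul_inv_eq_iff_eq_mul] at e
      rw [e, ha.symm.mul_pow, ha3, mul_one, pow_succ, pow_two, tw.tt, one_mul] at hx
      exact absurd (by rw [hx, h.p_one]) c.pt1
  have hH : f.range = centralizer (zpowers (f z') : Set _) := by
    refine le_antisymm ?_ fun x hx => ?_
    · rintro _ ⟨n, rfl⟩ _ ⟨k, rfl⟩
      exact (((show Commute z' n from Subtype.ext (nz n).symm.eq).map f).zpow_left k).eq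
    · obtain ⟨k, rfl⟩ := QuotientGroup.mk'_surjective _ x
      have h3 : mk (k * inclusion inf_le_left z' * k⁻¹ * (inclusion inf_le_left z')⁻¹) = 1 := by
        rw [map_mul, map_mul, map_mul, map_inv, map_inv]
        change mk k * f z' * _ * (f z')⁻¹ = 1
        rw [← show f z' * mk k = mk k * f z' from hx _ (mem_zpowers _)]
        group
      have h4 := key ((k : G) * z * (k : G)⁻¹) (by rw [conj_pow, h.z3]; simp) z tw.tz.symm h.z3
        (mem_subgroupOf.1 ((QuotientGroup.eq_one_iff _).1 h3))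
      exact ⟨⟨k, k.2, mem_centralizer_singleton_iff.2 (mul_inv_eq_iff_eq_mul.1 h4)⟩, rfl⟩
  let y' : NN t z := ⟨y, memN tw.ty.symm tw.zy.symm⟩
  have hzy : Commute (f z') (f y') := (show Commute z' y' from Subtype.ext tw.zy.eq).map f
  have hz3 : f z' ^ 3 = 1 := by rw [← map_pow, show z' ^ 3 = 1 from Subtype.ext h.z3, map_one]
  have hy3 : f y' ^ 3 = 1 := by rw [← map_pow, show y' ^ 3 = 1 from Subtype.ext tw.y3, map_one]
  have hp : ∀ x : _ ⧸ (zpowers t).subgroupOf (centralizer {t}), x ^ 3 = 1 → IsPGroup 3 (zpowers x) := fun x hx =>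
    by
      rintro ⟨_, k, rfl⟩
      refine ⟨1, Subtype.ext ?_⟩
      change (x ^ k) ^ (3 ^ 1) = 1
      rw [pow_one, ← zpow_natCast, ← zpow_mul, mul_comm, zpow_mul, zpow_natCast, hx, one_zpow]
  obtain ⟨S, hS'⟩ := (IsPGroup.to_sup_of_normal_right' (hp _ hz3) (hp _ hy3) (zpowers_le.2
    (centralizer_le_normalizer _ (by rintro _ ⟨k, rfl⟩; exact (hzy.symm.zpow_left k).eq)))).exists_le_sylow
  refine (hS f.range _ c.fstar_eq (c.extra_bar le_rfl c.ndF (by rw [c.cF]; norm_num))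
    (by rw [c.card_bar le_rfl, c.cF]; norm_num) c.hZZ h1 _ hZ.symm hH S (le_sup_left.trans hS') fun w => ?_).2
  · let e₀ : centralizer ({t} : Set G) := ⟨e', mem_centralizer_singleton_iff.2 tw.et'⟩
    have h3 : MulAut.conj (mk e₀) (f z') = f z' * f y' := by
      rw [← map_mul]
      change mk e₀ * mk _ * (mk e₀)⁻¹ = mk _
      rw [← map_inv, ← map_mul, ← map_mul]
      exact congrArg mk (Subtype.ext tw.ez')
    have h4 := w.2 (mk e₀) (by
      rw [MonoidHom.map_zpowers, zpowers_le]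
      exact h3 ▸ hS' (mul_mem_sup (mem_zpowers _) (mem_zpowers _)))
    rw [MonoidHom.map_zpowers] at h4
    have h5 : f z' * f y' ∈ zpowers (f z') := h4 ▸ h3 ▸ mem_zpowers _
    obtain ⟨k, hk⟩ := (mul_mem_cancel_left (mem_zpowers _)).1 h5
    have h6 : f (y' * (z' ^ k)⁻¹) = 1 := by rw [map_mul, map_inv, map_zpow, ← show f z' ^ k = f y' from hk, mul_inv_cancel]
    refine tw.ne ⟨k, (key y tw.y3 (z ^ k) (tw.tz.symm.zpow_left k) ?_ ((hf _).1 h6)).symm⟩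
    rw [← zpow_natCast, ← zpow_mul, mul_comm, zpow_mul, zpow_natCast, h.z3, one_zpow]

end CL.F3B
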