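/-
Groups with a `3`-centralizer of shape `3^(1+8).2^(1+6).PSp₄(3)`: from `C(t) / ⟨t⟩` to the Baby Monster.
-/
import Cfsg.Agent.F3C.BK
import Cfsg.Agent.Chev.E6Two5
import Cfsg.Agent.Cls.OutGrp
import Cfsg.Agent.Grp.CoresPi
import Cfsg.Statements.S3271
import Cfsg.Statements.S2084

set_option autoImplicit false
set_option linter.unusedSectionVars false

namespace CL.F3B

open Subgroup Cfsg CL.F3C CL.F3C.KK
open scoped commutatorElement

universe u

theorem zp2 {G : Type*} [Group G] {t x : G} (tt : t * t = 1) (hx : x ∈ zpowers t) : x = 1 ∨ x = t := by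
  obtain ⟨n, rfl⟩ := hx
  have h2 : t ^ (2 : ℤ) = 1 := by rw [zpow_two, tt]
  rcases Int.even_or_odd' n with ⟨k, rfl | rfl⟩ <;> simp [zpow_add, zpow_mul, h2]

/-- the preimage of a perfect normal subgroup of index dividing six is perfect -/
theorem perf_comap {C X : Type*} [Group C] [Finite C] [Group X] {mk : C →* X} (hs : Function.Surjective mk) {t : C}
    (tt : t * t = 1) (tc : ∀ x, Commute t x) (hk : ∀ x, mk x = 1 → x ∈ zpowers t) {N : Subgroup X} [N.Normal]
    (hN : ⁅N, N⁆ = N) (h6 : N.index ∣ 6) {T : Subgroup C} (hT : IsPGroup 2 T) {a b : C} (ha : a ∈ T) (hb : b ∈ T)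
    (e : ⁅a, b⁆ = t) : ⁅N.comap mk, N.comap mk⁆ = N.comap mk := by
  have h1 : ∀ x ∈ N.comap mk, ∃ k ∈ ⁅N.comap mk, N.comap mk⁆, x = k ∨ x = k * t := fun x hx => by
    obtain ⟨k, k1, k2⟩ : mk x ∈ (⁅N.comap mk, N.comap mk⁆).map mk := by
      rw [map_commutator, map_comap_eq_self_of_surjective hs, hN]; exact hx
    exact ⟨k, k1, (zp2 tt (hk (k⁻¹ * x) (by rw [map_mul, map_inv, k2, inv_mul_cancel]))).imp
      (fun h => (inv_mul_eq_one.1 h).symm) inv_mul_eq_iff_eq_mul.1⟩
  have hn : (⁅N.comap mk, N.comap mk⁆).Normal := inferInstance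
  have h2 : ∀ x ∈ N.comap mk, ∀ y, ⁅x, y⁆ ∈ ⁅N.comap mk, N.comap mk⁆ := fun x hx y => by
    obtain ⟨k, k1, h⟩ := h1 x hx
    have : ⁅x, y⁆ = k * (y * k⁻¹ * y⁻¹) := by
      rcases h with rfl | rfl
      · group
      · rw [commutatorElement_def, mul_assoc k t, (tc y).eq]; group
    exact this ▸ mul_mem k1 (hn.conj_mem _ (inv_mem k1) y)
  have h3 : t ∈ ⁅N.comap mk, N.comap mk⁆ := by
    let π := (QuotientGroup.mk' N).comp mk
    have hπ : ∀ x, π x = 1 → x ∈ N.comap mk := fun x h => (QuotientGroup.eq_one_iff (mk x)).1 h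
    have : Finite X := Finite.of_surjective _ hs
    obtain ⟨n, h4⟩ := (hT.map π).exists_card_eq
    have h5 : 2 ^ n ∣ 2 := (Nat.Coprime.pow_left n (by norm_num : Nat.Coprime 2 3)).dvd_of_dvd_mul_right
      (h4 ▸ (card_subgroup_dvd_card _).trans h6)
    have := Fintype.ofFinite (T.map π)
    have h7 : ¬ 2 < Fintype.card (T.map π) := by
      rw [← Nat.card_eq_fintype_card, h4]; exact (Nat.le_of_dvd two_pos h5).not_gt
    rw [← e]
    by_cases c1 : π a = 1
    · exact h2 a (hπ a c1) b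
    by_cases c2 : π b = 1
    · exact commutatorElement_inv b a ▸ inv_mem (h2 b (hπ b c2) a)
    have c3 : π a = π b := by_contra fun c3 => h7 (Fintype.two_lt_card_iff.2
      ⟨⟨π a, a, ha, rfl⟩, ⟨π b, b, hb, rfl⟩, 1, Subtype.coe_ne_coe.1 c3, Subtype.coe_ne_coe.1 c1,
        Subtype.coe_ne_coe.1 c2⟩)
    have := hn.conj_mem _ (inv_mem (h2 (a⁻¹ * b) (hπ _ (by rw [map_mul, map_inv, c3, inv_mul_cancel])) a)) a
    rwa [show a * ⁅a⁻¹ * b, a⁆⁻¹ * a⁻¹ = ⁅a, b⁆ by group] at this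
  refine le_antisymm (commutator_le_left _ _) fun x hx => ?_
  obtain ⟨k, k1, rfl | rfl⟩ := h1 x hx
  exacts [k1, mul_mem k1 h3]

variable {G : Type u} {Γ V L : Type*} [Group G] [Finite G] [Group Γ] [AddCommGroup V] [Module F V] [Group L]
  {z : G} {Q : Subgroup G} {p : G → Γ} {φ : G → V} {r : Γ →* Module.End F V} {β : LinearMap.BilinForm F V}
  {R : Subgroup Γ} {s : Γ} {π : Γ →* L} {t y e e' : G} {D : Subgroup Γ}

theorem mem_of_normal (h : St z Q p φ r β) (A : GA r β R s π) (hO : pPrimeCore 3 G = ⊥) (N : Subgroup G) [N.Normal]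
    (hN : N ≠ ⊥) : z ∈ N := by
  have h3 : 3 ∣ Nat.card N := by_contra fun h3 => hN (le_bot_iff.1 (hO ▸ Grp.le_pPrimeCore_of_not_dvd h3))
  let _ : MulAction Q N := MulAction.compHom N ((MulAut.conjNormal (H := N)).comp Q.subtype)
  obtain ⟨x, hx, x1⟩ := h.isPGroup.exists_fixed_point_of_prime_dvd_card_of_fixed_point N h3 (a := 1)
    fun q => map_one (MulAut.conjNormal (q : G))
  have : (x : G) ∈ zpowers z := h.cent A fun a ha =>
    (mul_inv_eq_iff_eq_mul.1 (congrArg Subtype.val (hx ⟨a, ha⟩)) : Commute a x).symm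
  exact zpowers_le.2 x.2 (h.zp_symm T.refl this fun e => x1 (Subtype.ext e.symm))

theorem lift_com (h : St z Q p φ r β) (H : Two z t y e e') (g : GB r β (p t) D) :
    ∃ T : Subgroup (NN t z), IsPGroup 2 T ∧ ∃ a ∈ T, ∃ b ∈ T, ((⁅a, b⁆ : NN t z) : G) = t := by
  let p' := h.ph.comp (inclusion (inf_le_right : NN t z ≤ _))
  let E := D.comap p'
  let α : E →* D := (p'.comp E.subtype).codRestrict D fun n => n.2
  have hα : Function.Surjective α := fun ⟨d, hd⟩ => by
    obtain ⟨k, k1, k2, rfl⟩ := h.cover H.tt H.tz (g.Dt d hd)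
    exact ⟨⟨⟨k, memN k2 k1⟩, hd⟩, rfl⟩
  have pt : p t * p t = 1 := by rw [← h.pmul _ _ H.tz H.tz, H.tt, h.p_one]
  have hD : IsPGroup 2 D := fun d => by
    obtain ⟨θ, -, h2⟩ := g.q8
    refine ⟨3, Subtype.ext ?_⟩
    have := (h2 (d ^ 4)).1 (by
      have h4 := (by decide : ∀ x : Q8, x ^ 4 = 1)
      rw [map_pow]; exact Prod.ext (h4 _) (Prod.ext (h4 _) (h4 _)))
    rw [show 2 ^ 3 = 4 * 2 from rfl, pow_mul, coe_pow, sq]
    rcases zp2 pt this with e | e <;> simp [e, pt]
  let t' : E := ⟨⟨t, memN (Commute.refl t) H.tz⟩, g.tD⟩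
  obtain ⟨S, hS⟩ := (show IsPGroup 2 (zpowers t') from fun ⟨x, hx⟩ => ⟨1, Subtype.ext (by
    rcases zp2 (show t' * t' = 1 from Subtype.ext (Subtype.ext H.tt)) hx with rfl | rfl
    exacts [one_pow _, Subtype.ext (Subtype.ext ((sq t).trans H.tt))])⟩).exists_le_sylow
  have : Finite D := Finite.of_surjective _ hα
  have h1 : (S : Subgroup E).map α = ⊤ := ((S.mapSurjective hα).is_maximal' (hD.to_subgroup ⊤) le_top).symm
  obtain ⟨a, ha, b, hb, e1⟩ := g.com
  obtain ⟨a, a1, a2⟩ := h1.ge (mem_top ⟨a, ha⟩)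
  obtain ⟨b, b1, b2⟩ := h1.ge (mem_top ⟨b, hb⟩)
  refine ⟨_, S.isPGroup'.map E.subtype, _, ⟨a, a1, rfl⟩, _, ⟨b, b1, rfl⟩, ?_⟩
  have h2 : ⁅a, b⁆ * t'⁻¹ ∈ (S : Subgroup E) :=
    mul_mem (mul_mem (mul_mem (mul_mem a1 b1) (inv_mem a1)) (inv_mem b1)) (inv_mem (hS (mem_zpowers _)))
  obtain ⟨n, hn⟩ := S.isPGroup' ⟨_, h2⟩
  have h3 : α (⁅a, b⁆ * t'⁻¹) = 1 := by
    rw [map_mul, map_commutatorElement, a2, b2, map_inv, mul_inv_eq_one]
    exact Subtype.ext e1
  have h4 : (⁅a, b⁆ * t'⁻¹) ^ 3 = 1 := Subtype.ext (Subtype.ext (h.exp _ ((h.pker _ (nz _)).1 (congrArg Subtype.val h3))))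
  have h5 := pow_gcd_eq_one.2 ⟨h4, (congrArg Subtype.val hn : (⁅a, b⁆ * t'⁻¹) ^ 2 ^ n = 1)⟩
  rw [Nat.Coprime.gcd_eq_one (Nat.Coprime.pow_right n (by norm_num)), pow_one, mul_inv_eq_one] at h5
  exact congrArg (fun x : E => ((x : NN t z) : G)) h5

theorem finB (h71 : type_of% @Cfsg.CfsgFrozen.S3271.{u, 0}) (h84 : type_of% @Cfsg.CfsgFrozen.S2084)
    (h : St z Q p φ r β) (A : GA r β R s π) (hO : pPrimeCore 3 G = ⊥) (H : Two z t y e e') (g : GB r β (p t) D)
    (hC : ∀ [((zpowers t).subgroupOf (centralizer {t})).Normal],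
      E6c (centralizer ({t} : Set G) ⧸ (zpowers t).subgroupOf (centralizer {t}))) : Spor.IsoB G := by
  have t1 : t ≠ 1 := fun e1 => g.t1 (by rw [e1, h.p_one])
  have mC : ∀ {x : G}, x ∈ centralizer {t} ↔ Commute x t := mem_centralizer_singleton_iff
  have zC : zpowers t ≤ centralizer {t} := zpowers_le.2 (mC.2 rfl)
  have ct : ∀ x ∈ zpowers t, ∀ c ∈ centralizer {t}, Commute c x := by
    rintro _ ⟨n, rfl⟩ c hc; exact (mC.1 hc).zpow_right n
  have : ((zpowers t).subgroupOf (centralizer {t})).Normal := ⟨fun x hx c => by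
    rwa [show c * x = x * c from Subtype.ext (ct _ hx _ c.2), mul_inv_cancel_right]⟩
  obtain ⟨N, hn, ⟨K, _, _, hK, ⟨eN⟩⟩, hc, h6⟩ := hC
  obtain ⟨c6, s6⟩ := Chev.card_twE6_two hK
  have cN : Nat.card N = 76532479683774853939200 := (Nat.card_congr eN.toEquiv).trans c6
  have sN : IsSimpleGroup N := eN.isSimpleGroup
  let mk := QuotientGroup.mk' ((zpowers t).subgroupOf (centralizer {t}))
  have hs : Function.Surjective mk := QuotientGroup.mk'_surjective _
  have hk : ∀ x, mk x = 1 ↔ (x : G) ∈ zpowers t := fun x => QuotientGroup.eq_one_iff x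
  have zt : z ∉ zpowers t := fun hz => by
    rcases zp2 H.tt hz with e1 | e1
    · exact h.z1 e1
    · have := h.z3
      rw [e1, pow_succ, sq, H.tt, one_mul] at this
      exact t1 this
  have nb : N ≠ ⊥ := fun e1 => by rw [e1, card_bot] at cN; omega
  have pN : ⁅N, N⁆ = N := by
    rw [← map_subtype_commutator]
    rcases (inferInstance : (commutator N).Normal).eq_bot_or_eq_top with e1 | e1
    · refine absurd (le_bot_iff.1 (hc ▸ commutator_eq_bot_iff_le_centralizer.1 ?_)) nb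
      rw [← map_subtype_commutator, e1, Subgroup.map_bot]
    · rw [e1, ← MonoidHom.range_eq_map, range_subtype]
  let t' : centralizer ({t} : Set G) := ⟨t, mC.2 rfl⟩
  obtain ⟨T, hT, a, ha, b, hb, hab⟩ := lift_com h H g
  have p0 := perf_comap hs (t := t') (Subtype.ext H.tt) (fun x => Subtype.ext (mC.1 x.2).symm.eq)
    (fun x hx => let ⟨n, hn⟩ := (hk x).1 hx; ⟨n, Subtype.ext hn⟩) pN h6 (hT.map (inclusion inf_le_left))
    (mem_map_of_mem _ ha) (mem_map_of_mem _ hb) (Subtype.ext hab)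
  let B := (N.comap mk).map (centralizer {t}).subtype
  have BC : B ≤ centralizer {t} := map_subtype_le _
  have mB : ∀ x : centralizer ({t} : Set G), (x : G) ∈ B ↔ mk x ∈ N := fun x =>
    mem_map_iff_mem (Subgroup.subtype_injective _)
  have tB : t ∈ B := (mB t').2 (by rw [(hk t').2 (mem_zpowers t)]; exact one_mem _)
  have cB : centralizer (B : Set G) = zpowers t := by
    refine le_antisymm (fun x hx => (hk ⟨x, mC.2 (hx t tB).symm⟩).1 (mem_bot.1 (hc ▸ fun w hw => ?_)))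
      fun x hx w hw => ct x hx w (BC hw)
    obtain ⟨w, rfl⟩ := hs w
    rw [← map_mul, ← map_mul]
    exact congrArg mk (Subtype.ext (hx _ ((mB w).2 hw)))
  let ν : B →* N := (mk.comp (inclusion BC)).codRestrict N fun x => (mB (inclusion BC x)).1 x.2
  have hν : Function.Surjective ν := fun ⟨w, hw⟩ => by
    obtain ⟨w, rfl⟩ := hs w
    exact ⟨⟨w, (mB w).2 hw⟩, rfl⟩
  have kν : center B = ν.ker := Subgroup.ext fun x => by
    rw [MonoidHom.mem_ker, Subtype.ext_iff, show ((ν x : N) : _) = mk (inclusion BC x) from rfl, coe_one, hk, ← cB,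
      mem_center_iff]
    exact ⟨fun e1 w hw => congrArg Subtype.val (e1 ⟨w, hw⟩), fun e1 w => Subtype.ext (e1 _ w.2)⟩
  have eB : B ⧸ center B ≃* N :=
    (QuotientGroup.quotientMulEquivOfEq kν).trans (QuotientGroup.quotientKerEquivOfSurjective ν hν)
  have ot : orderOf t = 2 := orderOf_eq_prime (by rw [sq, H.tt]) t1
  have c2 : Nat.card (zpowers t) = 2 := by rw [Nat.card_zpowers, ot]
  have nt' : ∀ x ∈ normalizer (zpowers t : Set G), x ∈ centralizer {t} := fun x hx =>
    mC.2 (mul_inv_eq_iff_eq_mul.1 ((zp2 H.tt ((mem_normalizer_iff.1 hx t).1 (mem_zpowers t))).resolve_left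
      fun e1 => t1 (conj_eq_one_iff.1 e1)))
  have st : IsStandardSubgroup B := by
    refine ⟨⟨isPerfect_iff.2 (by rw [← map_commutator, p0]), eB.isSimpleGroup⟩, ⟨by rw [cB, c2]; decide, fun x hx => ?_⟩,
      fun x _ e1 => ?_, le_antisymm (fun x hx => ?_) fun x hx => ?_⟩
    · rw [cB] at hx ⊢
      rw [show zpowers t ⊓ (zpowers t).map (MulAut.conj x).toMonoidHom = ⊥ from ?_, card_bot]
      · decide
      refine eq_bot_iff.2 fun w hw => (zp2 H.tt hw.1).resolve_right fun e1 => hx (centralizer_le_normalizer _ ?_)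
      obtain ⟨v, hv, e2⟩ := hw.2
      rcases zp2 H.tt hv with rfl | rfl
      · exact absurd (e1.symm.trans (e2.symm.trans (map_one _))) t1
      · exact fun w hw => (ct w hw x (mC.2 (mul_inv_eq_iff_eq_mul.1 (e2.trans e1)))).symm.eq
    · rw [commutator_comm, commutator_eq_bot_iff_le_centralizer, cB] at e1
      have h1 := card_le_of_le e1
      rw [card_map_of_injective (MulAut.conj x).injective, c2] at h1
      have h2 := Nat.card_le_card_of_surjective ν hν
      omega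
    · refine mem_normalizer_fintype fun w hw v hv => ?_
      have := hw _ ((mem_normalizer_iff.1 (inv_mem hx) v).1 hv)
      simpa [mul_assoc] using congrArg (x * · * x⁻¹) this
    · rw [cB] at hx
      refine mem_normalizer_fintype ?_
      rintro _ ⟨w, hw, rfl⟩
      exact ⟨_, (inferInstance : (N.comap mk).Normal).conj_mem w hw ⟨x, nt' x hx⟩, rfl⟩
  have ho : oddCore G = ⊥ := by_contra fun ho => by
    have h1 := mem_of_normal h A hO _ ho
    let O := ((oddCore G).subgroupOf (centralizer {t})).map mk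
    have hO' : O.Normal := Normal.map inferInstance mk hs
    have h2 : ¬ 2 ∣ Nat.card O := fun h2 => Grp.not_dvd_card_pPrimeCore 2 G
      (h2.trans ((card_map_dvd _ _).trans (card_comap_dvd_of_injective _ _ (Subgroup.subtype_injective _))))
    have h3 : Disjoint O N := by
      rcases (inferInstance : (O.subgroupOf N).Normal).eq_bot_or_eq_top with e1 | e1
      · exact subgroupOf_eq_bot.1 e1
      · exact absurd (Dvd.dvd.trans (by rw [cN]; norm_num) (card_dvd_of_le (subgroupOf_eq_top.1 e1))) h2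
    refine zt ((hk ⟨z, mC.2 H.tz.symm⟩).1 (mem_bot.1 (hc ▸ fun w hw => ?_)))
    exact (commute_of_normal_of_disjoint O N hO' hn h3 _ w ⟨_, h1, rfl⟩ hw).symm.eq
  have ev : Even (Nat.card (center B)) := even_iff_two_dvd.2 (by
    have := orderOf_dvd_natCard (⟨⟨t, tB⟩, mem_center_iff.2 fun w => Subtype.ext (mC.1 (BC w.2))⟩ : center B)
    rwa [orderOf_mk, orderOf_mk, ot] at this)
  rcases h71 ho B st ev hK (eB.trans eN) with h1 | ⟨⟨e1⟩⟩
  · exact absurd (cB ▸ mem_of_normal h A hO (centralizer (B : Set G)) (by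
      rw [cB]; exact fun e1 => t1 (zpowers_eq_bot.1 e1))) zt
  have h2 : centralizer (normalClosure (B : Set G) : Set G) = ⊥ := by_contra fun h2 =>
    zt (cB ▸ centralizer_le subset_normalClosure (mem_of_normal h A hO _ h2))
  have h3 : normalClosure (B : Set G) = ⊤ := eq_top_iff.2 fun x _ => by
    have : Subsingleton (Out (normalClosure (B : Set G))) :=
      (Nat.card_eq_one_iff_unique.1 ((Nat.card_congr (Cls.outCongr e1).toEquiv).trans h84)).1
    obtain ⟨w, hw⟩ := (QuotientGroup.eq_one_iff (MulAut.conjNormal x)).1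
      (Subsingleton.elim (α := Out (normalClosure (B : Set G))) _ 1)
    have : (w : G)⁻¹ * x ∈ centralizer (normalClosure (B : Set G) : Set G) := fun v hv => by
      have : (w : G) * v * (w : G)⁻¹ = x * v * x⁻¹ := by
        simpa using congrArg Subtype.val (DFunLike.congr_fun hw ⟨v, hv⟩)
      calc v * ((w : G)⁻¹ * x) = (w : G)⁻¹ * (w * v * (w : G)⁻¹) * x := by group
        _ = _ := by rw [this]; group
    rw [h2, mem_bot, inv_mul_eq_one] at this
    exact this ▸ w.2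
  exact ⟨(topEquiv.symm.trans (MulEquiv.subgroupCongr h3.symm)).trans e1⟩

end CL.F3B
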