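/-
Groups with a `3`-centralizer of shape `3^(1+8).2^(1+6).PSp₄(3)`: the swap involution of a frame.
-/
import Cfsg.Agent.F3C.BDefs
import Cfsg.Agent.F3C.Good
import Cfsg.Agent.Transfer.SL23

set_option autoImplicit false
set_option linter.unusedSectionVars false

namespace CL.F3B

open Subgroup CL.F3C CL.F3C.Good CL.Transfer Matrix
open scoped commutatorElement MatrixGroups

theorem sl12 : ∀ m : SL(2, F), m ^ 12 = 1 := by decide +kernel
theorem sl16 : ∀ m : SL(2, F), m ^ 16 = 1 → ∃ q, q8ToSL23 q = m := by decide +kernel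
theorem slc : ∀ m : SL(2, F), m ^ 16 = 1 → m ^ 2 ≠ 1 → ∀ n : SL(2, F), n ^ 3 = 1 → n ≠ 1 →
    m * (n * m * n⁻¹) ≠ n * m * n⁻¹ * m := by decide +kernel
theorem slz : ∀ m : SL(2, F), m ^ 2 = 1 → ∀ n : SL(2, F), m * n = n * m := by decide +kernel
theorem it256 (n : ℕ) : ∀ y : Fin 3 → Fin 3, y^[2 ^ n] = id → y^[256] = id := by
  induction n with
  | zero => decide +kernel
  | succ n ih =>
    intro y h
    rw [pow_succ', Function.iterate_mul] at h
    exact (by decide +kernel : ∀ y : Fin 3 → Fin 3, (y^[2])^[256] = id → y^[256] = id) y (ih _ h)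

/-- the exponents of the commuting pairs of noncentral involutions -/
def PP (x : (Fin 4 × Fin 4 × Fin 4) × Fin 4 × Fin 4 × Fin 4) : Prop :=
  ((x.1.1 = 0 ↔ x.1.2.1 = 0) ↔ x.1.2.2 = 0) ∧ ((x.2.1 = 0 ↔ x.2.2.1 = 0) ↔ x.2.2.2 = 0) ∧ x.1 ≠ 0 ∧ x.2 ≠ 0 ∧ x.1 ≠ x.2 ∧
    ((χ x.1.1 x.2.1 = 1 ↔ χ x.1.2.1 x.2.2.1 = 1) ↔ χ x.1.2.2 x.2.2.2 = 1)

instance : DecidablePred PP := fun x => by unfold PP; infer_instance

theorem card_PP : (Finset.univ.filter PP).card = 270 := by decide +kernel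

theorem exists_prs : ∃ S : Finset ((Fin 4 × Fin 4 × Fin 4) × Fin 4 × Fin 4 × Fin 4), S.card = 270 ∧ ∀ x, PP x → x ∈ S :=
  ⟨_, card_PP, fun x h => by simp only [Finset.mem_filter, Finset.mem_univ, true_and, h]⟩

theorem card_Q8 : Nat.card Q8 = 8 := by simp [QuaternionGroup.card]

variable {Γ V L : Type*} [Group Γ] [AddCommGroup V] [Module F V] [Group L] {r : Γ →* Module.End F V}
  {β : LinearMap.BilinForm F V} {R : Subgroup Γ} {s : Γ} {π : Γ →* L} {i j c : Fin 3 → Γ} {ρ t : Γ} {v0 : V}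

/-- the centralizer of the four-group -/
def KK (i j : Fin 3 → Γ) : Subgroup Γ := centralizer {fw i j 1} ⊓ centralizer {fw i j 2}

theorem mem_KK {g : Γ} : g ∈ KK i j ↔ Commute g (fw i j 1) ∧ Commute g (fw i j 2) :=
  and_congr mem_centralizer_singleton_iff mem_centralizer_singleton_iff

variable (A : GA r β R s π) (f : Fr r R s i j c ρ t v0)
include A f

theorem exists_psi [Finite V] (H : Subgroup Γ) (k : Fin 4) (h : ∀ g ∈ H, ∀ v ∈ U r i j k, r g v ∈ U r i j k) :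
    ∃ ψ : H →* SL(2, F), ∀ g, ψ g = 1 ↔ ∀ v ∈ U r i j k, r g v = v := by
  obtain ⟨u, hu, h0, hi, hinj, hsp⟩ := basis A f k
  have h1 : β u (r (i 0) u) ≠ 0 := fun h1 => h0 (nd A f k hu fun v hv => by
    obtain ⟨x, rfl⟩ := hsp v hv
    simp [h1, A.alt])
  let e : (Fin 2 → F) → V := fun x => x 0 • u + x 1 • r (i 0) u
  have ei : Function.Injective e := fun x y h => by
    have := hinj (x 0, x 1) (y 0, y 1) h
    ext a; fin_cases a
    exacts [congrArg Prod.fst this, congrArg Prod.snd this]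
  have ex : ∀ g : H, ∃ m : SL(2, F), ∀ x, r g (e x) = e (m.1 *ᵥ x) := fun g => by
    obtain ⟨⟨a, b⟩, e1⟩ := hsp _ (h g g.2 u hu)
    obtain ⟨⟨a', b'⟩, e2⟩ := hsp _ (h g g.2 _ hi)
    have h2 : a * b' - a' * b = 1 := by
      have := A.inv g u (r (i 0) u)
      rw [e1, e2] at this
      simp only [map_add, map_smul, LinearMap.add_apply, LinearMap.smul_apply, A.alt, A.skew (r (i 0) u) u,
        smul_eq_mul] at this
      exact mul_right_cancel₀ h1 (by linear_combination this)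
    refine ⟨⟨!![a, a'; b, b'], by rw [det_fin_two_of, h2]⟩, fun x => ?_⟩
    simp only [e, map_add, map_smul, e1, e2, mulVec, dotProduct, Fin.sum_univ_two, of_apply, cons_val', cons_val_zero,
      cons_val_one, cons_val_fin_one]
    module
  have un : ∀ m n : SL(2, F), (∀ x, e (m.1 *ᵥ x) = e (n.1 *ᵥ x)) → m = n := fun m n h =>
    Subtype.ext (toLin'.injective (LinearMap.ext fun x => ei (h x)))
  choose ψ hψ using ex
  refine ⟨MonoidHom.mk' ψ fun a b => un _ _ fun x => ?_, fun g => ⟨fun h v hv => ?_, fun h => un _ _ fun x => ?_⟩⟩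
  · rw [← hψ, coe_mul, r_mul, hψ, hψ, mulVec_mulVec]; rfl
  · obtain ⟨x, rfl⟩ := hsp v hv
    have := hψ g ![x.1, x.2]
    rwa [show ψ g = 1 from h, show (1 : SL(2, F)).1 = 1 from rfl, one_mulVec] at this
  · rw [MonoidHom.mk'_apply, ← hψ, show (1 : SL(2, F)).1 = 1 from rfl, one_mulVec]
    exact h _ (add_mem (Submodule.smul_mem _ _ hu) (Submodule.smul_mem _ _ hi))

theorem KK_U {g : Γ} (hg : g ∈ KK i j) (k : Fin 4) : ∀ v ∈ U r i j k, r g v ∈ U r i j k := fun _ =>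
  U_map A f (mem_KK.1 hg).1 (mem_KK.1 hg).2

theorem KK_t {g : Γ} (hg : g ∈ KK i j) : Commute g t := ext_U A f fun l v hv => by
  rw [r_mul, r_mul, rt_U A f hv, rt_U A f (KK_U A f hg l v hv)]
  split_ifs <;> simp

theorem KK_fw {g : Γ} (hg : g ∈ KK i j) (w : Fin 4) : Commute g (fw i j w) := by
  fin_cases w
  exacts [fw0 (i := i) (j := j) ▸ Commute.one_right g, (mem_KK.1 hg).1, (mem_KK.1 hg).2,
    fw12 A f ▸ (mem_KK.1 hg).1.mul_right (mem_KK.1 hg).2]

theorem KK_n [Finite V] {g x : Γ} (hg : Commute g t) (hx : x ∈ KK i j) : g * x * g⁻¹ ∈ KK i j := by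
  obtain ⟨y, hy⟩ := exists_pm A f hg.inv_left
  have : ∀ m : Fin 3, Commute (g * x * g⁻¹) (fw i j m.succ) := fun m => by
    simpa [← hy m, mul_assoc] using (KK_fw A f hx (y m).succ).conj g
  exact mem_KK.2 ⟨this 0, this 1⟩

theorem q0_KK (k : Fin 4) : q i j 0 k ∈ KK i j := mem_KK.2 ⟨q0_fw A f k 1, q0_fw A f k 2⟩

theorem s_U [Finite V] (k : Fin 4) : ¬ ∀ v ∈ U r i j k, r s v = v := fun h => by
  obtain ⟨u, hu, h0, -⟩ := basis A f k
  exact h0 (eq_zero_of_neg ((f.rs_apply u).symm.trans (h u hu)))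

theorem triv0 [Finite V] {g : Γ} (hg : g ∈ KK i j) (h : ∀ v ∈ U r i j 0, r g v = v) : g ^ 4 = 1 := by
  have key : ∀ k, Commute (g * g) (q i j 0 k) := fun k => by
    have h1 := KK_t A f (mul_mem (mul_mem (mul_mem hg (q0_KK A f k)) (inv_mem hg)) (inv_mem (q0_KK A f k)))
    obtain ⟨e, w0, w, hw⟩ := form A f (mul_mem (nR A f (g := g) (qR A f 0 k)) (inv_mem (qR A f 0 k)))
      (Or.inl (by rw [← h1.eq, mul_inv_cancel_right]))
    have h2 : ∀ v ∈ U r i j 0, r (s ^ e * q i j 0 w0) v = v := fun v hv => by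
      have h4 := KK_U A f (inv_mem (q0_KK A f k)) 0 v hv
      have h5 := congrArg (r g⁻¹) (h _ h4)
      have h6 : r (fw i j w) v = v := by simpa [χ] using mem_U.1 hv w
      rw [r_inv] at h5
      rw [← h6, ← r_mul, mul_assoc, ← hw, r_mul, r_mul, r_mul, ← h5, r_inv', h _ hv, h6]
    obtain rfl : w0 = 0 := by_contra fun h0 => s_U A f 0 fun v hv => by
      have : s = s ^ e * q i j 0 w0 * (s ^ e * q i j 0 w0) := by
        rw [← sq, ((A.sc _).symm.pow_left e).mul_pow, ← pow_mul, mul_comm, pow_mul, sq s, A.ss, one_pow, one_mul, sq,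
          (q_mul A f 0 w0 w0).1 h0]
      rw [this, r_mul, h2 v hv, h2 v hv]
    have h3 : s ^ e = 1 := (s_pow A f e).resolve_right fun e' => s_U A f 0 (by simpa [e', q, qw] using h2)
    rw [h3, one_mul, show q i j 0 0 = 1 from rfl, one_mul, mul_inv_eq_iff_eq_mul] at hw
    refine mul_inv_eq_iff_eq_mul.1 ?_
    calc g * g * q i j 0 k * (g * g)⁻¹ = g * (g * q i j 0 k * g⁻¹) * g⁻¹ := by group
      _ = q i j 0 k := by
        rw [hw, ← conj_mul, hw, (KK_fw A f hg w).eq, mul_inv_cancel_right, ← mul_assoc, fw_sq A f, one_mul]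
  rw [show g ^ 4 = g * g * (g * g) by simp only [pow_succ, pow_zero, one_mul, mul_assoc]]
  exact sq_eq_one A f (key 1) (key 2) (mem_KK.1 (mul_mem hg hg)).1 (mem_KK.1 (mul_mem hg hg)).2

theorem cm_mul {g a b : Γ} (hg : g ∈ R) (ha : a ∈ R) (hb : b ∈ R) : Commute g (a * b) ↔ (Commute g a ↔ Commute g b) := by
  have n : ∀ x y : Γ, x * y = s * (y * x) → ¬ Commute x y := fun x y e h => A.s1 (by simpa [h.eq] using e)
  rcases A.cm g hg a ha with h | h <;> rcases A.cm g hg b hb with h' | h'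
  · simp [show Commute g a from h, show Commute g b from h', Commute.mul_right (show Commute g a from h) h']
  · simp [show Commute g a from h, n _ _ h', n g (a * b) (by
      rw [← mul_assoc, h, mul_assoc, h', ← mul_assoc, (A.sc a).eq]; group)]
  · simp [show Commute g b from h', n _ _ h, n g (a * b) (by rw [← mul_assoc, h, mul_assoc, mul_assoc, h']; group)]
  · simp [n _ _ h, n _ _ h', show Commute g (a * b) from by
      rw [Commute, SemiconjBy, ← mul_assoc, h, mul_assoc, mul_assoc, h', ← mul_assoc a, (A.sc a).eq, mul_assoc,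
        ← mul_assoc s, A.ss]; group]

theorem wdR (e : ℕ) (w : Fin 3 → Fin 4) : wd s i j e w ∈ R :=
  mul_mem (pow_mem A.sR _) (mul_mem (mul_mem (qR A f _ _) (qR A f _ _)) (qR A f _ _))

theorem wd_comm {e e' : ℕ} {w w' : Fin 3 → Fin 4} (h : Commute (wd s i j e w) (wd s i j e' w')) :
    (χ (w 0) (w' 0) = 1 ↔ χ (w 1) (w' 1) = 1) ↔ χ (w 2) (w' 2) = 1 := by
  have h1 : Commute (wd s i j e w) (q i j 0 (w' 0) * q i j 1 (w' 1) * q i j 2 (w' 2)) := by
    simpa [wd] using ((A.sc (wd s i j e w)).pow_right e').inv_right.mul_right h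
  rwa [cm_mul A f (wdR A f _ _) (mul_mem (qR A f _ _) (qR A f _ _)) (qR A f _ _),
    cm_mul A f (wdR A f _ _) (qR A f _ _) (qR A f _ _), wd_iff A f, wd_iff A f, wd_iff A f] at h1

theorem wd_sq {e : ℕ} {w : Fin 3 → Fin 4} (h : wd s i j e w * wd s i j e w = 1) : (w 0 = 0 ↔ w 1 = 0) ↔ w 2 = 0 := by
  have h1 : ∀ a k, q i j a k ^ 2 = if k = 0 then 1 else s := fun a k => by
    split_ifs with h
    · subst h; simp [q, qw]
    · rw [sq, (q_mul A f a k k).1 h]
  rw [← sq, wd, ((A.sc _).symm.pow_left e).mul_pow, ← pow_mul, mul_comm, pow_mul, sq s, A.ss, one_pow, one_mul,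
    ((q_comm A f (by decide) _ _).mul_left (q_comm A f (by decide) _ _)).mul_pow, (q_comm A f (by decide) _ _).mul_pow,
    h1, h1, h1] at h
  split_ifs at h <;> simp_all [A.s1, A.ss]

theorem wd_ne {g : Γ} {m m' : Fin 4} {e e' : ℕ} {w : Fin 3 → Fin 4} (h : g * fw i j m * g⁻¹ = wd s i j e w)
    (h' : g * fw i j m' * g⁻¹ = wd s i j e' w) : m = m' := by
  have h1 : s ^ e' * fw i j m = s ^ e * fw i j m' := (MulAut.conj g).injective (by
    simp only [map_mul, MulAut.conj_apply, h, h', ((A.sc g).pow_right _).eq, mul_inv_cancel_right, wd, ← mul_assoc,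
      ← pow_add, add_comm])
  exact congrFun (wd_inj A f (e := e') (e' := e) (w := ![0, m, m]) (w' := ![0, m', m']) (by
    simpa [wd, fw, show q i j 0 0 = 1 from rfl] using h1)) 1

theorem index_KK : (KK i j).index ≤ 1080 := by
  obtain ⟨prs, card_prs, mem_prs⟩ := exists_prs
  have nf : ∀ (g : Γ) (m : Fin 4), ∃ (e : Fin 2) (w : Fin 3 → Fin 4), g * fw i j m * g⁻¹ = wd s i j e w := fun g m => by
    obtain ⟨e, w, h⟩ := f.nf _ (nR A f (g := g) (fwR A f m))
    rcases s_pow A f e with e1 | e1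
    exacts [⟨0, w, by simpa [wd, e1] using h⟩, ⟨1, w, by simpa [wd, e1] using h⟩]
  have z : ∀ (g : Γ) (m : Fin 4) (e : ℕ) (w : Fin 3 → Fin 4), g * fw i j m * g⁻¹ = wd s i j e w →
      (w 0, w 1, w 2) = 0 → m = 0 := fun g m e w h h0 => wd_ne A f h (e' := 0) (by
    simp only [Prod.mk_eq_zero] at h0
    simp [fw0, wd, h0, q, qw])
  choose e w h using nf
  have h1 : ∀ g, ((w g 1 0, w g 1 1, w g 1 2), (w g 2 0, w g 2 1, w g 2 2)) ∈ prs := fun g => by
    have sq : ∀ m, wd s i j (e g m) (w g m) * wd s i j (e g m) (w g m) = 1 := fun m => by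
      rw [← h, conj_mul, fw_sq A f, mul_one, mul_inv_cancel]
    refine mem_prs _ ⟨wd_sq A f (sq 1), wd_sq A f (sq 2),
      fun h0 => absurd (z _ _ _ _ (h g 1) h0) (by decide), fun h0 => absurd (z _ _ _ _ (h g 2) h0) (by decide),
      fun h0 => absurd (wd_ne A f (h g 1) (e' := e g 2) (m' := 2) ?_) (by decide), wd_comm A f (e := e g 1) (e' := e g 2) ?_⟩
    · simp only [Prod.mk.injEq] at h0
      simp [h, wd, h0]
    · rw [← h, ← h]
      exact (KK_fw A f (mem_KK.2 ⟨.refl _, by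
        have := fw_sq A f 3
        rw [← fw12 A f, mul_eq_one_iff_eq_inv, _root_.mul_inv_rev, inv_eq_of_mul_eq_one_right (fw_sq A f 1),
          inv_eq_of_mul_eq_one_right (fw_sq A f 2)] at this
        exact this⟩) 2).conj g
  have := Nat.card_le_card_of_injective (fun x : Γ ⧸ KK i j => ((e x.out 1, e x.out 2, ⟨_, h1 x.out⟩) : Fin 2 × Fin 2 × prs))
    fun x y k => by
      simp only [Prod.mk.injEq, Subtype.mk.injEq] at k
      have k1 : ∀ m, e x.out m = e y.out m → w x.out m 0 = w y.out m 0 → w x.out m 1 = w y.out m 1 →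
          w x.out m 2 = w y.out m 2 → Commute (x.out⁻¹ * y.out) (fw i j m) := fun m a1 a2 a3 a4 => by
        have : x.out * fw i j m * x.out⁻¹ = y.out * fw i j m * y.out⁻¹ := by simp [h, wd, a1, a2, a3, a4]
        refine mul_inv_eq_iff_eq_mul.1 ?_
        calc x.out⁻¹ * y.out * fw i j m * (x.out⁻¹ * y.out)⁻¹ = x.out⁻¹ * (y.out * fw i j m * y.out⁻¹) * x.out := by group
          _ = _ := by rw [← this]; group
      rw [← QuotientGroup.out_eq' x, ← QuotientGroup.out_eq' y, QuotientGroup.eq]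
      exact mem_KK.2 ⟨k1 1 k.1 k.2.2.1.1 k.2.2.1.2.1 k.2.2.1.2.2, k1 2 k.2.1 k.2.2.2.1 k.2.2.2.2.1 k.2.2.2.2.2⟩
  simpa [card_prs, index_eq_card] using this

theorem U_pm {g : Γ} (h : Pm i j g (· + 1)) {m : Fin 3} {v : V} (hv : v ∈ U r i j m.succ) :
    r g v ∈ U r i j (m + 1).succ := mem_U.2 fun w => by
  refine (Fin.eq_zero_or_eq_succ w).elim (fun e => by simp [e, fw0, χ]) fun ⟨n, e⟩ => ?_
  have : g * fw i j (n + 2).succ * g⁻¹ = fw i j (n + 2 + 1).succ := h (n + 2)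
  rw [show n + 2 + 1 = n by fin_cases n <;> rfl] at this
  rw [e, ← this, r_mul, r_mul, r_inv, mem_U.1 hv, map_smul,
    (by decide : ∀ n m : Fin 3, χ (n + 2).succ m.succ = χ n.succ (m + 1).succ)]

theorem goodB [Finite Γ] [Finite V] (hΓ : Nat.card Γ = 128 * 25920) : GoodB r β t := by
  have mC : ∀ {g : Γ}, g ∈ centralizer {t} ↔ Commute g t := mem_centralizer_singleton_iff
  obtain ⟨ψ0, h0⟩ := exists_psi A f (centralizer {t}) 0 fun g hg v hv => U0_map A f (mC.1 hg) hv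
  choose ψ hψ using fun k => exists_psi A f (KK i j) k fun g hg => KK_U A f hg k
  have inj : ∀ g : KK i j, (∀ k, ψ k g = 1) → g = 1 := fun g h =>
    Subtype.ext (ext_U A f fun l v hv => by simpa using (hψ l g).1 (h l) v hv)
  have k12 : ∀ g : KK i j, g ^ 12 = 1 := fun g => inj _ fun k => by rw [map_pow, sl12]
  let D0 : Subgroup (KK i j) := q8ToSL23.range.comap (ψ 0)
  have mD0 : ∀ g : KK i j, g ∈ D0 ↔ (g : Γ) ^ 16 = 1 := fun g => by
    refine ⟨fun ⟨x, e⟩ => ?_, fun h => sl16 _ (by rw [← map_pow, show g ^ 16 = 1 from Subtype.ext h, map_one])⟩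
    rw [show 16 = 4 * 4 from rfl, pow_mul]
    exact triv0 A f (pow_mem g.2 4) ((hψ 0 (g ^ 4)).1 (by
      rw [map_pow, ← e, ← map_pow, (by decide : ∀ x : Q8, x ^ 4 = 1), map_one]))
  let D : Subgroup Γ := D0.map (KK i j).subtype
  have mD : ∀ {g : Γ}, g ∈ D ↔ g ∈ KK i j ∧ g ^ 16 = 1 :=
    ⟨fun ⟨x, hx, e⟩ => e ▸ ⟨x.2, (mD0 x).1 hx⟩, fun h => ⟨⟨_, h.1⟩, (mD0 _).2 h.2, rfl⟩⟩
  have DK : D ≤ KK i j := fun _ h => (mD.1 h).1
  have cD : 1024 ≤ Nat.card D := by
    have h1 := index_KK A f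
    have h2 := (KK i j).card_mul_index
    have h3 := D0.card_mul_index
    have h4 := q8ToSL23.range.card_mul_index
    rw [← Nat.card_congr (MonoidHom.ofInjective q8ToSL23_injective).toEquiv, card_SL23, card_Q8] at h4
    have h5 : D0.index ≤ q8ToSL23.range.index := by
      rw [index_comap]; exact relIndex_le_of_le_right le_top (by rw [relIndex_top_right]; omega) |>.trans (relIndex_top_right _).le
    rw [card_map_of_injective (Subgroup.subtype_injective _)]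
    have h6 := Nat.mul_le_mul_left (Nat.card D0) (show D0.index ≤ 3 by omega)
    have h7 := Nat.mul_le_mul_left (Nat.card (KK i j)) h1
    omega
  have ex : ∀ (k : Fin 4) (d : D), ∃ x, q8ToSL23 x = ψ k (inclusion DK d) := fun k d =>
    sl16 _ (by rw [← map_pow, show inclusion DK d ^ 16 = 1 from Subtype.ext (mD.1 d.2).2, map_one])
  choose θ hθ using ex
  let θ' : Fin 4 → D →* Q8 := fun k => MonoidHom.mk' (θ k) fun a b => q8ToSL23_injective (by simp only [map_mul, hθ])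
  have hθ' : ∀ k d, θ' k d = 1 ↔ ∀ v ∈ U r i j k, r d v = v := fun k d => by
    rw [← map_eq_one_iff _ q8ToSL23_injective]
    exact (hθ k d).symm ▸ hψ k _
  have tt : t ^ 2 = 1 := by rw [sq, f.tt]
  have zt : ∀ {x}, x ∈ zpowers t ↔ x = 1 ∨ x = t := fun {x} => ⟨fun ⟨n, e⟩ => by
    rcases Int.even_or_odd' n with ⟨k, rfl | rfl⟩ <;> simp [← e, _root_.zpow_add, _root_.zpow_mul, zpow_ofNat, tt],
    fun h => h.elim (· ▸ one_mem _) (· ▸ mem_zpowers _)⟩
  have tD : t ∈ D := mD.2 ⟨mem_KK.2 ⟨t_fw A f 1, t_fw A f 2⟩, by rw [show 16 = 2 * 8 from rfl, pow_mul, tt, one_pow]⟩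
  have ft : ∀ g, Commute g t → (∀ m : Fin 3, ∀ v ∈ U r i j m.succ, r g v = v) → g ∈ zpowers t := fun g hg h =>
    zt.2 (fth A f hg fun v hv => by
      obtain ⟨a, ha, b, hb, d, hd, rfl⟩ := sum_fix A f hv
      rw [map_add, map_add, h 0 a ha, h 1 b hb, h 2 d hd])
  let Θ := (θ' 1).prod ((θ' 2).prod (θ' 3))
  have hΘ : ∀ d, Θ d = 1 ↔ (d : Γ) ∈ zpowers t := fun d => by
    simp only [Θ, MonoidHom.prod_apply, Prod.mk_eq_one, hθ']
    refine ⟨fun h => ft _ (KK_t A f (DK d.2)) fun m => ?_, fun h => ?_⟩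
    · fin_cases m
      exacts [h.1, h.2.1, h.2.2]
    · rcases zt.1 h with e | e <;> rw [e]
      · simp
      · exact ⟨fun v hv => by simpa using rt_U A f hv, fun v hv => by simpa using rt_U A f hv,
          fun v hv => by simpa using rt_U A f hv⟩
  have t1 : t ≠ 1 := fun e => t_not A f (e ▸ one_mem _)
  have sΘ : Function.Surjective Θ := by
    have h1 := Θ.ker.card_mul_index
    rw [index_ker, show Θ.ker = (zpowers t).subgroupOf D from Subgroup.ext hΘ,
      Nat.card_congr (subgroupOfEquivOfLe (zpowers_le.2 tD)).toEquiv, Nat.card_zpowers,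
      orderOf_eq_prime (p := 2) tt t1] at h1
    exact MonoidHom.range_eq_top.1 (eq_top_of_le_card _ (by rw [Nat.card_prod, Nat.card_prod, card_Q8]; omega))
  have Dn : ∀ g, Commute g t → ∀ d ∈ D, g * d * g⁻¹ ∈ D := fun g hg d hd =>
    mD.2 ⟨KK_n A f hg (DK hd), by rw [conj_pow, (mD.1 hd).2, mul_one, mul_inv_cancel]⟩
  refine ⟨D, card_fix A f, fun u hu h => ?_, t1, fun d hd => KK_t A f (DK hd), Dn, tD, ⟨Θ, sΘ, hΘ⟩,
    fun X h1 h2 h3 x hx => ?_, fun g => fth A f, o3 A f, ?_⟩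
  · refine A.nd u fun v => ?_
    obtain ⟨x, hx, rfl⟩ := dec A f v
    have h1 : β u (x 0) = 0 := by
      have := A.inv t u (x 0)
      rw [hu, (neg_iff A f).2 (hx 0), map_neg] at this
      revert this; generalize β u _ = y; revert y; decide
    have h2 : ∀ l ≠ 0, β u (x l) = 0 := fun l hl => h _ (by simpa [hl] using rt_U A f (hx l))
    simp [h1, h2]
  · have h4 : ∀ x ∈ X, ∃ n : ℕ, x ^ 2 ^ n = 1 := fun x hx => by
      obtain ⟨n, hn⟩ := h3 x hx
      exact ⟨n + 1, by rw [pow_succ, pow_mul]; rcases zt.1 hn with e | e <;> simp [e, tt]⟩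
    obtain ⟨y, hy⟩ := exists_pm A f (h1 x hx)
    have h5 : (c 1 * c 2)⁻¹ = c 1 * c 2 * (c 1 * c 2) :=
      inv_eq_of_mul_eq_one_right (by rw [← κ3 A f, pow_succ', sq])
    obtain ⟨n, hn⟩ := h4 x hx
    obtain ⟨n', hn'⟩ := h4 _ (mul_mem hx (h2 _ (κt A f) x hx))
    rw [h5, mul_assoc (c 1 * c 2)] at hn'
    obtain rfl := perm3 y (it256 n _ (pm_one A f (hn ▸ hy.pow _)))
      (it256 n' _ (pm_one A f (hn' ▸ (hy.mul ((pm_κ A f).mul (hy.mul ((pm_κ A f).mul (pm_κ A f))))).pow _)))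
    have xK : x ∈ KK i j := mem_KK.2 ⟨mul_inv_eq_iff_eq_mul.1 (hy 0), mul_inv_eq_iff_eq_mul.1 (hy 1)⟩
    refine mD.2 ⟨xK, orderOf_dvd_iff_pow_eq_one.1 ?_⟩
    obtain ⟨a, -, e⟩ := (Nat.dvd_prime_pow Nat.prime_two).1 (orderOf_dvd_of_pow_eq_one hn)
    have h6 := orderOf_dvd_of_pow_eq_one (show x ^ 12 = 1 from congrArg Subtype.val (k12 ⟨x, xK⟩))
    rw [e] at h6 ⊢
    exact ((Nat.Coprime.pow_left a (by norm_num : Nat.Coprime 2 3)).dvd_of_dvd_mul_right (m := 4) h6).trans (by norm_num)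
  · have c0 : Commute (c 0) t := (mul_inv_eq_iff_eq_mul.1 (f.tc0 A) : Commute t _).symm
    have iD : i 0 ∈ D := mD.2 ⟨q0_KK A f 1, by
      rw [show 16 = 4 * 4 from rfl, pow_mul, A.exp4 (f.iR 0), one_pow]⟩
    have DC : D ≤ centralizer {t} := fun d hd => mC.2 (KK_t A f (DK hd))
    have sC : s ∈ centralizer {t} := mC.2 (A.sc t).symm
    have s0 : ψ0 ⟨s, sC⟩ ≠ 1 := fun e => s_U A f 0 ((h0 _).1 e)
    obtain ⟨m, x, hx, x2⟩ : ∃ (m : Fin 3) (x : D), (∀ n : Fin 3, n ≠ m → θ' n.succ x = 1) ∧ ψ0 (inclusion DC x) ^ 2 ≠ 1 := by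
      by_contra hn
      push Not at hn
      obtain ⟨x, hx⟩ := sΘ ((Θ ⟨_, iD⟩).1, 1, 1)
      obtain ⟨y, hy⟩ := sΘ (1, (Θ ⟨_, iD⟩).2.1, 1)
      obtain ⟨z, hz⟩ := sΘ (1, 1, (Θ ⟨_, iD⟩).2.2)
      have h1 := (hΘ ((x * y * z)⁻¹ * ⟨_, iD⟩)).1 (by rw [map_mul, map_inv, map_mul, map_mul, hx, hy, hz]; simp)
      simp only [Θ, MonoidHom.prod_apply, Prod.mk.injEq] at hx hy hz
      have x2 := hn 0 x fun n h => by fin_cases n; exacts [absurd rfl h, hx.2.1, hx.2.2]
      have y2 := hn 1 y fun n h => by fin_cases n; exacts [hy.1, absurd rfl h, hy.2.2]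
      have z2 := hn 2 z fun n h => by fin_cases n; exacts [hz.1, hz.2.1, absurd rfl h]
      have h2 : ψ0 (inclusion DC ((x * y * z)⁻¹ * ⟨_, iD⟩)) ^ 2 = 1 := by
        rw [← map_pow, show inclusion DC ((x * y * z)⁻¹ * ⟨_, iD⟩) ^ 2 = 1 from Subtype.ext ?_, map_one]
        change ((x * y * z)⁻¹ * ⟨_, iD⟩ : D).1 ^ 2 = 1
        rcases zt.1 h1 with e | e <;> rw [e]
        exacts [one_pow 2, tt]
      refine s0 ?_
      rw [show (⟨s, sC⟩ : centralizer {t}) = inclusion DC (x * y * z * ((x * y * z)⁻¹ * ⟨_, iD⟩)) ^ 2 from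
        Subtype.ext (by rw [mul_inv_cancel_left, sq]; exact (f.ii 0).symm), map_pow, map_mul, map_mul, map_mul, map_mul,
        map_mul, map_mul, Commute.mul_pow (slz _ h2 _).symm, Commute.mul_pow (slz _ z2 _).symm,
        Commute.mul_pow (slz _ y2 _).symm, x2, y2, z2, h2]
      simp
    have κC : c 0 * (c 1 * c 2) ∈ centralizer {t} := mC.2 (c0.mul_left (κt A f))
    have cκ : Commute (c 0) (c 1 * c 2) := (f.cc A 0 1).mul_right (f.cc A 0 2)
    have pm : Pm i j (c 0 * (c 1 * c 2)) (· + 1) := fun n => by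
      have h1 : ∀ w, Commute (fw i j w) (c 0) := fun w => f.comm_c A (q0_fw A f 1 w).symm (q0_fw A f 2 w).symm
      rw [show c 0 * (c 1 * c 2) * fw i j n.succ * (c 0 * (c 1 * c 2))⁻¹ =
        c 0 * (c 1 * c 2 * fw i j n.succ * (c 1 * c 2)⁻¹) * (c 0)⁻¹ by group, pm_κ A f n, ← (h1 _).eq, mul_inv_cancel_right]
    have κi : c 0 * (c 1 * c 2) * i 0 * (c 0 * (c 1 * c 2))⁻¹ = j 0 := by
      rw [← f.ci A 0, mul_assoc (c 0), ((f.cci A (by decide)).mul_left (f.cci A (by decide)) :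
        Commute (c 1 * c 2) (i 0)).eq]; group
    have κ3' : (c 0 * (c 1 * c 2)) ^ 3 = 1 := by rw [cκ.mul_pow, f.c3 A, κ3 A f, one_mul]
    generalize c 0 * (c 1 * c 2) = κ at κC pm κi κ3'
    have κt' := mC.1 κC
    have yD := Dn _ κt'.inv_left _ x.2
    refine ⟨_, x.2, _, yD, (zt.1 (ft _ ?_ fun n v hv => ?_)).resolve_left fun e => ?_⟩
    · exact mC.1 (DC (commutatorElement_def (G := Γ) _ _ ▸ mul_mem (mul_mem (mul_mem x.2 yD) (inv_mem x.2)) (inv_mem yD)))
    · have key : ∀ a b : Γ, a ∈ D → b ∈ D → (∀ v ∈ U r i j n.succ, r a v = v) → r ⁅a, b⁆ v = v ∧ r ⁅b, a⁆ v = v :=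
        fun a b ha hb h => by
          have h1 : ∀ v ∈ U r i j n.succ, r a⁻¹ v = v := fun v hv => by rw [← h v hv, r_inv, h v hv]
          have h2 := KK_U A f (DK (inv_mem hb)) _ v hv
          simp only [commutatorElement_def, r_mul, h1 _ h2, h1 v hv, h _ h2, r_inv', h v hv, and_self]
      by_cases hn : n = m
      · refine (key _ _ yD x.2 fun v hv => ?_).2
        rw [inv_inv, r_mul, r_mul, (hθ' _ _).1 (hx (n + 1) (by rw [← hn]; simp)) _ (U_pm A f pm hv), r_inv]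
      · exact (key _ _ x.2 yD ((hθ' _ _).1 (hx n hn))).1
    · refine slc _ (by
        rw [← map_pow, show inclusion DC x ^ 16 = 1 from Subtype.ext (mD.1 x.2).2, map_one]) x2 (ψ0 ⟨κ, κC⟩⁻¹) (by
          rw [← map_pow, inv_pow, show (⟨κ, κC⟩ : centralizer {t}) ^ 3 = 1 from Subtype.ext κ3', inv_one, map_one])
        (fun e1 => s0 ?_) ?_
      · have e2 : ψ0 ⟨j 0, mC.2 f.tj0.symm⟩ = ψ0 ⟨i 0, DC iD⟩ := by
          rw [show (⟨j 0, mC.2 f.tj0.symm⟩ : centralizer {t}) = ⟨κ, κC⟩ * ⟨i 0, DC iD⟩ * ⟨κ, κC⟩⁻¹ from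
            Subtype.ext κi.symm, map_mul, map_mul, e1, inv_eq_one.1 ((map_inv ψ0 _).symm.trans e1), one_mul, mul_one]
        have e3 := congrArg ψ0 (show (⟨j 0, mC.2 f.tj0.symm⟩ : centralizer {t}) * ⟨i 0, DC iD⟩ =
          ⟨s, sC⟩ * (⟨i 0, DC iD⟩ * ⟨j 0, mC.2 f.tj0.symm⟩) from Subtype.ext (f.ji 0))
        simpa only [map_mul, e2, right_eq_mul] using e3
      · simp only [← map_inv, ← map_mul]
        exact congrArg ψ0 (Subtype.ext (commutatorElement_eq_one_iff_mul_comm.1 e))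

end CL.F3B
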