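/-
Groups with a `3`-centralizer of shape `3^(1+8).2^(1+6).PSp₄(3)`: frames of the top group, real elements.
-/
import Cfsg.Agent.F3C.LT
import Cfsg.Agent.F3C.B
import Cfsg.Agent.Rec.P43Main

set_option autoImplicit false
set_option linter.unusedSectionVars false

namespace CL.F3B

open Subgroup CL.F3C

attribute [-simp] LinearMap.sub_apply

universe u

theorem lf_inj {L L' : Type*} [Group L] [Group L'] {J : Subgroup L} {c j ρ τ : L} (h : LF J c j ρ τ) {e : L →* L'}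
    (he : Function.Injective e) : LF (J.map e) (e c) (e j) (e ρ) (e τ) where
  card := (card_map_of_injective he).trans h.card
  comm := by rintro _ ⟨a, ha, rfl⟩ _ ⟨b, hb, rfl⟩; exact (h.comm a ha b hb).map _
  exp := by rintro _ ⟨a, ha, rfl⟩; rw [← map_pow, h.exp a ha, map_one]
  cJ := ⟨c, h.cJ, rfl⟩
  jJ := ⟨j, h.jJ, rfl⟩
  c1 := (map_ne_one_iff e he).2 h.c1
  ρ3 := by rw [← map_pow, h.ρ3, map_one]
  ρJ := by rintro _ ⟨a, ha, rfl⟩; exact ⟨_, h.ρJ a ha, by simp⟩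
  ρc := h.ρc.map e
  ρj := by simpa using congrArg e h.ρj
  τ2 := by rw [← map_mul, h.τ2, map_one]
  τJ := by rintro _ ⟨a, ha, rfl⟩; exact ⟨_, h.τJ a ha, by simp⟩
  τc := h.τc.map e
  τj := by simpa using congrArg e h.τj

/-- frames of `PSp₄(3)` -/
theorem ltB {L : Type*} [Group L] {K : Type} [Field K] [Fintype K] (hK : Fintype.card K = 3)
    (e : L ≃* Cfsg.PSp 2 K) : Nat.card L = 25920 ∧ LT L fun _ _ _ _ _ => True := by
  have hc := CL.P43.card_PSp hK
  have hL : Nat.card L = 25920 := (Nat.card_congr e.toEquiv).trans hc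
  have : Finite (Cfsg.PSp 2 K) := Nat.finite_of_card_ne_zero (by omega)
  obtain ⟨S⟩ : Nonempty (Sylow 3 (Cfsg.PSp 2 K)) := inferInstance
  have : Nontrivial (S : Subgroup (Cfsg.PSp 2 K)) :=
    (nontrivial_iff_ne_bot _).2 (S.ne_bot_of_dvd_card (by rw [hc]; norm_num))
  have := S.isPGroup'.center_nontrivial
  obtain ⟨n, hn0, hn⟩ := (S.isPGroup'.to_subgroup (center _)).nontrivial_iff_card.1 this
  obtain ⟨⟨x, hx⟩, x3⟩ := exists_prime_orderOf_dvd_card' (G := center (S : Subgroup (Cfsg.PSp 2 K))) 3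
    (hn ▸ dvd_pow_self 3 hn0.ne')
  rw [orderOf_mk, ← orderOf_coe] at x3
  have hS : (S : Subgroup _) ≤ centralizer {(x : Cfsg.PSp 2 K)} := fun y hy =>
    mem_centralizer_singleton_iff.2 (congrArg Subtype.val (mem_center_iff.1 hx ⟨y, hy⟩))
  have lt := lThm.{0} _ K x hK x3 ⟨S, hS⟩ ⟨MulEquiv.refl _⟩
  have pg : ∀ {P : Subgroup L}, IsPGroup 3 P → ∃ f : centralizer {(x : Cfsg.PSp 2 K)} →* L,
      Function.Injective f ∧ (P.comap f).map f = P := fun {P} h => by
    obtain ⟨S', hS'⟩ := (h.map e.toMonoidHom).exists_le_sylow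
    obtain ⟨g, hg⟩ := MulAction.exists_smul_eq (Cfsg.PSp 2 K) S S'
    refine ⟨((MulAut.conj g).trans e.symm).toMonoidHom.comp (Subgroup.subtype _),
      ((MulAut.conj g).trans e.symm).injective.comp Subtype.val_injective, map_comap_eq_self fun y hy => ?_⟩
    obtain ⟨w, hw, e1⟩ : ∃ w ∈ (S : Subgroup _), g * w * g⁻¹ = e y := by
      have := hS' (mem_map_of_mem e.toMonoidHom hy)
      rw [← hg] at this
      exact this
    exact ⟨⟨w, hS hw⟩, by simp [e1]⟩
  refine ⟨hL, by rw [hL]; norm_num, fun P y hP hy y3 hc => ?_, fun J h1 h2 h3 => ?_⟩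
  · obtain ⟨f, hf, k⟩ := pg hP
    obtain ⟨y, hy', rfl⟩ := k.ge hy
    obtain ⟨J, c, j, ρ, τ, l, -, h1, h2⟩ := lt.fr (P.comap f) y (hP.comap_of_injective f hf) hy'
      (hf (by rw [map_pow, y3, map_one])) fun p hp => hf (by simpa using (hc _ hp).eq)
    refine ⟨_, _, _, _, _, lf_inj l hf, trivial, ?_, h2.imp (fun h => k ▸ map_mono h) fun h => ?_⟩
    · rw [← k, ← MonoidHom.map_zpowers, ← Subgroup.map_sup]
      exact map_mono h1
    · rw [← MonoidHom.map_zpowers]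
      exact mem_map_of_mem f h
  · obtain ⟨f, hf, k⟩ := pg (IsPGroup.of_card (n := 3) h1)
    obtain ⟨c, j, ρ, τ, l, -⟩ := lt.ea (J.comap f) (by rw [← card_map_of_injective hf, k, h1])
      (fun a ha b hb => hf (by simpa using (h2 _ ha _ hb).eq)) fun a ha => hf (by rw [map_pow, h3 _ ha, map_one])
    exact ⟨_, _, _, _, k ▸ lf_inj l hf, trivial⟩

variable {Γ V L : Type*} [Group Γ] [AddCommGroup V] [Module F V] [Group L] {r : Γ →* Module.End F V}
  {β : LinearMap.BilinForm F V} {R : Subgroup Γ} {s : Γ} {π : Γ →* L} {i j c : Fin 3 → Γ} {ρ t : Γ} {v0 : V}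
  (A : GA r β R s π) (f : Fr r R s i j c ρ t v0)
include A f

theorem b2 (a b : Fin 3) : β v0 (xo r (c a) (xo r (c b) v0)) = 0 := by
  have := A.skew v0 (xo r (c a) (xo r (c b) v0))
  rw [f.Xadj A, f.Xadj A, f.Xc A b a] at this
  revert this
  generalize β v0 _ = x; revert x; decide

/-- the values of the form `β v (y v)` on the kernel of `(y - 1)²` -/
theorem val_q {k : Fin 3 → ℕ} (hk : ∀ a, (k a : F) ≠ 0) {v : V}
    (h : r (cw c k) (r (cw c k) v) + r (cw c k) v + v = 0) :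
    β v (r (cw c k) v) = 0 ∨ β v (r (cw c k) v) = -((k 0 : F) * k 1 * k 2) * β v0 (ww r c v0) := by
  have h1 := f.sqz_w A h 0
  have h2 := f.sqz A h v0
  obtain ⟨a, l0, l1, l2, m0, m1, m2, d, rfl⟩ := f.span' A v
  have h0 := f.β0 A
  have k0 := hk 0; have k1 := hk 1; have k2 := hk 2
  simp only [f.r_cw A, map_add, map_smul, LinearMap.add_apply, LinearMap.smul_apply, f.Xadj A, f.XX, f.X10 A, f.X20 A,
    f.X21 A, map_zero, smul_zero, add_zero, b2 A f, smul_eq_mul, neg_zero, mul_zero, zero_add, neg_neg,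
    A.alt] at h1 h2 ⊢
  obtain rfl : a = 0 := by simpa [k1, k2, h0] using h1
  simp only [zero_mul, mul_zero, add_zero, zero_add] at h2 ⊢
  have h3 : (3 : F) = 0 := rfl
  generalize β v0 (ww r c v0) = x at h0 h2 ⊢
  have := (by decide +kernel : ∀ x k0 k1 k2 l0 l1 l2 : F, k0 ≠ 0 → k1 ≠ 0 → k2 ≠ 0 →
    (l0 * k1 * k2 + l1 * k0 * k2 + l2 * k0 * k1) * x = 0 → (k0 * l1 * l2 + k1 * l0 * l2 + k2 * l0 * l1) * x = 0 ∨
      (k0 * l1 * l2 + k1 * l0 * l2 + k2 * l0 * l1) * x = -(k0 * k1 * k2) * x) x _ _ _ l0 l1 l2 k0 k1 k2 (by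
    linear_combination 2 * h2 + (-3 * (l0 * k 1 * k 2 + l1 * k 0 * k 2 + l2 * k 0 * k 1) * x -
      2 * (l0 * β v0 (xo r (c 0) v0) + l1 * β v0 (xo r (c 1) v0) + l2 * β v0 (xo r (c 2) v0)) +
      2 * (m0 * k 0 + m1 * k 1 + m2 * k 2) * x - 2 * d * x) * h3)
  refine this.imp (fun e => ?_) fun e => ?_ <;>
    linear_combination e - ((k 0 : F) * l1 * l2 + k 1 * l0 * l2 + k 2 * l0 * l1) * x * h3

/-- the elements `c₀^± c₁^± c₂^±` are not real -/
theorem not_real {k : Fin 3 → ℕ} (hk : ∀ a, (k a : F) ≠ 0) : ¬ IsConj (cw c k) (cw c k)⁻¹ := fun h => by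
  obtain ⟨g, e⟩ := isConj_iff.1 h
  have h0 := f.β0 A
  have k0 := hk 0; have k1 := hk 1; have k2 := hk 2
  have h3 : (3 : F) = 0 := rfl
  let v := (k 1 : F) • xo r (c 1) v0 + (-k 2 : F) • xo r (c 2) v0
  have h1 : r (cw c k) (r (cw c k) v) + r (cw c k) v + v = 0 := by
    simp only [v, f.r_cw A, map_add, map_smul, f.XX, f.X10 A, f.X20 A, f.X21 A, map_zero, smul_zero, add_zero]
    match_scalars <;> (generalize (k 0 : F) = x; generalize (k 1 : F) = y; generalize (k 2 : F) = z; revert x y z; decide)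
  have h2 : β v (r (cw c k) v) = -((k 0 : F) * k 1 * k 2) * β v0 (ww r c v0) := by
    simp only [v, f.r_cw A, map_add, map_smul, LinearMap.add_apply, LinearMap.smul_apply, f.Xadj A, f.XX, f.X10 A,
      f.X20 A, f.X21 A, map_zero, smul_zero, add_zero, b2 A f, smul_eq_mul, neg_zero, mul_zero]
    linear_combination ((k 0 : F) * k 1 * k 2 * β v0 (ww r c v0)) * h3
  have e1 : ∀ u, r g (r (cw c k) u) = r (cw c k)⁻¹ (r g u) := fun u => by rw [← r_mul, ← r_mul, ← e]; group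
  have h4 := congrArg (fun u => r (cw c k) (r (cw c k) (r g u))) h1
  simp only [map_add, e1, r_inv', map_zero] at h4
  have h5 := val_q A f hk (v := r g v) (by rw [← h4]; abel)
  rw [A.skew, A.adj, ← e1, A.inv, h2] at h5
  revert h5 h0 k0 k1 k2
  generalize (k 0 : F) = x; generalize (k 1 : F) = y; generalize (k 2 : F) = z; generalize β v0 _ = w
  revert x y z w; decide

theorem span_a (a : Fin 3) (v : V) : ∃ b l0 l1 l2 m0 m1 m2 d : F, v = b • v0 + l0 • xo r (c a) v0 +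
    l1 • xo r (c (a + 1)) v0 + l2 • xo r (c (a + 2)) v0 + m0 • xo r (c (a + 1)) (xo r (c (a + 2)) v0) +
    m1 • xo r (c a) (xo r (c (a + 1)) v0) + m2 • xo r (c a) (xo r (c (a + 2)) v0) + d • ww r c v0 := by
  obtain ⟨b, l0, l1, l2, m0, m1, m2, d, rfl⟩ := f.span' A v
  fin_cases a
  · exact ⟨b, l0, l1, l2, m0, m2, m1, d, by simp only [Fin.zero_eta, zero_add]; abel⟩
  · exact ⟨b, l1, l2, l0, m1, m0, m2, d, by simp only [Fin.mk_one, Fin.reduceAdd, f.X10 A, f.X20 A]; abel⟩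
  · exact ⟨b, l2, l0, l1, m2, m1, m0, d, by simp only [Fin.reduceFinMk, Fin.reduceAdd, f.X20 A, f.X21 A]; abel⟩

theorem ker_a {a : Fin 3} {v : V} (h : xo r (c a) v = 0) : ∃ l m1 m2 d : F, v = l • xo r (c a) v0 +
    m1 • xo r (c a) (xo r (c (a + 1)) v0) + m2 • xo r (c a) (xo r (c (a + 2)) v0) + d • ww r c v0 := by
  obtain ⟨b, l0, l1, l2, m0, m1, m2, d, rfl⟩ := span_a A f a v
  have k1 := congrArg (xo r (c (a + 1))) h
  have k2 := congrArg (xo r (c (a + 2))) h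
  have k3 := congrArg (xo r (c (a + 1))) k2
  simp only [map_add, map_smul, f.XX, f.Xc A (a + 1) a, f.Xc A (a + 2) a, f.Xc A (a + 2) (a + 1), f.Xm A, f.Xw A,
    map_zero, smul_zero, add_zero] at h k1 k2 k3
  obtain rfl := f.smul_w A k3
  obtain rfl := f.smul_w A (a := l1) (by simpa using k2)
  obtain rfl := f.smul_w A (a := l2) (by simpa using k1)
  obtain rfl := f.smul_w A (a := m0) (by simpa using h)
  exact ⟨l0, m1, m2, d, by simp⟩

theorem card_Jb : Nat.card (f.Jb A) = 27 := by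
  rw [← Nat.card_eq_of_bijective (fun x : Fin 3 → F => (⟨cw c fun a => (x a).val, _, rfl⟩ : f.Jb A))
    ⟨fun x y e => funext fun a => by
      simpa using f.cw_inj A (k := fun a => (x a).val) (l := fun a => (y a).val) (congrArg Subtype.val e) a,
      fun ⟨_, k, e⟩ => ⟨fun a => k a, Subtype.ext ((f.cw_congr A (k := fun a => (k a : F).val) fun a => by simp).trans
        e.symm)⟩⟩]
  simp

theorem one_type [Finite Γ] [Finite V] {k : Fin 3 → ℕ} {a : Fin 3} (ha : (k a : F) ≠ 0) (e1 : (k (a + 1) : F) = 0)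
    (e2 : (k (a + 2) : F) = 0) : 81 ≤ {v | r (cw c k) v = v}.ncard ∧ ∀ D ≤ f.Jb A, cw c k ∈ D →
      D = zpowers (cw c k) ∨ {v | ∀ d ∈ D, r d v = v}.ncard * Nat.card D ≤ 81 := by
  have yx : ∀ v, r (cw c k) v = v ↔ xo r (c a) v = 0 := fun v => by simp [f.r_cw' A a, e1, e2, ha]
  refine ⟨?_, fun D hD hy => or_iff_not_imp_left.2 fun hne => ?_⟩
  · have := Set.ncard_le_ncard_of_injOn (s := (Set.univ : Set (F × F × F × F))) (t := {v | r (cw c k) v = v})
      (fun x => x.1 • xo r (c a) v0 + x.2.1 • xo r (c a) (xo r (c (a + 1)) v0) +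
        x.2.2.1 • xo r (c a) (xo r (c (a + 2)) v0) + x.2.2.2 • ww r c v0)
      (fun x _ => (yx _).2 (by simp [f.XX, f.Xw A])) fun ⟨x1, x2, x3, x4⟩ _ ⟨y1, y2, y3, y4⟩ _ h => by
        have k1 := congrArg (xo r (c (a + 1))) h
        have k2 := congrArg (xo r (c (a + 2))) h
        have k3 := congrArg (xo r (c (a + 1))) k2
        simp only [map_add, map_smul, f.XX, f.Xc A (a + 1) a, f.Xc A (a + 2) a, f.Xc A (a + 2) (a + 1), f.Xm A, f.Xw A,
          map_zero, smul_zero, add_zero] at h k1 k2 k3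
        have inj := smul_left_injective F f.w0
        obtain rfl := inj k3
        obtain rfl := inj (add_left_cancel k2)
        obtain rfl := inj (add_left_cancel k1)
        obtain rfl := inj (add_left_cancel h)
        rfl
    simpa [Set.ncard_univ] using this
  have key : ∀ l : Fin 3 → ℕ, cw c l ∈ D → ∀ x m1 m2 d : F, ∀ v ∈ {v | ∀ d ∈ D, r d v = v}, v = x • xo r (c a) v0 +
      m1 • xo r (c a) (xo r (c (a + 1)) v0) + m2 • xo r (c a) (xo r (c (a + 2)) v0) + d • ww r c v0 →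
      x * l (a + 1) = 0 ∧ x * l (a + 2) = 0 ∧ x * l (a + 1) * l (a + 2) + m1 * l (a + 2) + m2 * l (a + 1) = 0 := by
    rintro l hl x m1 m2 d _ hv rfl
    have h := sub_eq_zero.2 (hv _ hl)
    have k1 := congrArg (xo r (c (a + 1))) h
    have k2 := congrArg (xo r (c (a + 2))) h
    simp only [f.r_cw' A a, map_add, map_sub, map_smul, f.XX, f.Xc A (a + 1) a, f.Xc A (a + 2) a, f.Xc A (a + 2) (a + 1),
      f.Xm A, f.Xw A, map_zero, smul_zero, add_zero, zero_add] at h k1 k2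
    have h1 := f.smul_w A (a := x * l (a + 1)) (by rw [← k2]; module)
    have h2 := f.smul_w A (a := x * l (a + 2)) (by rw [← k1]; module)
    exact ⟨h1, h2, f.smul_w A (by
      linear_combination (norm := module) h - h1 • xo r (c a) (xo r (c (a + 1)) v0) - h2 • xo r (c a) (xo r (c (a + 2)) v0))⟩
  rcases le_or_gt (Nat.card D) 9 with h9 | h9
  · obtain ⟨d, hd, hd'⟩ := SetLike.exists_of_lt (lt_of_le_of_ne (zpowers_le.2 hy) (Ne.symm hne))
    obtain ⟨l, rfl⟩ := hD hd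
    have hl : ¬ ((l (a + 1) : F) = 0 ∧ (l (a + 2) : F) = 0) := fun h => hd' ⟨(l a * k a : ℕ), by
      simp only [zpow_natCast, f.cw_pow A]
      refine f.cw_congr A fun b => ?_
      obtain rfl | rfl | rfl := (by decide : ∀ a b : Fin 3, b = a ∨ b = a + 1 ∨ b = a + 2) a b
      · simp [mul_assoc, (by decide : ∀ x : F, x ≠ 0 → x * x = 1) _ ha]
      · simp [e1, h.1]
      · simp [e2, h.2]⟩
    have := Set.ncard_le_ncard (s := {v | ∀ d ∈ D, r d v = v}) (t := Set.univ.image fun x : F × F =>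
      (x.1 * l (a + 1)) • xo r (c a) (xo r (c (a + 1)) v0) + (-x.1 * l (a + 2)) • xo r (c a) (xo r (c (a + 2)) v0) +
        x.2 • ww r c v0) fun v hv => by
      obtain ⟨x, m1, m2, d, e⟩ := ker_a A f ((yx v).1 (hv _ hy))
      obtain ⟨rfl, n, rfl, rfl⟩ := (by decide : ∀ p q x m1 m2 : F, ¬ (p = 0 ∧ q = 0) →
        (x * p = 0 ∧ x * q = 0 ∧ x * p * q + m1 * q + m2 * p = 0) → x = 0 ∧ ∃ n, m1 = n * p ∧ m2 = -n * q)
        _ _ _ _ _ hl (key l hd x m1 m2 d v hv e)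
      exact ⟨(n, d), trivial, by simp [e]⟩
    have h2 := this.trans (Set.ncard_image_le (Set.toFinite _))
    simp only [Set.ncard_univ, Nat.card_prod, Nat.card_zmod] at h2
    exact Nat.mul_le_mul h2 h9
  · have h27 := card_dvd_of_le hD
    rw [card_Jb A f] at h27
    have h1 : Nat.card D = 27 := by
      have := Nat.le_of_dvd (by norm_num) h27
      interval_cases h : Nat.card D <;> first | rfl | omega
    obtain rfl := eq_of_le_of_card_ge hD (by rw [card_Jb A f, h1])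
    have := Set.ncard_le_ncard (s := {v | ∀ d ∈ f.Jb A, r d v = v}) (t := Set.univ.image fun x : F => x • ww r c v0)
      fun v hv => by
      obtain ⟨x, m1, m2, d, e⟩ := ker_a A f ((yx v).1 (hv _ hy))
      have k1 := key (Pi.single (a + 1) 1) ⟨_, rfl⟩ x m1 m2 d v hv e
      have k2 := key (Pi.single (a + 2) 1) ⟨_, rfl⟩ x m1 m2 d v hv e
      have n1 : a + 1 ≠ a + 2 := by simp
      simp [n1, n1.symm] at k1 k2
      exact ⟨d, trivial, by simp [e, k1, k2]⟩
    have h2 := this.trans (Set.ncard_image_le (Set.toFinite _))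
    simp only [Set.ncard_univ, Nat.card_zmod] at h2
    rw [h1]; omega

omit f in
/-- real elements of order three, for every top group -/
theorem b4B [Finite Γ] [Finite V] [Finite L] {X : Subgroup L → L → L → L → L → Prop}
    (hF : ∀ (J : Subgroup L) (c₀ j₀ ρ₀ τ₀ : L) (P : Subgroup Γ), LF J c₀ j₀ ρ₀ τ₀ → IsPGroup 3 P →
      P.map π ≤ J ⊔ zpowers ρ₀ → ∃ (i j c : Fin 3 → Γ) (ρ t : Γ) (v0 : V), Fr r R s i j c ρ t v0 ∧ Fit π J c₀ j₀ ρ₀ τ₀ P c ρ t)
    (hL : LT L X) : B4 r β := by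
  intro P y h hy
  obtain ⟨J, c₀, j₀, ρ₀, τ₀, i, j, c, ρ, t, v0, f, k, -, -, -, rfl, hP⟩ := getFr A hF hL h
  have hk : ¬ ∀ a, (k a : F) ≠ 0 := fun hk => not_real A f hk hy
  have hJ : P ≤ f.Jb A := hP.resolve_right fun ⟨m, e⟩ => hk (by
    obtain ⟨a, ha⟩ := f.cw_ne A h.y1
    subst e; exact fun _ => ha)
  rcases (by decide : ∀ κ : Fin 3 → F, (∃ a, κ a ≠ 0) → ¬ (∀ a, κ a ≠ 0) → (∃ m, κ m = 0 ∧ κ (m + 1) ≠ 0 ∧ κ (m + 2) ≠ 0) ∨
    ∃ a, κ a ≠ 0 ∧ κ (a + 1) = 0 ∧ κ (a + 2) = 0) (fun a => k a) (f.cw_ne A h.y1) hk with ⟨m, m0, m1, m2⟩ | ⟨a, a0, a1, a2⟩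
  · refine .inl ⟨fun p hp p' hp' => ?_, (k (m + 1) : F) • xo r (c (m + 1)) v0 + (-k (m + 2) : F) • xo r (c (m + 2)) v0,
      xo r (c m) ((k (m + 1) : F) • xo r (c (m + 1)) v0 + (-k (m + 2) : F) • xo r (c (m + 2)) v0), ?_, ?_, ?_⟩
    · obtain ⟨l, rfl⟩ := hJ hp
      obtain ⟨l', rfl⟩ := hJ hp'
      exact f.cw_comm A l l'
    · simp only [f.r_cw' A m, m0, f.XX, f.Xc A (m + 2) (m + 1), map_add, map_smul, map_zero, smul_zero]
      module
    · simp only [f.r_cw' A m, m0, f.XX, f.Xc A (m + 2) (m + 1), f.Xc A (m + 1) m, f.Xc A (m + 2) m, map_add, map_smul,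
        map_zero, smul_zero]
      module
    · simp only [map_add, map_smul, LinearMap.add_apply, LinearMap.smul_apply, f.Xadj A, f.XX, f.Xc A (m + 2) (m + 1),
        f.Xc A (m + 1) m, f.Xc A (m + 2) m, f.Xm A, map_zero, smul_eq_mul]
      have := f.β0 A
      revert this m1 m2
      generalize β v0 (ww r c v0) = x; generalize (k (m + 1) : F) = y; generalize (k (m + 2) : F) = z
      revert x y z; decide
  · exact .inr ⟨(one_type A f a0 a1 a2).1, fun D hD => (one_type A f a0 a1 a2).2 D (hD.trans hJ)⟩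

end CL.F3B
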