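/-
The recognition of the Baby Monster from a `3`-centralizer, from the recognition of `²E₆(2)`.
-/
import Cfsg.Agent.F3C.Loc
import Cfsg.Agent.F3C.Set
import Cfsg.Agent.F3C.BL
import Cfsg.Agent.F3C.BGood
import Cfsg.Agent.F3C.BFin
import Cfsg.Statements.S2915

set_option autoImplicit false

namespace CL.F3B

open Subgroup CL.F3C

universe u

theorem s2915_of (h37 : type_of% @Cfsg.CfsgFrozen.S3337.{u}) (h71 : type_of% @Cfsg.CfsgFrozen.S3271.{u, 0})
    (h84 : type_of% @Cfsg.CfsgFrozen.S2084) : type_of% @Cfsg.CfsgFrozen.S2915.{u} := by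
  intro G _ _ hO S Z hZS hZ hQ hQc _ hexp hFR hR hRc _ _ hTop hwc
  obtain ⟨z, Q, V, _, _, _, p, φ, r, β, s, rfl, h, A⟩ := setThm G Z hZ hQ hQc hexp hFR hR hRc
  obtain ⟨K, _, _, k1, ⟨k2⟩⟩ := hTop
  obtain ⟨cL, lt⟩ := ltB k1 k2
  have cΓ := card_eq_card_quotient_mul_card_subgroup (Cfsg.pCore 2 (centralizer (zpowers z : Set G) ⧸
    Cfsg.generalizedFittingSubgroup (centralizer (zpowers z : Set G))))
  rw [cL, hRc] at cΓ
  have gf : GF r β s (GoodB r β) := gf_of A lt (b4B A (frThm fr0Thm _ V _ r β _ s _ A) lt)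
    fun i j c ρ t v0 J c₀ j₀ ρ₀ τ₀ f _ _ _ => goodB A f (by rw [cΓ]; norm_num)
  obtain ⟨t, y, e, e', two, D, good⟩ := h.two A gf S hZS hwc
  exact finB h71 h84 h A hO two good (kB h37 h two good)

end CL.F3B
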